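import Cfsg.Agent.Lib.BenderOne.NodeA.CharPTools
import Cfsg.Agent.Lib.BenderOne8.Basic

/-!
# Bender's theorem, part I, node A: steps 2a-2c

A full subgroup and its point stabilisers are of characteristic `p`.
-/

set_option autoImplicit false
set_option linter.style.haveILetI false
set_option linter.unusedSectionVars false

namespace Cfsg.Agent.Lib.BenderOne.NodeA

open Subgroup MulAction
open Cfsg.Agent.Lib.Involutions.Basic Cfsg.Agent.Lib.BenderOne20
open Cfsg.Agent.Lib.BenderOne.NoBadProof (core invGen invGen_le mem_invGen normalizer_ne_top)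

universe u v

namespace CharPProof

variable {G : Type u} {Ω : Type v} [Group G] [MulAction G Ω] [Finite G] {M : Subgroup G} {p : ℕ}
  [Fact p.Prime]

omit [MulAction G Ω] [Fact p.Prime] [Finite G] in
theorem normalizer_le_normalizer_centralizer (X : Subgroup G) :
    normalizer (X : Set G) ≤ normalizer (centralizer (X : Set G) : Set G) := by
  rw [Subgroup.le_normalizer_iff]
  intro g hg c hc
  rw [mem_centralizer_iff]
  intro x hx
  have := mem_centralizer_iff.1 hc _ ((mem_normalizer_iff''.1 hg x).1 hx)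
  calc x * (g * c * g⁻¹) = g * (g⁻¹ * x * g * c) * g⁻¹ := by group
    _ = g * (c * (g⁻¹ * x * g)) * g⁻¹ := by rw [this]
    _ = g * c * g⁻¹ * x := by group

omit [MulAction G Ω] [Fact p.Prime] in
theorem odd_sup {X Y : Subgroup G} (hYX : Y ≤ normalizer (X : Set G)) (hX : Odd (Nat.card X))
    (hY : Odd (Nat.card Y)) : Odd (Nat.card ↥(X ⊔ Y : Subgroup G)) := by
  refine (odd_card_iff_no_invol _).2 fun i hi h2 => ?_
  rw [← SetLike.mem_coe, Subgroup.coe_mul_of_right_le_normalizer_left _ _ hYX, Set.mem_mul] at hi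
  obtain ⟨x, hx, y, hy, rfl⟩ := hi
  have h1 : x * (y * x * y⁻¹) * (y * y) = 1 := by
    rw [← invol_mul_self h2]; group
  have hyy : y * y ∈ X := by
    rw [eq_inv_of_mul_eq_one_right h1]
    exact inv_mem (mul_mem hx ((mem_normalizer_iff.1 (hYX hy) x).1 hx))
  obtain ⟨k, hk⟩ := hY.of_dvd_nat (Y.orderOf_dvd_natCard hy)
  have hyX : y ∈ X := by
    have h := pow_mem hyy (k + 1)
    rwa [← pow_two, ← pow_mul, show 2 * (k + 1) = orderOf y + 1 by omega, pow_succ,
      pow_orderOf_eq_one, one_mul] at h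
  exact (odd_card_iff_no_invol X).1 hX _ (mul_mem hx hyX) h2

omit [MulAction G Ω] [Fact p.Prime] [Finite G] in
theorem mem_normalizer_of_invol {X : Subgroup G} {e : G} (he : orderOf e = 2)
    (h : ∀ x ∈ X, e * x * e⁻¹ ∈ X) : e ∈ normalizer (X : Set G) := by
  refine mem_normalizer_iff.2 fun x => ⟨h x, fun hx => ?_⟩
  have := h _ hx
  rwa [invol_inv he, show e * (e * x * e) * e = (e * e) * x * (e * e) by group, invol_mul_self he,
    one_mul, mul_one] at this

omit [MulAction G Ω] [Fact p.Prime] in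
theorem normalizer_le_core (D : Subgroup G) :
    normalizer (D : Set G) ≤ normalizer (core p D : Set G) := by
  intro g hg
  rw [mem_normalizer_iff_map_conj_eq] at hg ⊢
  exact (Balance.map_coreIn (MulAut.conj g) D).trans (congrArg (core p) hg)

omit [MulAction G Ω] [Fact p.Prime] [Finite G] in
theorem normalizer_le_pCoreIn (D : Subgroup G) :
    normalizer (D : Set G) ≤ normalizer (pCoreIn p D : Set G) := by
  intro g hg
  rw [mem_normalizer_iff_map_conj_eq] at hg ⊢
  exact (map_pCoreIn D g).trans (congrArg (pCoreIn p) hg)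

omit [Fact p.Prime] [Finite G] in
theorem map_pCoreIn_stab (g : G) (z : Ω) :
    (pCoreIn p (stabilizer G z)).map (MulAut.conj g).toMonoidHom =
      pCoreIn p (stabilizer G (g • z)) := by
  rw [stabilizer_smul_eq_stabilizer_map_conj]
  exact map_pCoreIn _ g

omit [MulAction G Ω] in
/-- In an odd group with trivial `O_{p'}` the elements centralising `O_p` lie in it. -/
theorem mem_pCoreIn_of_centralizes {D : Subgroup G} (hD : Odd (Nat.card D))
    (hcore : core p D = ⊥) {Y : Subgroup G} (hY : pCoreIn p D ≤ Y) {g : G} (hg : g ∈ D)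
    (hgY : g ∈ centralizer (Y : Set G)) : g ∈ pCoreIn p D := by
  haveI := LocalTools.isSolvable_odd hD
  have hO : Cfsg.pPrimeCore p ↥D = ⊥ :=
    (Subgroup.map_eq_bot_iff_of_injective _ D.subtype_injective).1 hcore
  refine ⟨⟨g, hg⟩, PSolvable.centralizer_pCore_le PSolvable.isPSolvable_of_isSolvable hO ?_, rfl⟩
  exact mem_centralizer_iff.2 fun x hx =>
    Subtype.ext (mem_centralizer_iff.1 hgY _ (hY ⟨x, hx, rfl⟩))

variable (hC : Ctx G Ω) (hM : Full G Ω M) (hA : Active p M)
include hC hM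

omit [Fact p.Prime] in
theorem invAt_mem {c : Ω} (hc : c ∈ delta Ω M) {s : G} (hs : s ∈ invAt G c) : s ∈ M := by
  obtain ⟨x, hx, y, hy, hxy⟩ := hM.many
  obtain ⟨d, hd, hdc⟩ : ∃ d ∈ delta Ω M, c ≠ d := by
    by_cases h : c = x
    · exact ⟨y, hy, h ▸ hxy⟩
    · exact ⟨x, hx, h⟩
  obtain ⟨s0, hs0, hs0M⟩ := hc
  obtain ⟨g, hg, rfl⟩ := hC.oneFix.pairStab_conj_invAt hdc hs0 hs
  have hgM := hM.pair_le c ⟨s0, hs0, hs0M⟩ d hd hdc hg
  exact mul_mem (mul_mem hgM hs0M) (inv_mem hgM)

omit [Fact p.Prime] hM in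
theorem four_at (c : Ω) : ∃ a ∈ invAt G c, ∃ b ∈ invAt G c, a ≠ b ∧ a * b = b * a := by
  obtain ⟨a, -, b, -, h⟩ := hC.four
  exact Triangle.four_at hC.oneFix ⟨a, b, h⟩ c

omit [Fact p.Prime] in
theorem shape : Shape G Ω M := hC.shape M hM.toBig

omit [Fact p.Prime] in
theorem oddIn_le_stab {c : Ω} (hc : c ∈ delta Ω M) : oddIn M ≤ stabilizer G c :=
  (shape hC hM).fix c hc

omit [Fact p.Prime] in
theorem not_le_stab (c : Ω) : ¬ M ≤ stabilizer G c := by
  obtain ⟨x, ⟨s, hs, hsM⟩, y, ⟨t, ht, htM⟩, hxy⟩ := hM.many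
  intro h
  exact hxy ((hC.oneFix.eq_of_fix hs.1 hs.2 (h hsM)).trans
    (hC.oneFix.eq_of_fix ht.1 (h htM) ht.2))

include hA

omit [Fact p.Prime] in
theorem moves {s : G} (hs : s ∈ M) (hs2 : orderOf s = 2) : ∃ a ∈ pCoreIn p M, s * a ≠ a * s := by
  obtain ⟨x, hxM, hx, y, hy, hne⟩ := hA
  obtain ⟨g, hg, rfl⟩ := (shape hC hM).conj x hxM s hs hx hs2
  refine ⟨g * y * g⁻¹, (mem_normalizer_iff.1 (le_normalizer_subtype _ hg) y).1 hy, fun h => hne ?_⟩
  have h2 := congrArg (fun z => g⁻¹ * z * g) h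
  simpa [mul_assoc] using h2

theorem odd_A : Odd (Nat.card ↥(pCoreIn p M)) := by
  refine (odd_card_iff_no_invol _).2 fun i hi hi2 => ?_
  obtain ⟨x, ⟨s, hs, hsM⟩, y, ⟨t, ht, htM⟩, hxy⟩ := hM.many
  have hall : ∀ w ∈ M, orderOf w = 2 → w ∈ pCoreIn p M := fun w hw hw2 => by
    obtain ⟨g, hg, rfl⟩ := (shape hC hM).conj i (map_subtype_le _ hi) w hw hi2 hw2
    exact (mem_normalizer_iff.1 (le_normalizer_subtype _ hg) i).1 hi
  have hpow : ∀ z ∈ pCoreIn p M, ∃ k, orderOf z = p ^ k := fun z hz => by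
    obtain ⟨k, hk⟩ := IsPGroup.iff_orderOf.1 (isPGroup_pCoreIn M) ⟨z, hz⟩
    exact ⟨k, by rwa [Subgroup.orderOf_mk] at hk⟩
  obtain ⟨k, hk⟩ := hpow i hi
  have hp2 : p = 2 := by
    rw [hi2] at hk
    exact ((Nat.Prime.pow_eq_iff Nat.prime_two).1 hk.symm).1
  obtain ⟨j, hj⟩ := hpow _ (mul_mem (hall s hsM hs.1) (hall t htM ht.1))
  have hodd := hC.oneFix.odd_mul hs ht hxy
  rw [hj, hp2] at hodd
  have hj0 : j = 0 := by
    by_contra h0
    exact (Nat.not_even_iff_odd.2 hodd) (Nat.even_pow.2 ⟨even_two, h0⟩)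
  have hst : s * t = 1 := orderOf_eq_one_iff.1 (by rw [hj, hj0, pow_zero])
  have hts : s = t := by rw [eq_inv_of_mul_eq_one_left hst, invol_inv ht.1]
  exact hxy (hC.oneFix.eq_of_fix hs.1 hs.2 (hts ▸ ht.2))

theorem A_le_oddIn : pCoreIn p M ≤ oddIn M :=
  le_oddIn (map_subtype_le _) (le_normalizer_subtype _) (odd_A hC hM hA)

omit [Fact p.Prime] in
theorem A_ne_bot : pCoreIn p M ≠ ⊥ := by
  obtain ⟨x, _, _, y, hy, hne⟩ := hA
  intro h
  rw [h, mem_bot] at hy
  exact hne (by rw [hy, mul_one, one_mul])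

theorem p_ne_two : p ≠ 2 := by
  refine LocalTools.ne_two_of_dvd (odd_A hC hM hA) ?_
  obtain ⟨k, hk⟩ := (isPGroup_pCoreIn (p := p) M).exists_card_eq
  rw [hk]
  refine dvd_pow_self p fun h0 => A_ne_bot hC hM hA ?_
  rw [h0, pow_zero] at hk
  exact Subgroup.eq_bot_of_card_eq _ hk

theorem centralizer_A {g : G} (hg : g ∈ centralizer (pCoreIn p M : Set G)) : g ∈ oddIn M := by
  haveI := hC.simple
  obtain ⟨c, hc, -⟩ := hM.many
  have hN : normalizer (pCoreIn p M : Set G) = M := by
    refine (lt_or_eq_of_le (le_normalizer_subtype (Cfsg.pCore p ↥M))).elim (fun h => ?_) Eq.symm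
    exact absurd (hM.coatom.2 _ h) (normalizer_ne_top hC.oneFix (A_ne_bot hC hM hA)
      ((A_le_oddIn hC hM hA).trans (oddIn_le_stab hC hM hc)))
  have hle : centralizer (pCoreIn p M : Set G) ≤ M :=
    (centralizer_le_normalizer _).trans hN.le
  refine le_oddIn hle ?_ ((odd_card_iff_no_invol _).2 fun i hi hi2 => ?_) hg
  · exact hN.ge.trans (normalizer_le_normalizer_centralizer _)
  · obtain ⟨a, ha, hne⟩ := moves hC hM hA (hle hi) hi2
    exact hne (mem_centralizer_iff.1 hi a ha).symm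

variable {c : Ω} (hc : c ∈ delta Ω M)
include hc

theorem A_le_stab : pCoreIn p M ≤ stabilizer G c :=
  (A_le_oddIn hC hM hA).trans (oddIn_le_stab hC hM hc)

/-- `[A, e] ≤ O_p(G_c)`. -/
theorem comm_mem {e : G} (he : e ∈ invAt G c) {a : G} (ha : a ∈ pCoreIn p M) :
    a⁻¹ * (e * a * e⁻¹) ∈ pCoreIn p (stabilizer G c) := by
  set I := closure (invAt G c) with hI
  have hIc : I ≤ stabilizer G c := (closure_le _).2 fun s hs => hs.2
  have hIM : I ≤ M := (closure_le _).2 fun s hs => invAt_mem hC hM hc hs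
  have hIn : stabilizer G c ≤ normalizer (I : Set G) := by
    rw [Subgroup.le_normalizer_iff]
    intro g hg x hx
    have hle : I ≤ I.comap (MulAut.conj g).toMonoidHom := (closure_le _).2 fun s hs => by
      refine subset_closure ?_
      have := OneFix.conj_mem_invAt (g := g) hs
      rwa [mem_stabilizer_iff.1 hg] at this
    exact hle hx
  have h1 : pCoreIn p I ≤ pCoreIn p (stabilizer G c) :=
    le_pCoreIn ((map_subtype_le _).trans hIc) (hIn.trans (normalizer_le_pCoreIn I))
      (isPGroup_pCoreIn I)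
  refine h1 (le_pCoreIn (N := pCoreIn p M ⊓ I) inf_le_right
    (Lib.Coprime.le_normalizer_inf (hIM.trans (le_normalizer_subtype _)) le_normalizer)
    ((isPGroup_pCoreIn M).to_le inf_le_left) (mem_inf.2 ⟨?_, ?_⟩))
  · exact mul_mem (inv_mem ha)
      ((mem_normalizer_iff.1 (le_normalizer_subtype _ (invAt_mem hC hM hc he)) a).1 ha)
  · have h2 := OneFix.conj_mem_invAt (g := a⁻¹) he
    rw [inv_smul_eq_iff.2 (mem_stabilizer_iff.1 (A_le_stab hC hM hA hc ha)).symm, inv_inv] at h2
    have := mul_mem (subset_closure h2 : a⁻¹ * e * a ∈ I) (inv_mem (subset_closure he : e ∈ I))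
    simpa [mul_assoc] using this

theorem U_inf_le : pCoreIn p (stabilizer G c) ⊓ M ≤ pCoreIn p M := by
  have hn : M ⊓ stabilizer G c ≤
      normalizer ((pCoreIn p (stabilizer G c) ⊓ M : Subgroup G) : Set G) :=
    Lib.Coprime.le_normalizer_inf (inf_le_right.trans (le_normalizer_subtype _))
      (inf_le_left.trans le_normalizer)
  have hpg : IsPGroup p ↥(pCoreIn p (stabilizer G c) ⊓ M : Subgroup G) :=
    (isPGroup_pCoreIn _).to_le inf_le_left
  have hK := (shape hC hM).odd_normal c hc _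
    (le_inf inf_le_right (inf_le_left.trans (map_subtype_le _)))
    (BenderOne8.odd_of_isPGroup (p_ne_two hC hM hA) hpg) hn
  refine (le_pCoreIn hK ((le_inf (map_subtype_le _) (oddIn_le_stab hC hM hc)).trans hn) hpg).trans
    (le_pCoreIn ((map_subtype_le _).trans (map_subtype_le _))
      ((le_normalizer_subtype _).trans (normalizer_le_pCoreIn _)) (isPGroup_pCoreIn _))

theorem U_le_A : pCoreIn p (stabilizer G c) ≤ pCoreIn p M := by
  set U := pCoreIn p (stabilizer G c)
  set A := pCoreIn p M with hAdef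
  have hAU : A ≤ normalizer (U : Set G) :=
    (A_le_stab hC hM hA hc).trans (le_normalizer_subtype _)
  by_contra hle
  have hlt : A < U ⊔ A := lt_of_le_of_ne le_sup_right fun h => hle (le_sup_left.trans h.ge)
  obtain ⟨g, hg, hgA⟩ := SetLike.exists_of_lt (Fusion.Alperin.lt_inf_normalizer
    ((isPGroup_pCoreIn _).to_sup_of_normal_left' (isPGroup_pCoreIn _) hAU) hlt)
  have hgM : g ∈ M := by
    haveI := hC.simple
    refine (?_ : normalizer (A : Set G) ≤ M) hg.2
    refine (lt_or_eq_of_le (le_normalizer_subtype (Cfsg.pCore p ↥M))).elim (fun h => ?_)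
      fun h => h.ge
    exact absurd (hM.coatom.2 _ h) (normalizer_ne_top hC.oneFix (A_ne_bot hC hM hA)
      (A_le_stab hC hM hA hc))
  have hg' : g ∈ ((U ⊔ A : Subgroup G) : Set G) := hg.1
  rw [Subgroup.coe_mul_of_right_le_normalizer_left _ _ hAU, Set.mem_mul] at hg'
  obtain ⟨t, ht, a, ha, rfl⟩ := hg'
  have htM : t ∈ M := (mul_mem_cancel_right (map_subtype_le _ ha)).1 hgM
  exact hgA (mul_mem (U_inf_le hC hM hA hc ⟨ht, htM⟩) ha)

theorem U_ne_bot : pCoreIn p (stabilizer G c) ≠ ⊥ := by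
  obtain ⟨e, he, -⟩ := four_at hC c
  obtain ⟨a, ha, hne⟩ := moves hC hM hA (invAt_mem hC hM hc he) he.1
  intro h
  have h1 := comm_mem hC hM hA hc he ha
  rw [h, mem_bot, inv_mul_eq_one, eq_comm, mul_inv_eq_iff_eq_mul] at h1
  exact hne h1

/-- No involution fixing `c` centralises `O_p(G_c)`. -/
theorem no_invol {i : G} (hi : i ∈ invAt G c)
    (hiU : i ∈ centralizer (pCoreIn p (stabilizer G c) : Set G)) : False := by
  have hiM := invAt_mem hC hM hc hi
  obtain ⟨a, ha, hne⟩ := moves hC hM hA hiM hi.1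
  set y := a⁻¹ * (i * a * i⁻¹) with hy
  have hyU := comm_mem hC hM hA hc hi ha
  have h1 : i * y * i⁻¹ = y⁻¹ := by
    rw [hy]
    simp only [mul_inv_rev, inv_inv, invol_inv hi.1]
    rw [show i * (a⁻¹ * (i * a * i)) * i = i * a⁻¹ * i * a * (i * i) by group,
      invol_mul_self hi.1, mul_one]
    group
  rw [← mem_centralizer_iff.1 hiU y hyU, mul_inv_cancel_right] at h1
  have h2 : orderOf y ∣ 2 :=
    orderOf_dvd_of_pow_eq_one (by rw [pow_two]; exact mul_eq_one_iff_eq_inv.2 h1)
  have hy1 : y = 1 := orderOf_eq_one_iff.1 (Nat.Coprime.eq_one_of_dvd (Nat.coprime_two_right.2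
    ((odd_A hC hM hA).of_dvd_nat
      ((pCoreIn p M).orderOf_dvd_natCard (U_le_A hC hM hA hc hyU)))) h2)
  rw [hy, inv_mul_eq_one, eq_comm, mul_inv_eq_iff_eq_mul] at hy1
  exact hne hy1

theorem centralizer_U_le : centralizer (pCoreIn p (stabilizer G c) : Set G) ≤ stabilizer G c := by
  haveI := hC.simple
  refine (centralizer_le_normalizer _).trans ?_
  refine (lt_or_eq_of_le (le_normalizer_subtype (Cfsg.pCore p ↥(stabilizer G c)))).elim
    (fun h => ?_) fun h => h.ge
  exact absurd ((hC.maximal c).2 _ h)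
    (normalizer_ne_top hC.oneFix (U_ne_bot hC hM hA hc) (map_subtype_le _))

theorem odd_centralizer_U :
    Odd (Nat.card ↥(centralizer (pCoreIn p (stabilizer G c) : Set G))) :=
  (odd_card_iff_no_invol _).2 fun i hi hi2 =>
    no_invol hC hM hA hc ⟨hi2, centralizer_U_le hC hM hA hc hi⟩ hi

theorem stab_le_normalizer_centralizer_U :
    stabilizer G c ≤ normalizer (centralizer (pCoreIn p (stabilizer G c) : Set G) : Set G) :=
  (le_normalizer_subtype _).trans (normalizer_le_normalizer_centralizer _)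

theorem core_le_centralizer_U :
    core p (stabilizer G c) ≤ centralizer (pCoreIn p (stabilizer G c) : Set G) := by
  intro r hr
  refine mem_centralizer_iff.2 fun y hy => ?_
  exact commute_of_normalize ((map_subtype_le _).trans (le_normalizer_subtype _))
    ((map_subtype_le _).trans (le_normalizer_subtype _))
    (inf_eq_bot_of_coprime (isPGroup_pCoreIn _) (Balance.not_dvd_card_coreIn _)) hy hr

omit hc in
/-- The cores of two fixed points meet. -/
theorem exists_inter : ∀ a ∈ delta Ω M, ∀ b ∈ delta Ω M, a ≠ b →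
    pCoreIn p (stabilizer G a) ⊓ pCoreIn p (stabilizer G b) ≠ ⊥ := by
  have hconj : ∀ (g : G) (z : Ω), (pCoreIn p (stabilizer G z)).map (MulAut.conj g).toMonoidHom =
      pCoreIn p (stabilizer G (g • z)) := map_pCoreIn_stab
  intro a ha b hb hab hbot
  have hall : ∀ x ∈ delta Ω M, ∀ y ∈ delta Ω M, x ≠ y →
      pCoreIn p (stabilizer G x) ⊓ pCoreIn p (stabilizer G y) = ⊥ := by
    intro x hx y hy hxy
    obtain ⟨g, -, rfl, rfl⟩ := (shape hC hM).two_trans a ha b hb x hx y hy hab hxy
    rw [← hconj, ← hconj, ← Subgroup.map_inf _ _ _ (MulAut.conj g).injective, hbot,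
      Subgroup.map_bot]
  obtain ⟨e, he, f, hf, hef, hcom⟩ := four_at hC a
  set U := pCoreIn p (stabilizer G a)
  set V := pCoreIn p (stabilizer G b)
  have hinv : ∀ s ∈ invAt G a, ∀ y ∈ U, s * y * s⁻¹ = y⁻¹ := by
    intro s hs y hy
    have hsb : s • b ≠ b := fun h => hab (hC.oneFix.eq_of_fix hs.1 hs.2 h)
    have hsM := invAt_mem hC hM ha hs
    let φ : V → U := fun z => ⟨(z : G)⁻¹ * (s * z * s⁻¹),
      comm_mem hC hM hA ha hs (U_le_A hC hM hA hb z.2)⟩
    have hinj : Function.Injective φ := by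
      intro z w h
      have h' : (z : G)⁻¹ * (s * z * s⁻¹) = (w : G)⁻¹ * (s * w * s⁻¹) := congrArg Subtype.val h
      set d := (w : G) * (z : G)⁻¹ with hd
      have hfix : s * d * s⁻¹ = d := by
        have e1 : s * z * s⁻¹ = z * ((w : G)⁻¹ * (s * w * s⁻¹)) := by rw [← h']; group
        rw [hd, show s * ((w : G) * (z : G)⁻¹) * s⁻¹ = (s * w * s⁻¹) * (s * z * s⁻¹)⁻¹ by group,
          e1]
        group
      have hd' : d ∈ pCoreIn p (stabilizer G (s • b)) := by
        rw [← hconj, ← hfix]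
        exact ⟨d, mul_mem w.2 (inv_mem z.2), rfl⟩
      have hd1 : d = 1 := by
        have := hall b hb (s • b) ((shape hC hM).smul_mem s hsM b hb) (fun h => hsb h.symm)
        rw [← mem_bot, ← this]
        exact mem_inf.2 ⟨mul_mem w.2 (inv_mem z.2), hd'⟩
      rw [hd, mul_inv_eq_one] at hd1
      exact Subtype.ext hd1.symm
    obtain ⟨g, -, hga, -⟩ := (shape hC hM).two_trans a ha b hb b hb a ha hab hab.symm
    have hcard : Nat.card U = Nat.card V := by
      show Nat.card U = Nat.card ↥(pCoreIn p (stabilizer G b))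
      rw [← hga, ← hconj]
      exact (Subgroup.card_map_of_injective (MulAut.conj g).injective).symm
    obtain ⟨z, hz⟩ := (hinj.bijective_of_nat_card_le hcard.le).2 ⟨y, hy⟩
    obtain rfl : (z : G)⁻¹ * (s * z * s⁻¹) = y := congrArg Subtype.val hz
    rw [invol_inv hs.1, show s * ((z : G)⁻¹ * (s * z * s)) * s =
      s * (z : G)⁻¹ * s * z * (s * s) by group, invol_mul_self hs.1, mul_one, mul_inv_rev,
      mul_inv_rev, mul_inv_rev, invol_inv hs.1, inv_inv]
    group
  refine no_invol hC hM hA ha (i := e * f) ⟨?_, ?_⟩ (mem_centralizer_iff.2 fun y hy => ?_)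
  · exact orderOf_eq_prime (by
      rw [(show Commute e f from hcom).mul_pow, pow_two, pow_two, invol_mul_self he.1,
        invol_mul_self hf.1, one_mul]) fun h => hef (by
      rw [eq_inv_of_mul_eq_one_left h, invol_inv hf.1])
  · rw [mul_smul, hf.2, he.2]
  · have h1 : e * f * y * (e * f)⁻¹ = y := by
      rw [show e * f * y * (e * f)⁻¹ = e * (f * y * f⁻¹) * e⁻¹ by group, hinv f hf y hy]
      rw [show e * y⁻¹ * e⁻¹ = (e * y * e⁻¹)⁻¹ by group, hinv e he y hy, inv_inv]
    exact (mul_inv_eq_iff_eq_mul.1 h1).symm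

/-- `O_{p'}(G_c)` fixes every other point of `Δ`. -/
theorem core_le_stab (hL : PropNormFix G Ω) (hW : PropChainFix G Ω) {d : Ω} (hd : d ∈ delta Ω M)
    (hdc : d ≠ c) : core p (stabilizer G c) ≤ stabilizer G d := by
  haveI := hC.simple
  have hp : p.Prime := Fact.out
  set R := core p (stabilizer G c)
  set A := pCoreIn p M
  have hRodd : Odd (Nat.card R) := (odd_centralizer_U hC hM hA hc).of_dvd_nat
    (card_dvd_of_le (core_le_centralizer_U hC hM hA hc))
  have hRcop : ¬ p ∣ Nat.card R := Balance.not_dvd_card_coreIn _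
  obtain ⟨e, he, f, hf, hef, hcom⟩ := four_at hC d
  have heM := invAt_mem hC hM hd he
  have hfM := invAt_mem hC hM hd hf
  have hec : e • c ≠ c := fun h => hdc (hC.oneFix.eq_of_fix he.1 he.2 h)
  have hc' := (shape hC hM).smul_mem e heM c hc
  set X := pCoreIn p (stabilizer G c) ⊓ pCoreIn p (stabilizer G (e • c)) with hX
  have hX0 : X ≠ ⊥ := exists_inter hC hM hA c hc (e • c) hc' (fun h => hec h.symm)
  have hXd : X ≤ stabilizer G d :=
    inf_le_left.trans ((U_le_A hC hM hA hc).trans (A_le_stab hC hM hA hd))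
  set N := normalizer (X : Set G)
  have hNtop : N ≠ ⊤ := normalizer_ne_top hC.oneFix hX0 hXd
  have hRN : R ≤ N := ((core_le_centralizer_U hC hM hA hc).trans
    (centralizer_le (SetLike.coe_subset_coe.2 inf_le_left))).trans (centralizer_le_normalizer _)
  have hAN : A ≤ N := Lib.Coprime.le_normalizer_inf
    ((A_le_stab hC hM hA hc).trans (le_normalizer_subtype _))
    ((A_le_stab hC hM hA hc').trans (le_normalizer_subtype _))
  have heN : e ∈ N := by
    rw [mem_normalizer_iff_map_conj_eq, hX]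
    exact ((Subgroup.map_inf _ _ _ (MulAut.conj e).injective).trans
      (congrArg₂ (· ⊓ ·) (map_pCoreIn_stab e c) ((map_pCoreIn_stab e (e • c)).trans (by
        rw [smul_smul, invol_mul_self he.1, one_smul])))).trans (inf_comm _ _)
  -- the inverted part
  set V := invGen A e with hVdef
  have hVA : V ≤ A := invGen_le A e
  have hVp : IsPGroup p V := (isPGroup_pCoreIn M).to_le hVA
  have hVne : V ≠ ⊥ := by
    obtain ⟨a, ha, hne⟩ := moves hC hM hA heM he.1
    set y := a⁻¹ * (e * a * e⁻¹) with hy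
    have hyA : y ∈ A := mul_mem (inv_mem ha)
      ((mem_normalizer_iff.1 (le_normalizer_subtype _ heM) a).1 ha)
    have hyi : e * y * e⁻¹ = y⁻¹ := by
      rw [hy]
      simp only [mul_inv_rev, inv_inv, invol_inv he.1]
      rw [show e * (a⁻¹ * (e * a * e)) * e = e * a⁻¹ * e * a * (e * e) by group,
        invol_mul_self he.1, mul_one]
      group
    intro h
    have h1 : y ∈ V := mem_invGen hyA hyi
    rw [h, mem_bot, hy, inv_mul_eq_one, eq_comm, mul_inv_eq_iff_eq_mul] at h1
    exact hne h1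
  have hVn : ∀ s ∈ M, s * e = e * s → ∀ x ∈ V, s * x * s⁻¹ ∈ V := by
    intro s hs hse x hx
    have hle : V ≤ V.comap (MulAut.conj s).toMonoidHom := (closure_le _).2 fun z hz => by
      refine subset_closure ⟨(mem_normalizer_iff.1 (le_normalizer_subtype _ hs) z).1 hz.1, ?_⟩
      show e * (s * z * s⁻¹) * e⁻¹ = (s * z * s⁻¹)⁻¹
      rw [show e * (s * z * s⁻¹) * e⁻¹ = (e * s) * z * (e * s)⁻¹ by group, ← hse,
        show (s * e) * z * (s * e)⁻¹ = s * (e * z * e⁻¹) * s⁻¹ by group, hz.2]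
      group
    exact hle hx
  have heV : e ∈ normalizer (V : Set G) := mem_normalizer_of_invol he.1 (hVn e heM rfl)
  have hfV : f ∈ normalizer (V : Set G) := mem_normalizer_of_invol hf.1 (hVn f hfM hcom.symm)
  have hVV : invGen V e = V := le_antisymm (invGen_le V e)
    ((closure_le _).2 fun z hz => mem_invGen (mem_invGen hz.1 hz.2) hz.2)
  have hVd : V ≤ stabilizer G d := hVA.trans (A_le_stab hC hM hA hd)
  by_cases hNd : N ≤ stabilizer G d
  · exact hRN.trans hNd
  by_cases hfour : HasFourIn N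
  · -- a four group in `N`
    obtain ⟨g, hg, hgd⟩ := SetLike.not_le_iff_exists.1 hNd
    have hbig : Big G Ω N := ⟨hNtop, hfour, d, ⟨e, he, heN⟩, g • d,
      ⟨g * e * g⁻¹, OneFix.conj_mem_invAt he, mul_mem (mul_mem hg heN) (inv_mem hg)⟩,
      fun h => hgd h.symm⟩
    have hS := hC.shape N hbig
    have hVK : V ≤ oddIn N := (closure_le _).2 fun z hz =>
      hS.inverted d e z he heN (hAN hz.1) (mem_stabilizer_iff.1 (A_le_stab hC hM hA hd hz.1))
        ((odd_A hC hM hA).of_dvd_nat (orderOf_dvd_natCard _ hz.1)) hz.2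
    have hVR : V ≤ normalizer (R : Set G) :=
      hVA.trans ((A_le_stab hC hM hA hc).trans (le_normalizer_subtype _))
    have hcop : (Nat.card V).Coprime (Nat.card R) := by
      obtain ⟨k, hk⟩ := hVp.exists_card_eq
      rw [hk]
      exact Nat.Coprime.pow_left k (hp.coprime_iff_not_dvd.2 hRcop)
    rw [← Coprime.commutator_sup_centralizer hVR hcop
      (Or.inr (LocalTools.isSolvable_odd hRodd))]
    refine sup_le (le_trans (commutator_le.2 fun r hr v hv => ?_) (hS.fix d ⟨e, he, heN⟩))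
      (inf_le_right.trans ((centralizer_le_normalizer _).trans
        (hL d p V e f hp hVp hVne hVd he hf hef hcom heV hfV hVV)))
    rw [commutatorElement_def]
    exact mul_mem ((mem_normalizer_iff.1 (le_normalizer_subtype _ (hRN hr)) v).1 (hVK hv))
      (inv_mem (hVK hv))
  · -- rank one
    set O := oddIn N
    have hRA : A ≤ normalizer (R : Set G) :=
      (A_le_stab hC hM hA hc).trans (le_normalizer_subtype _)
    have hRAN : R ⊔ A ≤ N := sup_le hRN hAN
    set S := O ⊔ (R ⊔ A) with hSdef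
    have hSodd : Odd (Nat.card S) := odd_sup (hRAN.trans (le_normalizer_subtype _))
      (odd_oddIn_charP N) (odd_sup hRA hRodd (odd_A hC hM hA))
    have hSN : S ≤ N := sup_le (map_subtype_le _) hRAN
    have hAS : A ≤ S := le_sup_right.trans le_sup_right
    have heS : e ∈ normalizer (S : Set G) := mem_normalizer_of_invol he.1 fun z hz => by
      have h1 := mul_mem (mem_sup_left (T := R ⊔ A)
        (mul_conj_mem_oddIn hfour he.1 heN (hSN hz))) hz
      rwa [inv_mul_cancel_right] at h1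
    obtain ⟨B, hB, hAB⟩ := SylowIn.exists_ge (D := S ⊓ stabilizer G c) (isPGroup_pCoreIn M)
      (le_inf hAS (A_le_stab hC hM hA hc))
    have hRS : R ≤ core p S :=
      le_coreIn_of_invariant hSodd (p_ne_two hC hM hA) (hB.1.trans inf_le_left) hB.isPGroup
        (fun x hxS hxB hxp => mem_of_centralizes_sylowIn hB
          (mem_inf.2 ⟨hxS, oddIn_le_stab hC hM hc
            (centralizer_A hC hM hA (centralizer_le (SetLike.coe_subset_coe.2 hAB) hxB))⟩) hxB hxp)
        (le_sup_left.trans le_sup_right) hRcop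
        (hB.1.trans (inf_le_right.trans (le_normalizer_subtype _)))
    exact hRS.trans (hW d p V (core p S) e f hp (p_ne_two hC hM hA) hVp hVne hVd he hf hef hcom heV hfV hVV
      (hSodd.of_dvd_nat (card_dvd_of_le (map_subtype_le _))) (Balance.not_dvd_card_coreIn _)
      (normalizer_le_core S heS) ((hVA.trans hAS).trans (le_normalizer_subtype _)))

/-- `O_{p'}(G_c) = O_{p'}(M) = 1`. -/
theorem cores_eq_bot (hL : PropNormFix G Ω) (hW : PropChainFix G Ω) :
    core p (stabilizer G c) = ⊥ ∧ core p M = ⊥ := by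
  haveI := hC.simple
  obtain ⟨x, hx, y, hy, hxy⟩ := hM.many
  obtain ⟨d, hd, hdc⟩ : ∃ d ∈ delta Ω M, d ≠ c := by
    by_cases h : x = c
    · exact ⟨y, hy, fun h' => hxy (h.trans h'.symm)⟩
    · exact ⟨x, hx, h⟩
  set R := core p (stabilizer G c) with hRdef
  set Kc := core p M with hKc
  set A := pCoreIn p M
  set C := centralizer (pCoreIn p (stabilizer G c) : Set G)
  have hRM : R ≤ M := fun r hr => hM.pair_le c hc d hd (fun h => hdc h.symm)
    ⟨map_subtype_le _ hr, core_le_stab hC hM hA hc hL hW hd hdc hr⟩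
  have hRn : M ⊓ stabilizer G c ≤ normalizer (R : Set G) :=
    inf_le_right.trans (le_normalizer_subtype _)
  have hRK : R ≤ oddIn M := (shape hC hM).odd_normal c hc R (le_inf hRM (map_subtype_le _))
    ((odd_centralizer_U hC hM hA hc).of_dvd_nat
      (card_dvd_of_le (core_le_centralizer_U hC hM hA hc))) hRn
  have hR1 : R ≤ Kc := (Balance.le_coreIn hRK
    ((le_inf (map_subtype_le _) (oddIn_le_stab hC hM hc)).trans hRn)
    (Balance.coreIn_coprime _)).trans
    (Balance.coreIn_le_coreIn (map_subtype_le _) (le_normalizer_subtype _))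
  -- `O_{p'}(M)` centralises `A`
  have hKA : Kc ≤ centralizer (A : Set G) := fun k hk => mem_centralizer_iff.2 fun a ha =>
    commute_of_normalize ((map_subtype_le _).trans (le_normalizer_subtype _))
      ((map_subtype_le _).trans (le_normalizer_subtype _))
      (inf_eq_bot_of_coprime (isPGroup_pCoreIn _) (Balance.not_dvd_card_coreIn _)) ha hk
  have hKK : Kc ≤ oddIn M := fun k hk => centralizer_A hC hM hA (hKA hk)
  obtain ⟨P, hP, hAP⟩ := SylowIn.exists_ge (isPGroup_pCoreIn M) (A_le_oddIn hC hM hA)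
  have hKC : oddIn M ≤ normalizer (C : Set G) :=
    (oddIn_le_stab hC hM hc).trans (stab_le_normalizer_centralizer_U hC hM hA hc)
  have hKcC : Kc ≤ C := hKA.trans (centralizer_le (SetLike.coe_subset_coe.2
    (U_le_A hC hM hA hc)))
  have h2 : Kc ≤ core p (C ⊔ oddIn M) :=
    le_coreIn_of_invariant (odd_sup hKC (odd_centralizer_U hC hM hA hc) (odd_oddIn_charP M))
      (p_ne_two hC hM hA) (hP.1.trans le_sup_right) hP.isPGroup
      (fun x _ hxP hxp => mem_of_centralizes_sylowIn hP
        (centralizer_A hC hM hA (centralizer_le (SetLike.coe_subset_coe.2 hAP) hxP)) hxP hxp)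
      (hKcC.trans le_sup_left) (Balance.not_dvd_card_coreIn _)
      ((hP.1.trans (map_subtype_le _)).trans (le_normalizer_subtype _))
  have h3 : Kc ≤ R := (le_inf h2 hKcC).trans ((Balance.coreIn_inf_le le_sup_left).trans
    (Balance.coreIn_le_coreIn (centralizer_U_le hC hM hA hc)
      (stab_le_normalizer_centralizer_U hC hM hA hc)))
  have heq : R = Kc := le_antisymm hR1 h3
  suffices R = ⊥ from ⟨this, heq ▸ this⟩
  by_contra hne
  refine not_le_stab hC hM c ?_
  have hMN : M ≤ normalizer (R : Set G) := heq ▸ le_normalizer_subtype _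
  refine hMN.trans ((lt_or_eq_of_le (le_normalizer_subtype
    (Cfsg.pPrimeCore p ↥(stabilizer G c)))).elim (fun h => ?_) fun h => h.ge)
  exact absurd ((hC.maximal c).2 _ h) (normalizer_ne_top hC.oneFix hne (map_subtype_le _))

end CharPProof

open CharPProof

variable {G : Type u} {Ω : Type v} [Group G] [MulAction G Ω] [Finite G]

/-- Steps 2a-2c. -/
theorem propCharP (hC : Ctx G Ω) (hL : PropNormFix G Ω) (hW : PropChainFix G Ω) :
    PropCharP G Ω := by
  intro M p hp hM hA
  haveI : Fact p.Prime := ⟨hp⟩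
  obtain ⟨c, hc, -⟩ := hM.many
  refine
    { core_eq_bot := (cores_eq_bot hC hM hA hc hL hW).2
      self_cent := fun g _ hg => ?_
      core_stab := fun d hd => (cores_eq_bot hC hM hA hd hL hW).1
      self_cent_stab := fun d hd g _ hg => ?_ }
  · have hcore : core p (oddIn M) = ⊥ := eq_bot_iff.2
      ((Balance.coreIn_le_coreIn (map_subtype_le _) (le_normalizer_subtype _)).trans
        (cores_eq_bot hC hM hA hc hL hW).2.le)
    have hKA : pCoreIn p (oddIn M) ≤ pCoreIn p M :=
      le_pCoreIn ((map_subtype_le _).trans (map_subtype_le _))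
        ((le_normalizer_subtype _).trans (normalizer_le_pCoreIn _)) (isPGroup_pCoreIn _)
    exact hKA (mem_pCoreIn_of_centralizes (odd_oddIn_charP M) hcore hKA (centralizer_A hC hM hA hg) hg)
  · set C := centralizer (pCoreIn p (stabilizer G d) : Set G)
    have hCd := centralizer_U_le hC hM hA hd
    have hCn := stab_le_normalizer_centralizer_U hC hM hA hd
    have hcore : core p C = ⊥ := eq_bot_iff.2
      ((Balance.coreIn_le_coreIn hCd hCn).trans (cores_eq_bot hC hM hA hd hL hW).1.le)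
    have hCU : pCoreIn p C ≤ pCoreIn p (stabilizer G d) :=
      le_pCoreIn ((map_subtype_le _).trans hCd) (hCn.trans (normalizer_le_pCoreIn _))
        (isPGroup_pCoreIn _)
    exact hCU (mem_pCoreIn_of_centralizes (odd_centralizer_U hC hM hA hd) hcore hCU hg hg)

end Cfsg.Agent.Lib.BenderOne.NodeA
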