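import Cfsg.Agent.Lib.BenderOne.NodeA.StabRep
import Cfsg.Agent.Lib.BenderOne9.Offender
import Cfsg.Prelude.Def_PLocal

/-!
# Stability for node A (lemma STAB)

If involutions commute modulo the odd core, are conjugate, two commute, and the centraliser of a
normal `p`-subgroup `V` is odd, then quadratic elements on `V` are `p`-radical modulo `C(V)`.
-/

set_option autoImplicit false
set_option linter.style.haveILetI false
set_option linter.unusedSectionVars false

namespace Cfsg.Agent.Lib.BenderOne.NodeA.Stab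

open Subgroup
open Cfsg.Agent.Lib.Quadratic (InPRad Quad inPRad_iff centralOmega)
open scoped commutatorElement

universe u

variable {Γ : Type u} [Group Γ] [Finite Γ] {p : ℕ} [Fact p.Prime]

/-- In an odd `p`-group an involution trivial on a subgroup and on the quotient by it is trivial. -/
theorem fixed_of_fixed_factor (hp : p ≠ 2) {U U0 : Subgroup Γ} (hU0p : IsPGroup p U0) {s : Γ}
    (hs : orderOf s = 2) (h0 : ∀ z ∈ U0, z * s = s * z)
    (h1 : ∀ v ∈ U, v⁻¹ * (s * v * s⁻¹) ∈ U0) : ∀ v ∈ U, v * s = s * v := by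
  intro v hv
  have hz := h1 v hv
  obtain ⟨z, hzdef⟩ : ∃ z, v⁻¹ * (s * v * s⁻¹) = z := ⟨_, rfl⟩
  rw [hzdef] at hz
  have hsv : s * v * s⁻¹ = v * z := by rw [← hzdef, mul_inv_cancel_left]
  have hsz : s * z * s⁻¹ = z := by rw [← h0 z hz, mul_inv_cancel_right]
  have hss : s * s = 1 := sq_of_orderOf_two hs
  have h2 : v * (z * z) = v := by
    calc v * (z * z) = s * v * s⁻¹ * (s * z * s⁻¹) := by rw [hsv, hsz, mul_assoc]
      _ = s * (v * z) * s⁻¹ := by group
      _ = (s * s) * v * (s * s)⁻¹ := by rw [← hsv]; group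
      _ = v := by rw [hss]; group
  have hodd : Odd (orderOf z) := by
    obtain ⟨k, hk⟩ := hU0p ⟨z, hz⟩
    exact (((Fact.out : p.Prime).odd_of_ne_two hp).pow).of_dvd_nat
      (orderOf_dvd_of_pow_eq_one (congrArg Subtype.val hk))
  have hz1 : z = 1 := by
    have h := mem_zpowers_sq hodd
    rw [mul_eq_left.1 h2, zpowers_one_eq_bot, mem_bot] at h
    exact h
  rw [hz1, mul_one, mul_inv_eq_iff_eq_mul] at hsv
  exact hsv.symm

/-- A minimal normal section of `V` on which the involution `s` acts non-trivially. -/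
theorem exists_section {V : Subgroup Γ} (hV : V.Normal) {s : Γ}
    (hsV : s ∉ centralizer (V : Set Γ)) :
    ∃ U U0 : Subgroup Γ, U.Normal ∧ U0.Normal ∧ U ≤ V ∧ U0 < U ∧
      s ∉ centralizer (U : Set Γ) ∧ s ∈ centralizer (U0 : Set Γ) ∧
      ∀ X : Subgroup Γ, X.Normal → U0 ≤ X → X ≤ U → X = U0 ∨ X = U := by
  haveI : Finite (Subgroup Γ) := Finite.of_injective _ SetLike.coe_injective
  obtain ⟨U, ⟨hUn, hUV, hsU⟩, hUmin⟩ := wellFounded_lt.has_min
    {U : Subgroup Γ | U.Normal ∧ U ≤ V ∧ s ∉ centralizer (U : Set Γ)} ⟨V, hV, le_rfl, hsV⟩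
  have hUne : (⊥ : Subgroup Γ) < U := bot_lt_iff_ne_bot.2 fun h => hsU (by
    rw [h, mem_centralizer_iff]
    intro z hz
    rw [SetLike.mem_coe, mem_bot] at hz
    rw [hz, one_mul, mul_one])
  obtain ⟨U0, ⟨hU0n, hU0U⟩, hU0max⟩ := wellFounded_gt.has_min
    {X : Subgroup Γ | X.Normal ∧ X < U} ⟨⊥, inferInstance, hUne⟩
  refine ⟨U, U0, hUn, hU0n, hUV, hU0U, hsU, ?_, fun X hX h1 h2 => ?_⟩
  · by_contra h
    exact hUmin U0 ⟨hU0n, hU0U.le.trans hUV, h⟩ hU0U
  · rcases eq_or_lt_of_le h1 with h | h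
    · exact Or.inl h.symm
    · refine Or.inr (h2.eq_or_lt.resolve_right fun h' => hU0max X ⟨hX, h'⟩ h)

/-- Hypotheses on the involutions of `Γ`. -/
structure InvHyp (Γ : Type u) [Group Γ] : Prop where
  four : ∃ s t : Γ, orderOf s = 2 ∧ orderOf t = 2 ∧ s ≠ t ∧ s * t = t * s
  comm : ∀ s t : Γ, orderOf s = 2 → orderOf t = 2 → ⁅s, t⁆ ∈ Cfsg.oddCore Γ
  conj : ∀ s t : Γ, orderOf s = 2 → orderOf t = 2 → ∃ g, g * s * g⁻¹ = t

/-- A quadratic element on a normal `p`-subgroup with odd centraliser is in the odd core. -/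
theorem mem_oddCore_of_quad (hp : p ≠ 2) (H : InvHyp Γ) {V : Subgroup Γ} (hV : V.Normal)
    (hVp : IsPGroup p V) (hodd : Odd (Nat.card (centralizer (V : Set Γ)))) {x : Γ}
    (hq : Quad V x) : x ∈ Cfsg.oddCore Γ := by
  classical
  obtain ⟨s0, -, hs0, -, -, -⟩ := H.four
  have hs0V : s0 ∉ centralizer (V : Set Γ) := fun h => by
    have h' := odd_orderOf_of_mem hodd h
    rw [hs0] at h'
    exact Nat.not_odd_iff_even.2 even_two h'
  obtain ⟨U, U0, hUn, hU0n, hUV, hU0U, hsU, hsU0, hchief⟩ := exists_section hV hs0V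
  haveI := hU0n; haveI := hUn
  set q := QuotientGroup.mk' U0 with hqdef
  have hqs : Function.Surjective q := QuotientGroup.mk'_surjective U0
  have hqker : q.ker = U0 := QuotientGroup.ker_mk' U0
  set Ub := U.map q with hUb
  haveI hUbn : Ub.Normal := hUn.map q hqs
  have hUbp : IsPGroup p Ub := (hVp.to_le hUV).map q
  have hcomap : Ub.comap q = U := by
    rw [hUb, comap_map_eq, hqker, sup_eq_left.2 hU0U.le]
  have hUbne : Ub ≠ ⊥ := by
    rw [hUb, Ne, Subgroup.map_eq_bot_iff, hqker]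
    exact fun h => absurd (le_antisymm h hU0U.le) hU0U.ne'
  -- chief factor: elementary abelian and irreducible
  have hirr : ∀ X : Subgroup (Γ ⧸ U0), X.Normal → X ≤ Ub → X = ⊥ ∨ X = Ub := by
    intro X hX hXU
    haveI := hX
    rcases hchief (X.comap q) inferInstance
        (fun z hz => by
          rw [mem_comap, show q z = 1 from (QuotientGroup.eq_one_iff z).2 hz]; exact one_mem X)
        (hcomap ▸ comap_mono hXU) with h | h
    · left
      have := congrArg (Subgroup.map q) h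
      rw [map_comap_eq_self_of_surjective hqs, (Subgroup.map_eq_bot_iff U0).2 hqker.ge] at this
      exact this
    · right
      have := congrArg (Subgroup.map q) h
      rw [map_comap_eq_self_of_surjective hqs] at this
      exact this
  have hom : centralOmega p Ub = Ub :=
    (hirr _ (Quadratic.centralOmega_normal hUbn) fun z hz => hz.1).resolve_left
      (Quadratic.centralOmega_ne_bot hUbp hUbne)
  letI : CommGroup Ub := { (inferInstance : Group Ub) with
    mul_comm := fun a b => Subtype.ext ((hom.ge a.2).2.1 b b.2) }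
  obtain ⟨W, i1, i2, i3, σ0, τ, hτ, hτs, hτadd, hτ0, hτact⟩ :=
    BenderOne9.NoOffender.exists_end_of_mulAut (p := p) (fun a : Ub => Subtype.ext (by
      rw [SubmonoidClass.coe_pow, OneMemClass.coe_one]
      exact (hom.ge a.2).2.2)) ((MulAut.conjNormal : Γ ⧸ U0 →* MulAut Ub).comp q)
  letI := i1; letI := i2; haveI := i3
  have hact : ∀ (g : Γ) (w : W), ((τ (σ0 g w) : Ub) : Γ ⧸ U0) = q g * τ w * (q g)⁻¹ := by
    intro g w
    rw [hτact]
    exact MulAut.conjNormal_apply _ _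
  -- every involution moves the factor
  have hmoves : ∀ t : Γ, orderOf t = 2 → σ0 t ≠ 1 := by
    intro t ht hσ
    obtain ⟨g, hg⟩ := H.conj t s0 ht hs0
    have hσs : σ0 s0 = 1 := by rw [← hg, map_mul, map_mul, hσ, mul_one, map_mul_inv]
    apply hsU
    rw [mem_centralizer_iff]
    refine fixed_of_fixed_factor hp (hVp.to_le (hU0U.le.trans hUV)) hs0
      (mem_centralizer_iff.1 hsU0) fun v hv => ?_
    rw [← QuotientGroup.eq_one_iff]
    obtain ⟨w, hw⟩ := hτs ⟨q v, mem_map_of_mem q hv⟩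
    have h := hact s0 w
    rw [hσs, Module.End.one_apply, hw] at h
    show q (v⁻¹ * (s0 * v * s0⁻¹)) = 1
    simp only [map_mul, map_inv]
    rw [← h, inv_mul_cancel]
  obtain ⟨k, hk⟩ := IsPGroup.iff_card.1 hUbp
  have hWcard : Nat.card W = p ^ k :=
    (Nat.card_eq_of_bijective τ ⟨hτ, hτs⟩).trans hk
  have hk0 : k ≠ 0 := fun h => hUbne (eq_bot_of_card_eq _ (by rw [hk, h, pow_zero]))
  have hcore : ∀ N : Subgroup Γ, N.Normal → (∀ n ∈ N, ∃ k : ℕ, σ0 (n ^ p ^ k) = 1) →
      N ≤ σ0.ker := by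
    intro N hN hpow
    set P := N.map σ0.toHomUnits with hP
    have hPp : IsPGroup p P := by
      rintro ⟨_, n, hn, rfl⟩
      obtain ⟨m, hm⟩ := hpow n hn
      refine ⟨m, Subtype.ext (Units.ext ?_)⟩
      simpa [← map_pow] using hm
    letI : MulAction P W :=
      { smul := fun g w => ((g : (Module.End (ZMod p) W)ˣ) : Module.End (ZMod p) W) w
        one_smul := fun w => rfl
        mul_smul := fun g h w => rfl }
    have h0 : (0 : W) ∈ MulAction.fixedPoints P W := fun g => map_zero _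
    obtain ⟨w, hw, hw0⟩ := hPp.exists_fixed_point_of_prime_dvd_card_of_fixed_point W
      (hWcard ▸ dvd_pow_self p hk0) h0
    let S : Subgroup (Γ ⧸ U0) :=
      { carrier := {z | z ∈ Ub ∧ ∀ n ∈ N, q n * z * (q n)⁻¹ = z}
        one_mem' := ⟨one_mem _, fun n _ => by group⟩
        mul_mem' := fun {a b} ha hb => ⟨mul_mem ha.1 hb.1, fun n hn => by
          rw [show q n * (a * b) * (q n)⁻¹ = q n * a * (q n)⁻¹ * (q n * b * (q n)⁻¹) by group,
            ha.2 n hn, hb.2 n hn]⟩
        inv_mem' := fun {a} ha => ⟨inv_mem ha.1, fun n hn => by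
          rw [show q n * a⁻¹ * (q n)⁻¹ = (q n * a * (q n)⁻¹)⁻¹ by group, ha.2 n hn]⟩ }
    have hSn : S.Normal := by
      refine ⟨fun a ha b => ⟨hUbn.conj_mem a ha.1 b, fun n hn => ?_⟩⟩
      obtain ⟨b, rfl⟩ := hqs b
      have h := ha.2 (b⁻¹ * n * b) (by simpa using hN.conj_mem n hn b⁻¹)
      simp only [map_mul, map_inv] at h
      calc q n * (q b * a * (q b)⁻¹) * (q n)⁻¹
          = q b * ((q b)⁻¹ * q n * q b * a * ((q b)⁻¹ * q n * q b)⁻¹) * (q b)⁻¹ := by group
        _ = _ := by rw [h]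
    rcases hirr S hSn (fun z hz => hz.1) with h | h
    · exfalso
      apply hw0
      apply hτ
      rw [hτ0]
      have hmem : ((τ w : Ub) : Γ ⧸ U0) ∈ S := ⟨(τ w).2, fun n hn => by
        rw [← hact, show σ0 n w = w from hw ⟨_, mem_map_of_mem σ0.toHomUnits hn⟩]⟩
      rw [h, mem_bot] at hmem
      exact (Subtype.ext hmem).symm
    · intro n hn
      rw [MonoidHom.mem_ker]
      refine LinearMap.ext fun z => hτ (Subtype.ext ?_)
      rw [Module.End.one_apply, hact]
      exact (h.ge (τ z).2 : ((τ z : Ub) : Γ ⧸ U0) ∈ S).2 n hn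
  refine stab_rep (σ := σ0) ⟨hp, H.four, H.comm, H.conj, hmoves, hcore⟩ ?_
  -- the element acts quadratically
  refine LinearMap.ext fun w => hτ ?_
  simp only [Module.End.mul_apply, LinearMap.sub_apply, Module.End.one_apply, LinearMap.zero_apply]
  have hneg : ∀ a : W, τ (-a) = (τ a)⁻¹ := fun a =>
    eq_inv_of_mul_eq_one_left (by rw [← hτadd, neg_add_cancel, hτ0])
  rw [hτ0, sub_eq_add_neg (σ0 x (σ0 x w - w)), hτadd, hneg, mul_inv_eq_one]
  obtain ⟨v, hv, hvw⟩ := (τ w).2
  apply Subtype.ext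
  rw [hact]
  have hsub : ((τ (σ0 x w - w) : Ub) : Γ ⧸ U0) = q ⁅v, x⁆⁻¹ := by
    rw [sub_eq_add_neg, hτadd, hneg, coe_mul, coe_inv, hact, ← hvw, commutatorElement_inv,
      commutatorElement_def, map_mul, map_mul, map_mul, map_inv, map_inv]
  rw [hsub, ← map_inv, ← map_mul, ← map_mul]
  congr 1
  have hc := commutatorElement_eq_one_iff_mul_comm.1 (hq v (hUV hv))
  rw [mul_inv_eq_iff_eq_mul]
  exact (Commute.inv_left (show Commute ⁅v, x⁆ x from hc)).eq.symm

/-- **STAB.** -/
theorem stab (hp : p ≠ 2) (H : InvHyp Γ) {V : Subgroup Γ} (hV : V.Normal)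
    (hVp : IsPGroup p V) (hodd : Odd (Nat.card (centralizer (V : Set Γ)))) {x : Γ}
    (hq : Quad V x) : InPRad p (centralizer (V : Set Γ)) x := by
  haveI := hV
  refine inPRad_of_mem_odd hp (Cfsg.oddCore Γ) inferInstance Cores.oddCore_odd hV ?_ hVp
    (mem_oddCore_of_quad hp H hV hVp hodd hq) hq
  obtain ⟨k, hk⟩ := IsPGroup.iff_card.1 hVp
  exact Cores.le_oddCore (hk ▸ ((Fact.out : p.Prime).odd_of_ne_two hp).pow)

/-- STAB, as `p`-stability on `V`. -/
theorem isPStableOn_of_odd (hp : p ≠ 2) (H : InvHyp Γ) (V : Subgroup Γ) [hV : V.Normal]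
    (hVp : IsPGroup p V) (hodd : Odd (Nat.card (centralizer (V : Set Γ)))) :
    Cfsg.IsPStableOn p V := fun _ ha =>
  (inPRad_iff _ _).1 (stab hp H hV hVp hodd (Quadratic.quad_of_commutator_eq_bot ha))

end Cfsg.Agent.Lib.BenderOne.NodeA.Stab
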