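import Cfsg.Agent.Lib.BenderOne.NodeA.Interface
import Cfsg.Agent.Lib.BenderOne.NodeA.Stab
import Cfsg.Agent.Lib.BenderOne83.StableQuot
import Cfsg.Agent.Lib.Balance.PLayer
import Cfsg.Agent.Lib.Balance.Permute
import Cfsg.Agent.Lib.ZJ.Abelian
import Cfsg.Agent.Lib.OddOrder.FeitThompson
import Cfsg.Agent.Lib.PSolvable.HallHigman

/-!
# Bender's theorem, part I, node A: `Z(J(P))` is normal modulo the core

For a violating subgroup `M`, the stabiliser of a point in `M` modulo `O_{p'}(O(M))` is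
`p`-constrained and acts stably on its normal `p`-subgroups, so `Z(J(P))` is normal there.  A
swapper normalising `P` extends this to `M`.
-/

set_option autoImplicit false
set_option linter.style.haveILetI false
set_option linter.unusedSectionVars false

namespace Cfsg.Agent.Lib.BenderOne.NodeA

open Subgroup MulAction
open Cfsg.Agent.Lib.Involutions.Basic Cfsg.Agent.Lib.BenderOne20
open Cfsg.Agent.Lib.BenderOne.NoBadProof (core)
open scoped commutatorElement

universe u v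

namespace ZJAux

variable {H Γ : Type*} [Group H] [Group Γ] {p : ℕ} [Fact p.Prime]

/-- A normal subgroup meets a Sylow subgroup in a Sylow subgroup. -/
theorem sylowIn_inf [Finite H] {D K P : Subgroup H} (h : SylowIn p P D) (hKD : K ≤ D)
    (hn : D ≤ normalizer (K : Set H)) : SylowIn p (P ⊓ K) K := by
  obtain ⟨R, hR, hPR⟩ := SylowIn.exists_ge (h.isPGroup.to_le inf_le_left)
    (inf_le_right : P ⊓ K ≤ K)
  obtain ⟨R', hR', hRR'⟩ := SylowIn.exists_ge hR.isPGroup (hR.1.trans hKD)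
  obtain ⟨d, hd, hd'⟩ := hR'.conj_eq h
  have hle : R.map (MulAut.conj d).toMonoidHom ≤ P ⊓ K := by
    refine le_inf ((map_mono hRR').trans_eq hd') ?_
    rintro _ ⟨r, hr, rfl⟩
    exact (mem_normalizer_iff.1 (hn hd) r).1 (hR.1 hr)
  have hc : Nat.card R ≤ Nat.card (P ⊓ K : Subgroup H) := by
    rw [← card_map_of_injective (K := R) (f := (MulAut.conj d).toMonoidHom)
      (MulAut.conj d).injective]
    exact card_le_of_le hle
  rw [eq_of_le_of_card_ge hPR hc]
  exact hR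

/-- An element of a `p`-subgroup and of a subgroup of order prime to `p` is trivial. -/
theorem eq_one_of_coprime {P X : Subgroup H} (hP : IsPGroup p P) (hX : ¬ p ∣ Nat.card X) {w : H}
    (h1 : w ∈ P) (h2 : w ∈ X) : w = 1 := by
  obtain ⟨k, hk⟩ := IsPGroup.iff_orderOf.1 hP ⟨w, h1⟩
  rw [Subgroup.orderOf_mk] at hk
  rcases k.eq_zero_or_pos with rfl | hk0
  · exact orderOf_eq_one_iff.1 (by rw [hk, pow_zero])
  · exact absurd ((dvd_pow_self p hk0.ne').trans (hk ▸ X.orderOf_dvd_natCard h2)) hX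

/-- An involution keeps its order modulo an odd kernel. -/
theorem orderOf_map_invol [Finite H] (f : H →* Γ) (hk : Odd (Nat.card f.ker)) {t : H} (ht : orderOf t = 2) :
    orderOf (f t) = 2 := by
  refine orderOf_eq_prime ?_ fun he => ?_
  · rw [← map_pow, pow_two, invol_mul_self ht, map_one]
  · exact (odd_card_iff_no_invol _).1 hk t (MonoidHom.mem_ker.2 he) ht

/-- An involution of the image lifts to an involution if the kernel is odd. -/
theorem exists_lift_invol [Finite H] (f : H →* Γ) (hf : Function.Surjective f)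
    (hk : Odd (Nat.card f.ker)) {s : Γ} (hs : orderOf s = 2) :
    ∃ t, orderOf t = 2 ∧ f t = s := by
  obtain ⟨g, rfl⟩ := hf s
  have hm : Odd (orderOf (g * g)) := hk.of_dvd_nat
    (f.ker.orderOf_dvd_natCard (MonoidHom.mem_ker.2 (by rw [map_mul, invol_mul_self hs])))
  obtain ⟨j, hj⟩ := hm
  have hft : f (g ^ orderOf (g * g)) = f g := by
    rw [map_pow, hj, pow_succ, pow_mul, pow_two, invol_mul_self hs, one_pow, one_mul]
  refine ⟨g ^ orderOf (g * g), orderOf_eq_prime ?_ fun he => ?_, hft⟩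
  · rw [← pow_mul, mul_comm, pow_mul, pow_two, pow_orderOf_eq_one]
  · rw [he, map_one] at hft
    rw [← hft, orderOf_one] at hs
    exact absurd hs (by decide)

theorem card_comap [Finite H] (f : H →* Γ) (hf : Function.Surjective f) (Y : Subgroup Γ) :
    Nat.card (Y.comap f) = Nat.card f.ker * Nat.card Y := by
  haveI : Finite Γ := Finite.of_surjective f hf
  have h1 := card_mul_index (Y.comap f)
  have h2 := card_mul_index f.ker
  rw [index_comap_of_surjective Y hf] at h1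
  rw [index_ker, MonoidHom.range_eq_top.2 hf, card_top, ← card_mul_index Y, ← h1] at h2
  exact (Nat.eq_of_mul_eq_mul_right (Nat.pos_of_ne_zero index_ne_zero_of_finite)
    (by rw [mul_assoc]; exact h2)).symm

/-- `Z(J(P))` maps to `Z(J)` of the image if the map is injective on `P`. -/
theorem map_centerThompsonAOf_injOn (f : H →* Γ) (P : Subgroup H)
    (hinj : ∀ x ∈ P, f x = 1 → x = 1) :
    (Cfsg.centerThompsonAOf P).map f = Cfsg.centerThompsonAOf (P.map f) := by
  have hg : Function.Injective (f.comp P.subtype) :=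
    (injective_iff_map_eq_one _).2 fun x hx => Subtype.ext (hinj x x.2 hx)
  have h1 := Lib.ZJ.map_centerThompsonAOf P.subtype P.subtype_injective ⊤
  have h2 := Lib.ZJ.map_centerThompsonAOf (f.comp P.subtype) hg ⊤
  rw [← MonoidHom.range_eq_map, range_subtype] at h1
  rw [← map_map, ← map_map, ← MonoidHom.range_eq_map, range_subtype] at h2
  rwa [h1] at h2

theorem odd_map [Finite H] {X : Subgroup H} (f : H →* Γ) (hX : Odd (Nat.card X)) :
    Odd (Nat.card (X.map f)) :=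
  hX.of_dvd_nat (X.card_map_dvd f)

end ZJAux

open ZJAux

variable {G : Type u} {Ω : Type v} [Group G] [MulAction G Ω] [Finite G] {M : Subgroup G}

theorem normalizer_oddIn : M ≤ normalizer (oddIn M : Set G) := fun g hg =>
  Subgroup.le_normalizer_map M.subtype
    ⟨⟨g, hg⟩, normalizer_eq_top_iff.2 (inferInstance : (Cfsg.oddCore ↥M).Normal) ▸ mem_top _,
      rfl⟩

theorem odd_oddIn_zj : Odd (Nat.card (oddIn M)) := by
  rw [Nat.card_congr (equivMapOfInjective _ _ M.subtype_injective).symm.toEquiv]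
  exact Nat.coprime_two_right.1 (Cores.pPrimeCore_coprime 2)

section Point

variable (hG : OneFix G Ω) (hS : Shape G Ω M) {c d : Ω} (hc : c ∈ delta Ω M)
  (hd : d ∈ delta Ω M) (hcd : c ≠ d)

include hS hc hd hcd in
theorem exists_to {e : Ω} (he : e ∈ delta Ω M) : ∃ g ∈ M, g • e = c := by
  rcases eq_or_ne e c with h | h
  · exact ⟨1, M.one_mem, by rw [one_smul, h]⟩
  · obtain ⟨g, hg, hge, -⟩ := hS.two_trans e he c hc c hc d hd h hcd
    exact ⟨g, hg, hge⟩

include hG hS in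
/-- A normal subgroup of `M_c` of even order contains the involutions of `M` at `c`. -/
theorem mem_of_even {X : Subgroup G} (hX : X ≤ M ⊓ stabilizer G c)
    (hn : M ⊓ stabilizer G c ≤ normalizer (X : Set G)) (he : ¬ Odd (Nat.card X)) {t : G}
    (ht : t ∈ invAt G c) (htM : t ∈ M) : t ∈ X := by
  rw [odd_card_iff_no_invol] at he
  push Not at he
  obtain ⟨s, hsX, hs⟩ := he
  obtain ⟨g, hg, hgt⟩ := hS.conj s (hX hsX).1 t htM hs ht.1
  have hsc : s ∈ invAt G c := ⟨hs, (hX hsX).2⟩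
  have hgc : g • c = c := hG.eq_of_fix ht.1 (hgt ▸ (OneFix.conj_mem_invAt hsc).2) ht.2
  exact hgt ▸ (mem_normalizer_iff.1 (hn ⟨hg, hgc⟩) s).1 hsX

include hS hc in
theorem oddIn_le_stab : oddIn M ≤ M ⊓ stabilizer G c :=
  le_inf (map_subtype_le _) (hS.fix c hc)

include hS hc hd in
theorem oddIn_le_pair : oddIn M ≤ M ⊓ pairStab G c d :=
  le_inf (map_subtype_le _) (le_inf (hS.fix c hc) (hS.fix d hd))

include hG hS hc hd hcd in
/-- The regular `2`-part of `M_c` gives the index of the two-point stabiliser. -/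
theorem index_facts {Q : Subgroup G} (hKQ : oddIn M ≤ Q) (hQ : Q ≤ M ⊓ stabilizer G c)
    (hQn : M ⊓ stabilizer G c ≤ normalizer (Q : Set G))
    (hQ2 : ∀ q ∈ Q, ∃ k : ℕ, q ^ 2 ^ k ∈ oddIn M)
    (htr : ∀ a ∈ delta Ω M, ∀ b ∈ delta Ω M, a ≠ c → b ≠ c → ∃ q ∈ Q, q • a = b)
    (hreg : ∀ a ∈ delta Ω M, a ≠ c → Q ⊓ stabilizer G a = oddIn M) :
    (∃ k : ℕ, Nat.card ↥(M ⊓ stabilizer G c) = Nat.card ↥(M ⊓ pairStab G c d) * 2 ^ k) ∧
      Odd (Q.relIndex (M ⊓ stabilizer G c)) := by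
  set Mc := M ⊓ stabilizer G c with hMc
  set D := M ⊓ pairStab G c d with hD
  have hDMc : D ≤ Mc := le_inf inf_le_left (inf_le_right.trans inf_le_left)
  have hQD : Q ⊓ D = oddIn M := by
    refine le_antisymm ?_ (le_inf hKQ (oddIn_le_pair hS hc hd))
    rw [← hreg d hd hcd.symm]
    exact inf_le_inf_left Q (inf_le_right.trans inf_le_right)
  haveI : (Q.subgroupOf Mc).Normal := (normal_subgroupOf_iff_le_normalizer hQ).2 hQn
  have htop : D.subgroupOf Mc ⊔ Q.subgroupOf Mc = ⊤ := by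
    refine eq_top_iff.2 fun g _ => ?_
    have hgd : (g : G) • d ∈ delta Ω M := hS.smul_mem g g.2.1 d hd
    have hgdc : (g : G) • d ≠ c := fun h => hcd (by
      have h' := (mem_stabilizer_iff.1 g.2.2).trans h.symm
      exact smul_left_cancel _ h')
    obtain ⟨q, hq, hqd⟩ := htr d hd _ hgd hcd.symm hgdc
    have hg : g = ⟨q, hQ hq⟩ * (⟨q, hQ hq⟩⁻¹ * g) := by group
    rw [hg]
    refine mul_mem (mem_sup_right (mem_subgroupOf.2 hq)) (mem_sup_left (mem_subgroupOf.2 ?_))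
    refine ⟨(⟨q, hQ hq⟩⁻¹ * g : Mc).2.1, (⟨q, hQ hq⟩⁻¹ * g : Mc).2.2, ?_⟩
    show (q⁻¹ * (g : G)) • d = d
    rw [mul_smul, ← hqd, inv_smul_smul]
  have hQrel : Q.relIndex Mc = (oddIn M).relIndex D := by
    calc Q.relIndex Mc = (Q.subgroupOf Mc).relIndex (D.subgroupOf Mc ⊔ Q.subgroupOf Mc) := by
          rw [htop, relIndex_top_right]; rfl
      _ = (Q.subgroupOf Mc).relIndex (D.subgroupOf Mc) := relIndex_sup_right _ _
      _ = Q.relIndex D := relIndex_subgroupOf hDMc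
      _ = (oddIn M).relIndex D := by rw [← hQD, inf_relIndex_right]
  have hKD := oddIn_le_pair hS hc hd
  have e1 := relIndex_mul_relIndex _ _ Mc hKQ hQ
  have e2 := relIndex_mul_relIndex _ _ Mc hKD hDMc
  rw [hQrel, ← e2, mul_comm] at e1
  have hne : (oddIn M).relIndex D ≠ 0 := index_ne_zero_of_finite
  have e3 : (oddIn M).relIndex Q = D.relIndex Mc :=
    Nat.eq_of_mul_eq_mul_left (Nat.pos_of_ne_zero hne) e1
  haveI : ((oddIn M).subgroupOf Q).Normal :=
    (normal_subgroupOf_iff_le_normalizer hKQ).2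
      ((hQ.trans inf_le_left).trans normalizer_oddIn)
  haveI : Fact (Nat.Prime 2) := ⟨Nat.prime_two⟩
  have h2 : IsPGroup 2 (Q ⧸ (oddIn M).subgroupOf Q) := fun z => by
    obtain ⟨q, rfl⟩ := QuotientGroup.mk_surjective z
    obtain ⟨k, hk⟩ := hQ2 q q.2
    exact ⟨k, by rw [← QuotientGroup.mk_pow, QuotientGroup.eq_one_iff, mem_subgroupOf]; exact hk⟩
  obtain ⟨k, hk⟩ := IsPGroup.iff_card.1 h2
  refine ⟨⟨k, ?_⟩, ?_⟩
  · have e4 := relIndex_mul_relIndex (⊥ : Subgroup G) D Mc bot_le hDMc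
    rw [relIndex_bot_left, relIndex_bot_left] at e4
    rw [← e4, ← e3]
    congr 1
  · rw [hQrel]
    have hDodd : Odd (Nat.card D) :=
      (hG.odd_pairStab hcd).of_dvd_nat (card_dvd_of_le inf_le_right)
    exact hDodd.of_dvd_nat (index_dvd_card _)

end Point

section Local

variable (hG : OneFix G Ω) (hS : Shape G Ω M) {c d : Ω} (hc : c ∈ delta Ω M)
  (hd : d ∈ delta Ω M) (hcd : c ≠ d) {p : ℕ} [Fact p.Prime] {P : Subgroup G}

include hG hS hc hd hcd in
/-- An involution of `M` at `c` acting non-trivially on `P ∩ O(M)`. -/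
theorem exists_bad_invol (hPK : SylowIn p (P ⊓ oddIn M) (oddIn M))
    (hx : ∃ x ∈ M, orderOf x = 2 ∧ x ∈ normalizer ((P ⊓ oddIn M : Subgroup G) : Set G) ∧
      ∃ y ∈ P ⊓ oddIn M, x * y ≠ y * x) :
    ∃ u ∈ invAt G c, u ∈ M ∧ u ∈ normalizer ((P ⊓ oddIn M : Subgroup G) : Set G) ∧
      ∃ y ∈ P ⊓ oddIn M, u * y ≠ y * u := by
  obtain ⟨x, hxM, hx2, hxN, y, hy, hxy⟩ := hx
  obtain ⟨e, he⟩ := hG.exists_fix hx2
  obtain ⟨g, hg, hge⟩ := exists_to hS hc hd hcd (e := e) ⟨x, ⟨hx2, he⟩, hxM⟩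
  set P₀ := P ⊓ oddIn M with hP₀
  have hK : (oddIn M).map (MulAut.conj g).toMonoidHom = oddIn M :=
    mem_normalizer_iff_map_conj_eq.1 (normalizer_oddIn hg)
  obtain ⟨k, hk, hk'⟩ := (hK ▸ hPK.map_conj g).conj_eq hPK
  have hkM : k ∈ M := (oddIn_le_stab hS hc hk).1
  have hmap : P₀.map (MulAut.conj (k * g)).toMonoidHom = P₀ := by
    refine Eq.trans ?_ hk'
    rw [map_map]
    congr 1
    ext z
    simp [mul_assoc]
  have hcon : ∀ z ∈ P₀, k * g * z * (k * g)⁻¹ ∈ P₀ := fun z hz => by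
    have h := mem_map_of_mem (MulAut.conj (k * g)).toMonoidHom hz
    rwa [hmap] at h
  refine ⟨k * g * x * (k * g)⁻¹, ?_, mul_mem (mul_mem (mul_mem hkM hg) hxM)
    (inv_mem (mul_mem hkM hg)), mul_mem (mul_mem ?_ hxN) (inv_mem ?_), _, hcon y hy, fun h => hxy ?_⟩
  · have := OneFix.conj_mem_invAt (g := k * g) (⟨hx2, he⟩ : x ∈ invAt G e)
    rwa [mul_smul, hge, mem_stabilizer_iff.1 (oddIn_le_stab hS hc hk).2] at this
  · exact mem_normalizer_iff_map_conj_eq.2 hmap
  · exact mem_normalizer_iff_map_conj_eq.2 hmap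
  · have h' := congrArg (fun z => (k * g)⁻¹ * z * (k * g)) h
    simpa [mul_assoc] using h'

include hG hS hc hd hcd in
/-- Modulo `O_{p'}(O(M))` the stabiliser `M_c` normalises `Z(J(P))`. -/
theorem stab_le_sup_normalizer (hfour : HasFourIn M) (hp2 : p ≠ 2)
    (hP : SylowIn p P (M ⊓ stabilizer G c)) {u y : G} (hu : u ∈ invAt G c) (huM : u ∈ M)
    (huN : u ∈ normalizer ((P ⊓ oddIn M : Subgroup G) : Set G)) (hy : y ∈ P ⊓ oddIn M)
    (huy : u * y ≠ y * u) {Q : Subgroup G} (hQ : Q ≤ M ⊓ stabilizer G c)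
    (hQn : M ⊓ stabilizer G c ≤ normalizer (Q : Set G))
    (hQodd : Odd (Q.relIndex (M ⊓ stabilizer G c)))
    (hQJ : ∀ s ∈ invAt G c, s ∈ M → s ∈ Q ∧ ∀ q ∈ Q, q * s * q⁻¹ * s⁻¹ ∈ oddIn M)
    (hQcomm : ∀ x ∈ Q, ∀ z ∈ Q,
      x * z * x⁻¹ * z⁻¹ ∈ oddIn M ⊔ closure {s | s ∈ invAt G c ∧ s ∈ M}) :
    M ⊓ stabilizer G c ≤
      core p (oddIn M) ⊔ M ⊓ normalizer (Cfsg.centerThompsonAOf P : Set G) := by
  set Mc := M ⊓ stabilizer G c with hMc
  set K := oddIn M with hK
  set W := core p K with hW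
  have hKMc : K ≤ Mc := oddIn_le_stab hS hc
  have hWK : W ≤ K := map_subtype_le _
  have hMcW : Mc ≤ normalizer (W : Set G) :=
    (inf_le_left.trans normalizer_oddIn).trans (Balance.normalizer_le_normalizer_coreIn K)
  have hWp : ¬ p ∣ Nat.card W := Balance.not_dvd_card_coreIn K
  have hKodd : Odd (Nat.card K) := odd_oddIn_zj
  have hWodd : Odd (Nat.card W) := hKodd.of_dvd_nat (card_dvd_of_le hWK)
  -- a normal subgroup of `M_c` of order prime to `p` is in `W`
  have hPp : IsPGroup p ↥(P ⊓ K : Subgroup G) := hP.isPGroup.to_le inf_le_left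
  set w := u * y * u⁻¹ * y⁻¹ with hwdef
  have hwP : w ∈ P ⊓ K := mul_mem ((mem_normalizer_iff.1 huN y).1 hy) (inv_mem hy)
  have hw1 : w ≠ 1 := fun h => huy (mul_inv_eq_iff_eq_mul.1 (mul_inv_eq_one.1 h))
  have hwX : ∀ X : Subgroup G, X ≤ Mc → Mc ≤ normalizer (X : Set G) → ¬ Odd (Nat.card X) →
      w ∈ X := fun X hX hXn he => by
    have huX := mem_of_even hG hS hX hXn he hu huM
    have h1 := (mem_normalizer_iff.1 (hXn (hKMc hy.2)) u⁻¹).1 (inv_mem huX)
    rw [hwdef, show u * y * u⁻¹ * y⁻¹ = u * (y * u⁻¹ * y⁻¹) by group]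
    exact mul_mem huX h1
  have hcore : ∀ X : Subgroup G, X ≤ Mc → Mc ≤ normalizer (X : Set G) →
      ¬ p ∣ Nat.card X → X ≤ W := fun X hX hXn hXp => by
    by_cases he : Odd (Nat.card X)
    · exact Balance.le_coreIn_of_not_dvd (hS.odd_normal c hc X hX he hXn) (hKMc.trans hXn) hXp
    · exact absurd (eq_one_of_coprime hPp hXp hwP (hwX X hX hXn he)) hw1
  -- the quotient
  set N := W.subgroupOf Mc with hN
  haveI : N.Normal := (normal_subgroupOf_iff_le_normalizer (hWK.trans hKMc)).2 hMcW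
  set π := QuotientGroup.mk' N with hπ
  have hπs : Function.Surjective π := QuotientGroup.mk'_surjective N
  have hker : π.ker = N := QuotientGroup.ker_mk' N
  have hNcard : Nat.card N = Nat.card W :=
    Nat.card_congr (subgroupOfEquivOfLe (hWK.trans hKMc)).toEquiv
  have hkp : ¬ p ∣ Nat.card π.ker := by rw [hker, hNcard]; exact hWp
  have hkodd : Odd (Nat.card π.ker) := by rw [hker, hNcard]; exact hWodd
  have hπ1 : ∀ {z : Mc}, π z = 1 ↔ (z : G) ∈ W := fun {z} => by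
    rw [← MonoidHom.mem_ker, hker]; rfl
  -- normal subgroups of the quotient, seen in `G`
  have hpre : ∀ Y : Subgroup (Mc ⧸ N), Y.Normal →
      (Y.comap π).map Mc.subtype ≤ Mc ∧
      Mc ≤ normalizer (((Y.comap π).map Mc.subtype : Subgroup G) : Set G) ∧
      Nat.card ((Y.comap π).map Mc.subtype : Subgroup G) = Nat.card π.ker * Nat.card Y := by
    intro Y hY
    haveI := hY.comap π
    refine ⟨map_subtype_le _, fun g hg => Subgroup.le_normalizer_map Mc.subtype
      ⟨⟨g, hg⟩, normalizer_eq_top_iff.2 (hY.comap π) ▸ mem_top _, rfl⟩, ?_⟩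
    rw [card_map_of_injective Mc.subtype_injective, card_comap π hπs]
  have hΓcore : Cfsg.pPrimeCore p (Mc ⧸ N) = ⊥ := by
    obtain ⟨h1, h2, h3⟩ := hpre _ (inferInstance : (Cfsg.pPrimeCore p (Mc ⧸ N)).Normal)
    have h4 := hcore _ h1 h2 (by
      rw [h3]
      exact (Nat.Prime.dvd_mul (Fact.out : p.Prime)).not.2
        (not_or.2 ⟨hkp, Cores.not_dvd_card_pPrimeCore p⟩))
    refine (eq_bot_iff_forall _).2 fun z hz => ?_
    obtain ⟨z, rfl⟩ := hπs z
    exact hπ1.2 (h4 ⟨z, hz, rfl⟩)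
  set KΓ := (K.subgroupOf Mc).map π with hKΓ
  haveI : (K.subgroupOf Mc).Normal :=
    (normal_subgroupOf_iff_le_normalizer hKMc).2 (inf_le_left.trans normalizer_oddIn)
  haveI hKΓn : KΓ.Normal := Normal.map inferInstance π hπs
  have hKΓodd : Odd (Nat.card KΓ) := odd_map π (by
    rw [Nat.card_congr (subgroupOfEquivOfLe hKMc).toEquiv]; exact hKodd)
  have hle_KΓ : ∀ Y : Subgroup (Mc ⧸ N), Y.Normal → Odd (Nat.card Y) → Y ≤ KΓ := by
    intro Y hY hYodd z hz
    obtain ⟨h1, h2, h3⟩ := hpre Y hY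
    have h4 := hS.odd_normal c hc _ h1 (h3 ▸ hkodd.mul hYodd) h2
    obtain ⟨z, rfl⟩ := hπs z
    exact ⟨z, h4 ⟨z, hz, rfl⟩, rfl⟩
  have hw_even : ∀ Y : Subgroup (Mc ⧸ N), Y.Normal → ¬ Odd (Nat.card Y) →
      ∀ {t : Mc}, (t : G) ∈ invAt G c → π t ∈ Y := by
    intro Y hY he t ht
    obtain ⟨h1, h2, h3⟩ := hpre Y hY
    obtain ⟨t', ht', htt⟩ := mem_of_even hG hS h1 h2
      (fun h => he (h.of_dvd_nat (h3 ▸ dvd_mul_left _ _))) ht t.2.1
    rwa [← (Subtype.ext htt : t' = t)]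
  -- self-centralising core
  set U := Cfsg.pCore p (Mc ⧸ N) with hU
  have hUp : IsPGroup p U := Cores.pCore_isPGroup p
  have hUK : U ≤ KΓ := hle_KΓ _ inferInstance (by
    obtain ⟨n, hn⟩ := IsPGroup.iff_card.1 hUp
    rw [hn]
    exact ((Fact.out : p.Prime).odd_of_ne_two hp2).pow)
  have hKcent : KΓ ⊓ centralizer (U : Set (Mc ⧸ N)) ≤ U := by
    haveI : Group.IsSolvable KΓ := OddOrder.FeitThompson.isSolvable_of_odd_card hKΓodd
    have h0 : Cfsg.pPrimeCore p ↥KΓ = ⊥ := by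
      haveI : ((Cfsg.pPrimeCore p ↥KΓ).map KΓ.subtype).Normal := Cores.normal_map_subtype KΓ _
      have h := Cores.le_pPrimeCore_of_not_dvd (p := p)
        (N := (Cfsg.pPrimeCore p ↥KΓ).map KΓ.subtype) (by
          rw [card_map_of_injective KΓ.subtype_injective]
          exact Cores.not_dvd_card_pPrimeCore p)
      rwa [hΓcore, le_bot_iff, map_eq_bot_iff_of_injective _ KΓ.subtype_injective] at h
    have h1 := PSolvable.centralizer_pCore_le (PSolvable.isPSolvable_of_isSolvable (p := p)) h0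
    intro z hz
    have h2 : (⟨z, hz.1⟩ : KΓ) ∈ Cfsg.pCore p ↥KΓ := h1 (mem_centralizer_iff.2 fun v hv =>
      Subtype.ext (mem_centralizer_iff.1 hz.2 v (by
        have h3 : (v : Mc ⧸ N) ∈ (Cfsg.pCore p ↥KΓ).map KΓ.subtype := mem_map_of_mem _ hv
        rw [Cores.map_subtype_pCore p KΓ] at h3
        exact h3.2)))
    have h3 : z ∈ (Cfsg.pCore p ↥KΓ).map KΓ.subtype := mem_map_of_mem KΓ.subtype h2
    rw [Cores.map_subtype_pCore p KΓ] at h3
    exact h3.2
  set u' : Mc := ⟨u, huM, hu.2⟩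
  set w' : Mc := ⟨w, hKMc hwP.2⟩
  have hself : centralizer (U : Set (Mc ⧸ N)) ≤ U := by
    haveI : (centralizer (U : Set (Mc ⧸ N))).Normal := normal_centralizer
    by_cases he : Odd (Nat.card (centralizer (U : Set (Mc ⧸ N))))
    · exact fun z hz => hKcent ⟨hle_KΓ _ inferInstance he hz, hz⟩
    · exfalso
      have huC : π u' ∈ centralizer (U : Set (Mc ⧸ N)) := hw_even _ inferInstance he hu
      have hwe : w' = u' * ⟨y, hKMc hy.2⟩ * u'⁻¹ * (⟨y, hKMc hy.2⟩ : Mc)⁻¹ := Subtype.ext rfl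
      have hrC : π w' ∈ centralizer (U : Set (Mc ⧸ N)) := by
        rw [hwe, mul_assoc, mul_assoc, ← mul_assoc _ u'⁻¹, map_mul, map_mul, map_mul, map_inv,
          map_inv]
        exact mul_mem huC (Normal.conj_mem inferInstance _ (inv_mem huC) _)
      have hrK : π w' ∈ KΓ := mem_map_of_mem π (mem_subgroupOf.2 hwP.2)
      have hrU := hKcent ⟨hrK, hrC⟩
      have hinv : u * w * u⁻¹ = w⁻¹ := by
        simp only [hwdef, mul_inv_rev, inv_inv, invol_inv hu.1]
        calc u * (u * y * u * y⁻¹) * u = (u * u) * (y * u * y⁻¹ * u) := by group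
          _ = y * (u * y⁻¹ * u) := by rw [invol_mul_self hu.1, one_mul]; group
          _ = _ := by simp only [mul_assoc]
      have h1 : π u' * π w' * (π u')⁻¹ = (π w')⁻¹ := by
        rw [← map_inv, ← map_mul, ← map_mul, ← map_inv]
        exact congrArg π (Subtype.ext hinv)
      rw [← mem_centralizer_iff.1 huC _ hrU, mul_inv_cancel_right] at h1
      have h2 : orderOf (π w') ∣ 2 :=
        orderOf_dvd_of_pow_eq_one (by rw [pow_two]; exact mul_eq_one_iff_eq_inv.2 h1)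
      have h3 : π w' = 1 := orderOf_eq_one_iff.1 (Nat.Coprime.eq_one_of_dvd
        (Nat.coprime_two_right.2 (hKΓodd.of_dvd_nat (KΓ.orderOf_dvd_natCard hrK))) h2)
      exact hw1 (eq_one_of_coprime hPp hWp hwP (hπ1.1 h3))
  -- involutions of the quotient
  have hlift : ∀ {s : Mc ⧸ N}, orderOf s = 2 → ∃ t : Mc, (t : G) ∈ invAt G c ∧ π t = s :=
    fun {s} hs => by
      obtain ⟨t, ht, hts⟩ := exists_lift_invol π hπs hkodd hs
      exact ⟨t, ⟨by rwa [orderOf_coe], t.2.2⟩, hts⟩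
  have hH : Stab.InvHyp (Mc ⧸ N) := by
    constructor
    · obtain ⟨a, ha, b, hb, ha2, hb2, hne, hab⟩ := hfour
      obtain ⟨e, he⟩ := hG.exists_fix ha2
      obtain ⟨g, hg, hge⟩ := exists_to hS hc hd hcd (e := e) ⟨a, ⟨ha2, he⟩, ha⟩
      have hfa : ∀ {z : G}, z ∈ M → orderOf z = 2 → z • e = e →
          ∃ t : Mc, (t : G) = g * z * g⁻¹ ∧ orderOf t = 2 := fun {z} hzM hz2 hze => by
        have h := OneFix.conj_mem_invAt (g := g) (⟨hz2, hze⟩ : z ∈ invAt G e)
        rw [hge] at h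
        exact ⟨⟨_, M.mul_mem (M.mul_mem hg hzM) (M.inv_mem hg), h.2⟩, rfl,
          (Subgroup.orderOf_mk _ _).trans h.1⟩
      obtain ⟨a', ha', ha'2⟩ := hfa ha ha2 he
      obtain ⟨b', hb', hb'2⟩ := hfa hb hb2 (hG.smul_eq_of_commute ⟨ha2, he⟩ hab)
      have hcomm : a' * b' = b' * a' := Subtype.ext (by
        push_cast
        rw [ha', hb']
        calc g * a * g⁻¹ * (g * b * g⁻¹) = g * (a * b) * g⁻¹ := by group
          _ = g * b * g⁻¹ * (g * a * g⁻¹) := by rw [hab]; group)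
      refine ⟨π a', π b', orderOf_map_invol π hkodd ha'2, orderOf_map_invol π hkodd hb'2,
        fun h => ?_, by rw [← map_mul, hcomm, map_mul]⟩
      have hne' : a' * b' ≠ 1 := fun h1 => hne (by
        have h3 := congrArg Subtype.val ((eq_inv_of_mul_eq_one_left h1).trans (invol_inv hb'2))
        rw [ha', hb'] at h3
        exact mul_left_cancel (mul_right_cancel h3))
      have h2 : orderOf (a' * b') = 2 := orderOf_eq_prime (by
        rw [pow_two]
        calc a' * b' * (a' * b') = a' * b' * (b' * a') := by rw [hcomm]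
          _ = 1 := by
            rw [mul_assoc, ← mul_assoc b', invol_mul_self hb'2, one_mul, invol_mul_self ha'2]) hne'
      have h4 := orderOf_map_invol π hkodd h2
      rw [map_mul, h, ← map_mul, invol_mul_self hb'2, map_one, orderOf_one] at h4
      exact absurd h4 (by decide)
    · intro s t hs ht
      obtain ⟨s', hs', rfl⟩ := hlift hs
      obtain ⟨t', ht', rfl⟩ := hlift ht
      have h1 := (hQJ _ ht' t'.2.1).2 _ (hQJ _ hs' s'.2.1).1
      have h2 : ⁅π s', π t'⁆ ∈ KΓ := by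
        rw [← map_commutatorElement]
        exact mem_map_of_mem π (mem_subgroupOf.2 (by
          rw [commutatorElement_def]
          exact h1))
      exact Cores.le_pPrimeCore (Nat.coprime_two_right.2 hKΓodd) h2
    · intro s t hs ht
      obtain ⟨s', hs', rfl⟩ := hlift hs
      obtain ⟨t', ht', rfl⟩ := hlift ht
      obtain ⟨g, hg, hgt⟩ := hS.conj _ s'.2.1 _ t'.2.1 hs'.1 ht'.1
      have hgc : g • c = c := hG.eq_of_fix ht'.1 (hgt ▸ (OneFix.conj_mem_invAt hs').2) ht'.2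
      refine ⟨π ⟨g, hg, hgc⟩, ?_⟩
      rw [← map_inv, ← map_mul, ← map_mul]
      exact congrArg π (Subtype.ext hgt)
  -- stability
  have hst : ∀ (V : Subgroup (Mc ⧸ N)) [V.Normal], IsPGroup p V → Cfsg.IsPStableOn p V := by
    intro V hVn hVp
    by_cases he : Odd (Nat.card (centralizer (V : Set (Mc ⧸ N))))
    · exact Stab.isPStableOn_of_odd hp2 hH V hVp he
    refine BenderOne83.StableQuot.isPStableOn_of_quotient hp2 V hVp ?_
    set C := centralizer (V : Set (Mc ⧸ N)) with hC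
    haveI : C.Normal := normal_centralizer
    set f := (QuotientGroup.mk' C).comp π with hf
    have hfs : Function.Surjective f := (QuotientGroup.mk'_surjective C).comp hπs
    haveI : Fact (Nat.Prime 2) := ⟨Nat.prime_two⟩
    set T : Sylow 2 Mc := default
    refine Lib.PLocal.noSLTwo_of_abelian_sylow_two hp2 (T.mapSurjective hfs) ⟨⟨?_⟩⟩
    rintro ⟨_, ha⟩ ⟨_, hb⟩
    rw [Sylow.coe_mapSurjective] at ha hb
    obtain ⟨a, haT, rfl⟩ := ha
    obtain ⟨b, hbT, rfl⟩ := hb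
    haveI : (Q.subgroupOf Mc).Normal := (normal_subgroupOf_iff_le_normalizer hQ).2 hQn
    have hmemQ : ∀ {z : Mc}, z ∈ (T : Subgroup Mc) → (z : G) ∈ Q := fun {z} hz => by
      obtain ⟨k, hk⟩ := IsPGroup.iff_orderOf.1 T.isPGroup' ⟨z, hz⟩
      rw [Subgroup.orderOf_mk] at hk
      have h1 : orderOf (QuotientGroup.mk' (Q.subgroupOf Mc) z) ∣ 2 ^ k :=
        hk ▸ orderOf_map_dvd _ z
      have h2 : orderOf (QuotientGroup.mk' (Q.subgroupOf Mc) z) ∣
          Nat.card (Mc ⧸ Q.subgroupOf Mc) := orderOf_dvd_natCard _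
      have h3 := Nat.Coprime.eq_one_of_dvd
        ((Nat.Coprime.pow_right k (Nat.coprime_two_right.2 (hQodd.of_dvd_nat h2)))) h1
      exact mem_subgroupOf.1 ((QuotientGroup.eq_one_iff z).1 (orderOf_eq_one_iff.1 h3))
    set L := ((K.subgroupOf Mc).map f).comap f with hL
    have hle : K ⊔ closure {s | s ∈ invAt G c ∧ s ∈ M} ≤ L.map Mc.subtype := by
      refine sup_le (fun z hz => ⟨⟨z, hKMc hz⟩, mem_map_of_mem f (mem_subgroupOf.2 hz), rfl⟩)
        ((closure_le _).2 fun t ht => ⟨⟨t, ht.2, ht.1.2⟩, ?_, rfl⟩)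
      have h1 : f ⟨t, ht.2, ht.1.2⟩ = 1 :=
        (QuotientGroup.eq_one_iff _).2 (hw_even C inferInstance he (t := ⟨t, ht.2, ht.1.2⟩) ht.1)
      rw [hL, SetLike.mem_coe, mem_comap, h1]
      exact one_mem _
    obtain ⟨z, hz, hzab⟩ := hle (hQcomm _ (hmemQ haT) _ (hmemQ hbT))
    have hz' : z = a * b * a⁻¹ * b⁻¹ := Subtype.ext hzab
    have h1 : orderOf (f z) ∣ Nat.card ((K.subgroupOf Mc).map f) :=
      Subgroup.orderOf_dvd_natCard _ hz
    obtain ⟨k, hk⟩ := IsPGroup.iff_orderOf.1 T.isPGroup'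
      ⟨z, by rw [hz']; exact mul_mem (mul_mem (mul_mem haT hbT) (inv_mem haT)) (inv_mem hbT)⟩
    rw [Subgroup.orderOf_mk] at hk
    have h2 : orderOf (f z) ∣ 2 ^ k := hk ▸ orderOf_map_dvd f z
    have hodd : Odd (Nat.card ((K.subgroupOf Mc).map f)) := odd_map f (by
      rw [Nat.card_congr (subgroupOfEquivOfLe hKMc).toEquiv]; exact hKodd)
    have h3 : f z = 1 := orderOf_eq_one_iff.1 (Nat.Coprime.eq_one_of_dvd
      (Nat.Coprime.pow_right k (Nat.coprime_two_right.2 (hodd.of_dvd_nat h1))) h2)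
    rw [hz', map_mul, map_mul, map_mul, map_inv, map_inv] at h3
    exact Subtype.ext (mul_inv_eq_iff_eq_mul.1 (mul_inv_eq_one.1 h3))
  -- the normal subgroup `Z(J)`
  set P' := P.subgroupOf Mc with hP'
  have hP'p : IsPGroup p P' := hP.isPGroup.comap_subtype
  set S₀ : Sylow p Mc := Sylow.ofCard P' (by
    rw [hP', Nat.card_congr (subgroupOfEquivOfLe hP.1).toEquiv, hP.2])
  have hZ := Lib.ZJ.centerThompsonAOf_normal hp2 hself hst (S₀.mapSurjective hπs)
  rw [Sylow.coe_mapSurjective, Sylow.coe_ofCard] at hZ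
  set Z' := Cfsg.centerThompsonAOf P' with hZ'
  have hZmap : Z'.map π = Cfsg.centerThompsonAOf (P'.map π) :=
    map_centerThompsonAOf_injOn π P' fun z hz hz1 =>
      Subtype.ext (eq_one_of_coprime hP.isPGroup hWp (mem_subgroupOf.1 hz) (hπ1.1 hz1))
  have hnorm := Balance.map_normalizer_eq hπs hkp (hP'p.to_le (Lib.ZJ.centerThompsonAOf_le P'))
  rw [← hZ', hZmap, normalizer_eq_top_iff.2 hZ] at hnorm
  have hZG : Z'.map Mc.subtype = Cfsg.centerThompsonAOf P := by
    rw [hZ', Lib.ZJ.map_centerThompsonAOf _ Mc.subtype_injective, hP', subgroupOf_map_subtype,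
      inf_eq_left.2 hP.1]
  intro g hg
  have hgm : π ⟨g, hg⟩ ∈ (normalizer (Z' : Set Mc)).map π := hnorm.symm ▸ mem_top _
  obtain ⟨n, hn, hng⟩ := hgm
  have h1 : g * (n : G)⁻¹ ∈ W := by
    refine (hπ1 (z := ⟨g, hg⟩ * n⁻¹)).1 ?_
    rw [map_mul, map_inv, hng, mul_inv_cancel]
  have h2 : (n : G) ∈ normalizer (Cfsg.centerThompsonAOf P : Set G) :=
    hZG ▸ Subgroup.le_normalizer_map Mc.subtype ⟨n, hn, rfl⟩
  rw [show g = g * (n : G)⁻¹ * n by group]
  exact mul_mem (mem_sup_left h1) (mem_sup_right ⟨n.2.1, h2⟩)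

end Local

/-- ST: for a violating subgroup, `Z(J(P))` is normalised by `M` modulo `O_{p'}(O(M))`. -/
theorem propZJ (hC : Ctx G Ω) : PropZJ G Ω := by
  intro M p P c d hp hV hc hd hcd hP hx
  haveI := Fact.mk hp
  have hG := hC.oneFix
  have hS := hC.shape M hV.toBig
  have hDn : M ⊓ pairStab G c d ≤ normalizer (oddIn M : Set G) :=
    inf_le_left.trans normalizer_oddIn
  have hPK := sylowIn_inf hP (oddIn_le_pair hS hc hd) hDn
  obtain ⟨u, hu, huM, huN, y, hy, huy⟩ := exists_bad_invol hG hS hc hd hcd hPK hx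
  have hp2 : p ≠ 2 := fun h => by
    obtain ⟨k, hk⟩ := IsPGroup.iff_orderOf.1 hPK.isPGroup ⟨y, hy⟩
    rw [Subgroup.orderOf_mk] at hk
    rcases k.eq_zero_or_pos with rfl | hk0
    · exact huy (by rw [orderOf_eq_one_iff.1 (hk.trans (pow_zero p)), mul_one, one_mul])
    · exact Nat.not_odd_iff_even.2 even_two (h ▸ (odd_oddIn_zj (M := M)).of_dvd_nat
        ((dvd_pow_self p hk0.ne').trans (hk ▸ (oddIn M).orderOf_dvd_natCard hy.2)))
  obtain ⟨Q, hKQ, hQ, hQn, hQ2, htr, hreg, hQJ, hQcomm⟩ := hS.regular c hc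
  obtain ⟨⟨k, hk⟩, hQodd⟩ := index_facts hG hS hc hd hcd hKQ hQ hQn hQ2 htr hreg
  set D := M ⊓ pairStab G c d with hD
  have hDMc : D ≤ M ⊓ stabilizer G c := le_inf inf_le_left (inf_le_right.trans inf_le_left)
  have hPMc : SylowIn p P (M ⊓ stabilizer G c) := by
    refine ⟨hP.1.trans hDMc, ?_⟩
    rw [hk, Nat.factorization_mul Nat.card_pos.ne' (pow_ne_zero _ two_ne_zero),
      Nat.Prime.factorization_pow Nat.prime_two, Finsupp.add_apply,
      Finsupp.single_eq_of_ne hp2, add_zero]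
    exact hP.2
  set L := core p (oddIn M) ⊔ M ⊓ normalizer (Cfsg.centerThompsonAOf P : Set G) with hL
  have hMcL : M ⊓ stabilizer G c ≤ L :=
    stab_le_sup_normalizer hG hS hc hd hcd hV.four hp2 hPMc hu huM huN hy huy hQ hQn hQodd hQJ
      hQcomm
  refine le_antisymm (sup_le ((map_subtype_le _).trans (map_subtype_le _)) inf_le_left) ?_
  -- an element of `N_M(P)` moving `c`
  obtain ⟨g, hg, hgc, hgd⟩ := hS.two_trans c hc d hd d hd c hc hcd hcd.symm
  have hgD : D.map (MulAut.conj g).toMonoidHom = D := by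
    refine eq_of_le_of_card_ge ?_ (le_of_eq (card_map_of_injective (MulAut.conj g).injective).symm)
    rintro _ ⟨z, ⟨hzM, hzc, hzd⟩, rfl⟩
    refine ⟨M.mul_mem (M.mul_mem hg hzM) (M.inv_mem hg), ?_, ?_⟩
    · show (g * z * g⁻¹) • c = c
      rw [mul_smul, mul_smul, inv_smul_eq_iff.2 hgd.symm, mem_stabilizer_iff.1 hzd, hgd]
    · show (g * z * g⁻¹) • d = d
      rw [mul_smul, mul_smul, inv_smul_eq_iff.2 hgc.symm, mem_stabilizer_iff.1 hzc, hgc]
  obtain ⟨e, he, heP⟩ := (hgD ▸ hP.map_conj g).conj_eq hP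
  set h := e * g with hh
  have hhP : h ∈ normalizer (P : Set G) := by
    rw [mem_normalizer_iff_map_conj_eq]
    refine Eq.trans ?_ heP
    rw [map_map]
    congr 1
    ext z
    simp [hh, mul_assoc]
  have hhL : h ∈ L := mem_sup_right
    ⟨mul_mem he.1 hg, Lib.ZJ.normalizer_le_normalizer_centerThompsonA P hhP⟩
  have hhc : h • c = d := by
    rw [hh, mul_smul, hgc, mem_stabilizer_iff.1 he.2.2]
  intro m hm
  rcases eq_or_ne (m • c) c with hmc | hmc
  · exact hMcL ⟨hm, hmc⟩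
  obtain ⟨q, hq, hqd⟩ := htr d hd _ (hS.smul_mem m hm c hc) hcd.symm hmc
  have hqL : q * h ∈ L := mul_mem (hMcL (hQ hq)) hhL
  rw [show m = q * h * ((q * h)⁻¹ * m) by group]
  refine mul_mem hqL (hMcL ⟨M.mul_mem (M.inv_mem (M.mul_mem (hQ hq).1 (M.mul_mem he.1 hg))) hm, ?_⟩)
  show ((q * h)⁻¹ * m) • c = c
  rw [mul_smul, inv_smul_eq_iff, mul_smul, hhc, hqd]

end Cfsg.Agent.Lib.BenderOne.NodeA
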