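import Cfsg.Agent.Lib.BenderOne.NodeA.Main
import Cfsg.Agent.Lib.BenderOne.NodeA.CharP
import Cfsg.Agent.Lib.BenderOne.NodeA.ZJ

/-!
# Bender's theorem, part I, node A: the theorem
-/

set_option autoImplicit false

namespace Cfsg.Agent.Lib.BenderOne.NodeA

universe u

/-- Node A: in a proper subgroup with a four group and two fixed points the involutions centralise
the odd core. -/
theorem propCoreCentral : PropCoreCentral.{u} :=
  propCoreCentral_of (fun _ _ _ _ hC => propZJ hC)
    (fun _ _ _ _ hC => propCharP hC (propNormFix hC) (propChainFix hC))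

end Cfsg.Agent.Lib.BenderOne.NodeA
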