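import Cfsg.Agent.Lib.BenderOne.NodeA.Interface
import Cfsg.Agent.Lib.BenderOne.SplitFacts
import Cfsg.Agent.Lib.BenderOne.Assemble
import Cfsg.Agent.Lib.BenderSuzuki.Order

/-!
# Bender's theorem, part I, node A: the shape of a big subgroup

Induction and part II describe the quotient of a proper subgroup with a four group and two fixed
points by its odd core.
-/

set_option autoImplicit false
set_option linter.style.haveILetI false
set_option linter.unusedSectionVars false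

namespace Cfsg.Agent.Lib.BenderOne.NodeA

open Subgroup MulAction
open Cfsg.Agent.Lib.Involutions.Basic Cfsg.Agent.Lib.Involutions.StronglyEmbedded
open Cfsg.Agent.Lib.BenderOne20

universe u

variable {G : Type u} [Group G] [Finite G] {H : Subgroup G}

/-- The trace of a point stabiliser on a big subgroup. -/
theorem big_trace (hSE : Cfsg.IsStronglyEmbedded H) {M : Subgroup G} (hM : Big G (G ⧸ H) M)
    {c : G ⧸ H} (hc : c ∈ delta (G ⧸ H) M) :
    Cfsg.IsStronglyEmbedded ((stabilizer G c).subgroupOf M) ∧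
      BenderOne20.HasFour ((stabilizer G c).subgroupOf M) := by
  have hG := oneFix_of_stronglyEmbedded hSE
  obtain ⟨g, rfl⟩ := QuotientGroup.mk_surjective c
  obtain ⟨v, hv, hvM⟩ := hc
  have hst : stabilizer G (g : G ⧸ H) = H.map (MulAut.conj g).toMonoidHom := by
    ext x
    rw [mem_stabilizer_iff, smul_coset_eq_iff, mem_conj_iff]
  obtain ⟨x, ⟨s, hs, hsM⟩, y, ⟨r, hr, hrM⟩, hxy⟩ := hM.many
  have hML : ¬ M ≤ stabilizer G (g : G ⧸ H) := fun hle =>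
    hxy ((hG.eq_of_fix hs.1 hs.2 (hle hsM)).trans (hG.eq_of_fix hr.1 (hle hrM) hr.2))
  have hSE' := subgroupOf_stronglyEmbedded (hst ▸ stronglyEmbedded_conj hSE g) hML hv.1 hv.2 hvM
  refine ⟨hSE', ?_⟩
  obtain ⟨a, ha, b, hb, ha2, hb2, hne, hab⟩ := hM.four
  obtain ⟨m, hm⟩ := exists_conj_mem hSE' (u := ⟨a, ha⟩) ((Subgroup.orderOf_mk a ha).trans ha2)
  have hcm : (⟨a, ha⟩ : M) * ⟨b, hb⟩ = ⟨b, hb⟩ * ⟨a, ha⟩ := Subtype.ext hab
  refine ⟨m * ⟨a, ha⟩ * m⁻¹, hm, m * ⟨b, hb⟩ * m⁻¹, centralizer_le hSE'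
    ((orderOf_conj_eq m _).trans ((Subgroup.orderOf_mk a ha).trans ha2)) hm ?_,
    (orderOf_conj_eq m _).trans ((Subgroup.orderOf_mk a ha).trans ha2),
    (orderOf_conj_eq m _).trans ((Subgroup.orderOf_mk b hb).trans hb2),
    fun he => hne (congrArg Subtype.val (mul_left_cancel (mul_right_cancel he))), ?_⟩
  · rw [mem_centralizer_singleton_iff]
    calc m * ⟨b, hb⟩ * m⁻¹ * (m * ⟨a, ha⟩ * m⁻¹) = m * (⟨b, hb⟩ * ⟨a, ha⟩) * m⁻¹ := by group
      _ = m * ⟨a, ha⟩ * m⁻¹ * (m * ⟨b, hb⟩ * m⁻¹) := by rw [← hcm]; group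
  · calc m * ⟨a, ha⟩ * m⁻¹ * (m * ⟨b, hb⟩ * m⁻¹) = m * (⟨a, ha⟩ * ⟨b, hb⟩) * m⁻¹ := by group
      _ = m * ⟨b, hb⟩ * m⁻¹ * (m * ⟨a, ha⟩ * m⁻¹) := by rw [hcm]; group

/-- In the split case all involutions of `Q` are central and commutators have order at most two. -/
theorem central_of_split (hII : BenderSuzuki.PropMain.{u, u}) (hSE : Cfsg.IsStronglyEmbedded H)
    (hfour : BenderOne20.HasFour H) (hcore : H.normalCore = ⊥) {Q : Subgroup G}
    (hQ : IsPGroup 2 Q) (hR : Regular H Q) {x y : G} (hx : x ∈ Q) (hy : y ∈ Q) :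
    (x * x = 1 → y * x * y⁻¹ * x⁻¹ = 1) ∧
      (x * y * x⁻¹ * y⁻¹) * (x * y * x⁻¹ * y⁻¹) = 1 := by
  obtain ⟨t, ht, htH⟩ := exists_invol_not_mem hSE
  have hyp := hyp hSE hfour hcore hR ht htH
  by_cases hc : IsMulCommutative Q
  · have hcom : ∀ p q : G, p ∈ Q → q ∈ Q → p * q = q * p := fun p q hp hq =>
      congrArg Subtype.val (hc.is_comm.comm (⟨p, hp⟩ : Q) ⟨q, hq⟩)
    refine ⟨fun _ => by rw [hcom y x hy hx, mul_inv_cancel_right, mul_inv_cancel], ?_⟩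
    rw [hcom x y hx hy, mul_inv_cancel_right, mul_inv_cancel, one_mul]
  · obtain ⟨hiff, -, hcom, -⟩ := BenderSuzuki.nonabelian_structure hyp hQ hc
    refine ⟨fun hxx => ?_, ?_⟩
    · have h1 := mem_center_iff.1 ((hiff ⟨x, hx⟩).1 (Subtype.ext hxx)) ⟨y, hy⟩
      have h2 : y * x = x * y := congrArg Subtype.val h1
      rw [h2, mul_inv_cancel_right, mul_inv_cancel]
    · have h1 := (hiff _).2 (hcom (⟨x, hx⟩ : Q)⁻¹ (⟨y, hy⟩ : Q)⁻¹)
      have h2 := congrArg Subtype.val h1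
      simpa using h2

/-- The fixed facts about a point of a big subgroup. -/
theorem point_data (hII : BenderSuzuki.PropMain.{u, u}) (h : Min G H) {M : Subgroup G}
    (hM : Big G (G ⧸ H) M) {c : G ⧸ H} (hc : c ∈ delta (G ⧸ H) M) :
    oddIn M ≤ stabilizer G c ∧
      (∀ v j : G, v ∈ invAt G c → v ∈ M → j ∈ M → j • c = c → Odd (orderOf j) →
        v * j * v⁻¹ = j⁻¹ → j ∈ oddIn M) ∧
      (∀ N : Subgroup G, N ≤ M ⊓ stabilizer G c → Odd (Nat.card N) →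
        M ⊓ stabilizer G c ≤ normalizer (N : Set G) → N ≤ oddIn M) ∧
      ∃ Q : Subgroup G, oddIn M ≤ Q ∧ Q ≤ M ⊓ stabilizer G c ∧
        M ⊓ stabilizer G c ≤ normalizer (Q : Set G) ∧
        (∀ q ∈ Q, ∃ k : ℕ, q ^ 2 ^ k ∈ oddIn M) ∧
        (∀ a ∈ delta (G ⧸ H) M, ∀ b ∈ delta (G ⧸ H) M, a ≠ c → b ≠ c → ∃ q ∈ Q, q • a = b) ∧
        (∀ a ∈ delta (G ⧸ H) M, a ≠ c → Q ⊓ stabilizer G a = oddIn M) ∧
        (∀ s ∈ invAt G c, s ∈ M → s ∈ Q ∧ ∀ q ∈ Q, q * s * q⁻¹ * s⁻¹ ∈ oddIn M) ∧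
        ∀ x ∈ Q, ∀ y ∈ Q,
          x * y * x⁻¹ * y⁻¹ ∈ oddIn M ⊔ closure {s | s ∈ invAt G c ∧ s ∈ M} := by
  have hG := oneFix_of_stronglyEmbedded h.se
  obtain ⟨hSE, hfour⟩ := big_trace h.se hM hc
  set K := (stabilizer G c).subgroupOf M with hK
  set X := K.normalCore with hXdef
  set f := QuotientGroup.mk' X with hf
  have hXO : X = Cfsg.oddCore ↥M :=
    le_antisymm (core_le_oddCore hSE) (normal_le_normalCore.2 (BenderOne20.oddCore_le hSE hfour))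
  have hker : ∀ {x : M}, f x = 1 ↔ (x : G) ∈ oddIn M := fun {x} => by
    rw [hf, ← MonoidHom.mem_ker, QuotientGroup.ker_mk', hXO]
    exact ⟨fun hx => mem_map_of_mem M.subtype hx,
      fun ⟨y, hy, hyx⟩ => (Subtype.ext hyx : y = x) ▸ hy⟩
  have hmemK : ∀ {x : M}, x ∈ K ↔ (x : G) • c = c := fun {x} => mem_subgroupOf
  have hfK : ∀ {x : M}, f x ∈ K.map f ↔ x ∈ K := fun {x} => by
    rw [← mem_comap, comap_map_eq, hf, QuotientGroup.ker_mk', sup_eq_left.2 (normalCore_le K)]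
  obtain ⟨h1, h2, h3⟩ := quotient_core hSE hfour
  change Cfsg.IsStronglyEmbedded (K.map f) at h1
  change BenderOne20.HasFour (K.map f) at h2
  change (K.map f).normalCore = ⊥ at h3
  have hlt : Nat.card (M ⧸ X) < Nat.card G := by
    have e1 := Subgroup.card_eq_card_quotient_mul_card_subgroup X
    have e2 : Nat.card M < Nat.card G :=
      lt_of_le_of_ne (card_le_card_group M) fun he => hM.ne_top (eq_top_of_card_eq M he)
    have e3 : 0 < Nat.card X := Nat.card_pos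
    nlinarith
  have hS := h.below _ _ hlt h1 h2 h3
  have hS2 := hS
  obtain ⟨Qb, hQb, hR⟩ := hS
  have hfinv : ∀ {v : M}, orderOf (v : G) = 2 → orderOf (f v) = 2 := fun {v} hv => by
    refine orderOf_eq_prime ?_ fun he => not_mem_core hSE (t := v) ?_ ?_
    · rw [← map_pow]
      have : v ^ 2 = 1 := Subtype.ext (by simpa [pow_two] using invol_mul_self hv)
      rw [this, map_one]
    · rwa [Subgroup.orderOf_coe] at hv
    · exact (QuotientGroup.eq_one_iff _).1 he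
  refine ⟨?_, ?_, ?_, ?_⟩
  · rintro _ ⟨x, hx, rfl⟩
    exact hmemK.1 (BenderOne20.oddCore_le hSE hfour hx)
  · intro v j hv hvM hjM hjc hodd hinv
    refine hker.1 (eq_one_of_inverted_of_split h1 hS2 (hfinv (v := ⟨v, hvM⟩) hv.1)
      (hfK.2 (hmemK.2 hv.2)) ((hfK (x := ⟨j, hjM⟩)).2 (hmemK.2 hjc)) ?_ ?_)
    · exact hodd.of_dvd_nat ((orderOf_map_dvd f _).trans (by rw [Subgroup.orderOf_mk]))
    · rw [← map_inv, ← map_mul, ← map_mul, ← map_inv]
      exact congrArg f (Subtype.ext hinv)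
  · intro N hN hodd hnorm x hx
    set N' := ((N.subgroupOf M).map f).subgroupOf (K.map f) with hN'
    haveI : N'.Normal := normal_subgroupOf_of_le_normalizer (by
      rintro _ ⟨g, hg, rfl⟩
      refine Subgroup.le_normalizer_map f (mem_map_of_mem f ?_)
      rw [mem_normalizer_iff]
      intro y
      simp only [mem_subgroupOf, coe_mul, coe_inv]
      exact mem_normalizer_iff.1 (hnorm ⟨g.2, hmemK.1 hg⟩) _)
    have hle : (N.subgroupOf M).map f ≤ K.map f :=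
      map_mono fun y hy => hmemK.2 (hN hy).2
    have hodd' : Odd (Nat.card N') := by
      rw [hN', Nat.card_congr (subgroupOfEquivOfLe hle).toEquiv]
      exact hodd.of_dvd_nat ((card_map_dvd _ f).trans
        (by rw [Nat.card_congr (subgroupOfEquivOfLe fun y hy => (hN hy).1).toEquiv]))
    have hbot := BenderOne20.le_oddCore (N := N') hodd'
    rw [oddCore_eq_bot_of_split h3 hS2] at hbot
    have h' : (⟨f ⟨x, (hN hx).1⟩, hle (mem_map_of_mem f (mem_subgroupOf.2 hx))⟩ : K.map f) ∈ N' :=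
      mem_subgroupOf.2 (mem_map_of_mem f (mem_subgroupOf.2 hx))
    exact hker.1 (congrArg Subtype.val (mem_bot.1 (hbot h')))
  -- the regular subgroup
  set Q := (Qb.comap f).map M.subtype with hQdef
  have hmemQ : ∀ {x : M}, (x : G) ∈ Q ↔ f x ∈ Qb := fun {x} =>
    ⟨fun ⟨y, hy, hyx⟩ => (Subtype.ext hyx : y = x) ▸ hy, fun hx => mem_map_of_mem M.subtype hx⟩
  have hQM : ∀ {q : G}, q ∈ Q → q ∈ M := fun {q} hq => map_subtype_le _ hq
  have hQK : ∀ {q : G} (hq : q ∈ Q), (⟨q, hQM hq⟩ : M) ∈ K := fun {q} hq =>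
    hfK.1 (hR.le (hmemQ.1 hq))
  have hpt : ∀ {a : G ⧸ H}, a ∈ delta (G ⧸ H) M → ∃ m : M, (m : G) • c = a := by
    intro a ha
    obtain ⟨s, hs, hsM⟩ := ha
    obtain ⟨v, hv, hvM⟩ := hc
    obtain ⟨m, hm⟩ := isConj_iff.1 (isConj_involutions hSE (s := ⟨v, hvM⟩) (t := ⟨s, hsM⟩)
      ((Subgroup.orderOf_mk v hvM).trans hv.1) ((Subgroup.orderOf_mk s hsM).trans hs.1))
    refine ⟨m, hG.eq_of_fix hs.1 ?_ hs.2⟩
    have hm' : (m : G) * v * (m : G)⁻¹ = s := congrArg Subtype.val hm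
    rw [← hm']
    exact (OneFix.conj_mem_invAt hv).2
  have hne : ∀ {a : G ⧸ H} {m : M}, (m : G) • c = a → a ≠ c → f m ∉ K.map f := fun hm ha h' =>
    ha (hm.symm.trans (hmemK.1 (hfK.1 h')))
  refine ⟨Q, ?_, ?_, ?_, ?_, ?_, ?_, ?_, ?_⟩
  · rintro _ ⟨x, hx, rfl⟩
    exact hmemQ.2 (by rw [hker.2 (mem_map_of_mem M.subtype hx)]; exact one_mem _)
  · exact fun q hq => ⟨hQM hq, hmemK.1 (hQK hq)⟩
  · rintro g ⟨hgM, hgc⟩
    have key : ∀ k : G, k ∈ M ⊓ stabilizer G c → ∀ q ∈ Q, k * q * k⁻¹ ∈ Q := by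
      rintro k ⟨hkM, hkc⟩ q hq
      refine hmemQ (x := ⟨k, hkM⟩ * ⟨q, hQM hq⟩ * (⟨k, hkM⟩ : M)⁻¹).2 ?_
      rw [map_mul, map_mul, map_inv]
      exact hR.conj_mem _ ((hfK (x := ⟨k, hkM⟩)).2 (hmemK.2 hkc)) _ (hmemQ.1 hq)
    refine mem_normalizer_iff.2 fun q => ⟨key g ⟨hgM, hgc⟩ q, fun hq => ?_⟩
    have := key g⁻¹ (inv_mem (⟨hgM, hgc⟩ : g ∈ M ⊓ stabilizer G c)) _ hq
    simpa [mul_assoc] using this
  · intro q hq
    obtain ⟨k, hk⟩ := hQb ⟨_, hmemQ (x := ⟨q, hQM hq⟩).1 hq⟩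
    refine ⟨k, hker (x := ⟨q, hQM hq⟩ ^ 2 ^ k).1 ?_⟩
    rw [map_pow]
    exact congrArg Subtype.val hk
  · intro a ha b hb hac hbc
    obtain ⟨ma, hma⟩ := hpt ha
    obtain ⟨mb, hmb⟩ := hpt hb
    obtain ⟨qb, hqb, hq⟩ := hR.trans (f ma) (f mb) (hne hma hac) (hne hmb hbc)
    obtain ⟨q, rfl⟩ := QuotientGroup.mk'_surjective X qb
    refine ⟨q, hmemQ.2 hqb, ?_⟩
    rw [← map_inv, ← map_mul, ← map_mul] at hq
    have h' := hmemK.1 (hfK.1 hq)
    rw [coe_mul, coe_mul, coe_inv, mul_smul, mul_smul, hma, inv_smul_eq_iff, hmb] at h'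
    exact h'
  · intro a ha hac
    obtain ⟨ma, hma⟩ := hpt ha
    refine le_antisymm ?_ ?_
    · rintro q ⟨hq, hqa⟩
      refine hker (x := ⟨q, hQM hq⟩).1 (hR.free (f ma) (hne hma hac) _ (hmemQ.1 hq) ?_)
      rw [← map_inv, ← map_mul, ← map_mul, hfK, hmemK]
      rw [coe_mul, coe_mul, coe_inv, mul_smul, mul_smul, hma, inv_smul_eq_iff, hma]
      exact hqa
    · rintro _ ⟨x, hx, rfl⟩
      refine ⟨hmemQ.2 (by rw [hker.2 (mem_map_of_mem M.subtype hx)]; exact one_mem _), ?_⟩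
      have hx' : ma⁻¹ * x * ma ∈ Cfsg.oddCore ↥M := by
        have := (inferInstance : (Cfsg.oddCore ↥M).Normal).conj_mem x hx ma⁻¹
        rwa [inv_inv] at this
      have h' := hmemK.1 (BenderOne20.oddCore_le hSE hfour hx')
      rw [coe_mul, coe_mul, coe_inv, mul_smul, mul_smul, hma, inv_smul_eq_iff, hma] at h'
      exact h'
  · intro s hs hsM
    have hsQ : f ⟨s, hsM⟩ ∈ Qb :=
      mem_of_invol h1 hQb hR (hfK.2 (hmemK.2 hs.2)) (hfinv (v := ⟨s, hsM⟩) hs.1)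
    refine ⟨hmemQ.2 hsQ, fun q hq => ?_⟩
    refine hker (x := (⟨q, hQM hq⟩ * ⟨s, hsM⟩ * (⟨q, hQM hq⟩ : M)⁻¹ * (⟨s, hsM⟩ : M)⁻¹)).1 ?_
    rw [map_mul, map_mul, map_mul, map_inv, map_inv]
    refine (central_of_split hII h1 h2 h3 hQb hR hsQ (hmemQ.1 hq)).1 ?_
    rw [← map_mul, show (⟨s, hsM⟩ : M) * ⟨s, hsM⟩ = 1 from Subtype.ext (invol_mul_self hs.1), map_one]
  · intro x hx y hy
    set z : M := ⟨x, hQM hx⟩ * ⟨y, hQM hy⟩ * (⟨x, hQM hx⟩ : M)⁻¹ * (⟨y, hQM hy⟩ : M)⁻¹ with hz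
    have hfz : f z * f z = 1 := by
      rw [hz, map_mul, map_mul, map_mul, map_inv, map_inv]
      exact (central_of_split hII h1 h2 h3 hQb hR (hmemQ.1 hx) (hmemQ.1 hy)).2
    show (z : G) ∈ _
    by_cases hz1 : f z = 1
    · exact mem_sup_left (hker.1 hz1)
    have hz2 : ((z * z : M) : G) ∈ oddIn M := hker.1 (by rw [map_mul]; exact hfz)
    have hodd : Odd (orderOf (z * z : M)) := by
      rw [← Subgroup.orderOf_coe]
      refine Odd.of_dvd_nat ?_ (Subgroup.orderOf_dvd_natCard _ hz2)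
      rw [card_map_of_injective (subtype_injective _)]
      exact BenderOne20.oddCore_odd
    set k := orderOf (z * z : M) with hk
    have hw : f (z ^ k) = f z := by
      obtain ⟨j, hj⟩ := hodd
      rw [map_pow, hj, pow_succ, pow_mul, pow_two, hfz, one_pow, one_mul]
    have hw2 : (z ^ k) * (z ^ k) = 1 := by
      rw [← pow_add, ← two_mul, pow_mul, pow_two, hk, pow_orderOf_eq_one]
    have hwI : ((z ^ k : M) : G) ∈ invAt G c := by
      refine ⟨orderOf_eq_prime (by rw [pow_two]; exact congrArg Subtype.val hw2) fun he => hz1 ?_, ?_⟩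
      · rw [← hw, show z ^ k = 1 from Subtype.ext he, map_one]
      · exact hmemK.1 (pow_mem (hfK.1 (by
          rw [hz, map_mul, map_mul, map_mul, map_inv, map_inv]
          exact hR.le (mul_mem (mul_mem (mul_mem (hmemQ.1 hx) (hmemQ.1 hy))
            (inv_mem (hmemQ.1 hx))) (inv_mem (hmemQ.1 hy))))) k)
    have he : ((z * (z ^ k)⁻¹ : M) : G) ∈ oddIn M :=
      hker.1 (by rw [map_mul, map_inv, hw, mul_inv_cancel])
    have hmem : ((z ^ k : M) : G) ∈ Subgroup.closure {s | s ∈ invAt G c ∧ s ∈ M} :=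
      Subgroup.subset_closure ⟨hwI, (z ^ k).2⟩
    have hfin := mul_mem (mem_sup_left (T := Subgroup.closure {s | s ∈ invAt G c ∧ s ∈ M}) he)
      (mem_sup_right (S := oddIn M) hmem)
    rwa [← coe_mul, inv_mul_cancel_right] at hfin

/-- The shape of a big subgroup of a minimal counterexample. -/
theorem shape (hII : BenderSuzuki.PropMain.{u, u}) (h : Min G H) (M : Subgroup G)
    (hM : Big G (G ⧸ H) M) : Shape G (G ⧸ H) M := by
  have hG := oneFix_of_stronglyEmbedded h.se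
  have hsm : ∀ g ∈ M, ∀ x ∈ delta (G ⧸ H) M, g • x ∈ delta (G ⧸ H) M :=
    fun g hg x ⟨s, hs, hsM⟩ =>
      ⟨_, OneFix.conj_mem_invAt hs, mul_mem (mul_mem hg hsM) (inv_mem hg)⟩
  have hconj : ∀ s ∈ M, ∀ t ∈ M, orderOf s = 2 → orderOf t = 2 →
      ∃ g ∈ M, g * s * g⁻¹ = t := by
    intro s hs t ht hs2 ht2
    obtain ⟨x, hx, -⟩ := hM.many
    obtain ⟨m, hm⟩ := isConj_iff.1 (isConj_involutions (big_trace h.se hM hx).1
      (s := ⟨s, hs⟩) (t := ⟨t, ht⟩) ((Subgroup.orderOf_mk s hs).trans hs2)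
      ((Subgroup.orderOf_mk t ht).trans ht2))
    exact ⟨m, m.2, congrArg Subtype.val hm⟩
  refine ⟨fun x hx => (point_data hII h hM hx).1, hsm, ?_, hconj,
    fun c v j hv hvM => (point_data hII h hM ⟨v, hv, hvM⟩).2.1 v j hv hvM,
    fun c hc => (point_data hII h hM hc).2.2.1, fun c hc => (point_data hII h hM hc).2.2.2⟩
  intro a ha b hb c hc d hd hab hcd
  obtain ⟨s, hs, hsM⟩ := ha
  obtain ⟨r, hr, hrM⟩ := hc
  obtain ⟨m, hm, hms⟩ := hconj s hsM r hrM hs.1 hr.1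
  have hma : m • a = c := hG.eq_of_fix hr.1 (hms ▸ (OneFix.conj_mem_invAt hs).2) hr.2
  obtain ⟨Q, -, hQ, -, -, htr, -⟩ := (point_data hII h hM (⟨r, hr, hrM⟩ : c ∈ delta _ M)).2.2.2
  obtain ⟨q, hq, hqd⟩ := htr (m • b) (hsm m hm b hb) d hd
    (fun e => hab (smul_left_cancel m (hma.trans e.symm))) (Ne.symm hcd)
  exact ⟨q * m, mul_mem (hQ hq).1 hm, by rw [mul_smul, hma]; exact (hQ hq).2,
    by rw [mul_smul, hqd]⟩

/-- The standing hypotheses of node A hold in a minimal counterexample. -/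
theorem ctx (hII : BenderSuzuki.PropMain.{u, u}) (h : Min G H) : Ctx G (G ⧸ H) where
  oneFix := oneFix_of_stronglyEmbedded h.se
  four := by
    obtain ⟨a, -, b, -, ha, hb, hne, hab⟩ := h.four
    exact ⟨a, mem_top a, b, mem_top b, ha, hb, hne, hab⟩
  simple := h.simple
  maximal c := by
    obtain ⟨g, rfl⟩ := QuotientGroup.mk_surjective c
    have hst : stabilizer G (g : G ⧸ H) = H.map (MulAut.conj g : G ≃* G).toMonoidHom := by
      ext x
      rw [mem_stabilizer_iff, smul_coset_eq_iff, mem_conj_iff]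
    rw [hst]
    exact ((MulAut.conj g : G ≃* G).mapSubgroup.isCoatom_iff H).2 h.maximal
  shape := shape hII h

end Cfsg.Agent.Lib.BenderOne.NodeA
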