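import Cfsg.Agent.Lib.BenderOne.Cycle
import Cfsg.Agent.Lib.BenderOne.NoBadDefs
import Cfsg.Prelude.Def_PLocal

/-!
# Bender's theorem, part I, node A: interface

The pieces exchanged in the proof that involutions centralise the odd core of a proper subgroup
with a four group and two fixed points.  See `notes/bender_nodeA_helper67.md`.
-/

set_option autoImplicit false

namespace Cfsg.Agent.Lib.BenderOne.NodeA

open Subgroup MulAction
open Cfsg.Agent.Lib.BenderOne20
open Cfsg.Agent.Lib.BenderOne.NoBadProof (core invGen)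

universe u v

variable {G : Type u} {Ω : Type v} [Group G] [MulAction G Ω]

/-- Two commuting involutions. -/
def HasFourIn (M : Subgroup G) : Prop :=
  ∃ a ∈ M, ∃ b ∈ M, orderOf a = 2 ∧ orderOf b = 2 ∧ a ≠ b ∧ a * b = b * a

/-- The fixed points of the involutions of `M`. -/
def delta (Ω : Type v) [MulAction G Ω] (M : Subgroup G) : Set Ω :=
  {x | ∃ s ∈ invAt G x, s ∈ M}

/-- The odd core of `M`, as a subgroup of `G`. -/
abbrev oddIn (M : Subgroup G) : Subgroup G := (Cfsg.oddCore ↥M).map M.subtype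

/-- `O_p(M)`, as a subgroup of `G`. -/
abbrev pCoreIn (p : ℕ) (M : Subgroup G) : Subgroup G := (Cfsg.pCore p ↥M).map M.subtype

/-- A proper subgroup with a four group and two fixed points. -/
structure Big (G : Type u) (Ω : Type v) [Group G] [MulAction G Ω] (M : Subgroup G) : Prop where
  ne_top : M ≠ ⊤
  four : HasFourIn M
  many : ∃ x ∈ delta Ω M, ∃ y ∈ delta Ω M, x ≠ y

/-- What induction and part II say about a big subgroup. -/
structure Shape (G : Type u) (Ω : Type v) [Group G] [MulAction G Ω] (M : Subgroup G) : Prop where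
  fix : ∀ x ∈ delta Ω M, oddIn M ≤ stabilizer G x
  smul_mem : ∀ g ∈ M, ∀ x ∈ delta Ω M, g • x ∈ delta Ω M
  two_trans : ∀ a ∈ delta Ω M, ∀ b ∈ delta Ω M, ∀ c ∈ delta Ω M, ∀ d ∈ delta Ω M, a ≠ b → c ≠ d →
    ∃ g ∈ M, g • a = c ∧ g • b = d
  conj : ∀ s ∈ M, ∀ t ∈ M, orderOf s = 2 → orderOf t = 2 → ∃ g ∈ M, g * s * g⁻¹ = t
  inverted : ∀ (c : Ω) (v j : G), v ∈ invAt G c → v ∈ M → j ∈ M → j • c = c → Odd (orderOf j) →
    v * j * v⁻¹ = j⁻¹ → j ∈ oddIn M
  odd_normal : ∀ c ∈ delta Ω M, ∀ N : Subgroup G, N ≤ M ⊓ stabilizer G c → Odd (Nat.card N) →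
    M ⊓ stabilizer G c ≤ normalizer (N : Set G) → N ≤ oddIn M
  regular : ∀ c ∈ delta Ω M, ∃ Q : Subgroup G, oddIn M ≤ Q ∧ Q ≤ M ⊓ stabilizer G c ∧
    M ⊓ stabilizer G c ≤ normalizer (Q : Set G) ∧
    (∀ q ∈ Q, ∃ k : ℕ, q ^ 2 ^ k ∈ oddIn M) ∧
    (∀ a ∈ delta Ω M, ∀ b ∈ delta Ω M, a ≠ c → b ≠ c → ∃ q ∈ Q, q • a = b) ∧
    (∀ a ∈ delta Ω M, a ≠ c → Q ⊓ stabilizer G a = oddIn M) ∧
    (∀ s ∈ invAt G c, s ∈ M → s ∈ Q ∧ ∀ q ∈ Q, q * s * q⁻¹ * s⁻¹ ∈ oddIn M) ∧
    ∀ x ∈ Q, ∀ y ∈ Q, x * y * x⁻¹ * y⁻¹ ∈ oddIn M ⊔ closure {s | s ∈ invAt G c ∧ s ∈ M}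

/-- A big subgroup with an involution not centralising the odd core. -/
structure Viol (G : Type u) (Ω : Type v) [Group G] [MulAction G Ω] (M : Subgroup G) : Prop
    extends Big G Ω M where
  bad : ∃ x ∈ M, orderOf x = 2 ∧ ∃ y ∈ oddIn M, x * y ≠ y * x

/-- A maximal violating subgroup containing all stabilisers of pairs of its fixed points. -/
structure Full (G : Type u) (Ω : Type v) [Group G] [MulAction G Ω] (M : Subgroup G) : Prop
    extends Viol G Ω M where
  coatom : IsCoatom M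
  pair_le : ∀ c ∈ delta Ω M, ∀ d ∈ delta Ω M, c ≠ d → pairStab G c d ≤ M

/-- Some involution of `M` does not centralise `O_p(M)`. -/
def Active (p : ℕ) (M : Subgroup G) : Prop :=
  ∃ x ∈ M, orderOf x = 2 ∧ ∃ y ∈ pCoreIn p M, x * y ≠ y * x

/-- The standing hypotheses of node A. -/
structure Ctx (G : Type u) (Ω : Type v) [Group G] [MulAction G Ω] : Prop where
  oneFix : OneFix G Ω
  four : HasFourIn (⊤ : Subgroup G)
  simple : IsSimpleGroup G
  maximal : ∀ c : Ω, IsCoatom (stabilizer G c)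
  shape : ∀ M : Subgroup G, Big G Ω M → Shape G Ω M

/-- Tool L: the normaliser of the inverted part of a four-group invariant `p`-subgroup fixes the
fixed point. -/
def PropNormFix (G : Type u) (Ω : Type v) [Group G] [MulAction G Ω] : Prop :=
  ∀ (c : Ω) (p : ℕ) (V : Subgroup G) (e f : G), p.Prime → IsPGroup p V → V ≠ ⊥ →
    V ≤ stabilizer G c → e ∈ invAt G c → f ∈ invAt G c → e ≠ f → e * f = f * e →
    e ∈ normalizer (V : Set G) → f ∈ normalizer (V : Set G) → invGen V e = V →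
    normalizer (V : Set G) ≤ stabilizer G c

/-- Tool C: odd subgroups of order prime to `p`, invariant under such a part, fix the point. -/
def PropChainFix (G : Type u) (Ω : Type v) [Group G] [MulAction G Ω] : Prop :=
  ∀ (c : Ω) (p : ℕ) (V W : Subgroup G) (e f : G), p.Prime → p ≠ 2 → IsPGroup p V → V ≠ ⊥ →
    V ≤ stabilizer G c → e ∈ invAt G c → f ∈ invAt G c → e ≠ f → e * f = f * e →
    e ∈ normalizer (V : Set G) → f ∈ normalizer (V : Set G) → invGen V e = V →
    Odd (Nat.card W) → ¬ p ∣ Nat.card W → e ∈ normalizer (W : Set G) →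
    V ≤ normalizer (W : Set G) → W ≤ stabilizer G c

/-- ST: for a violating subgroup, `Z(J(P))` is normalised by `M` modulo `O_{p'}` of its odd core. -/
def PropZJ (G : Type u) (Ω : Type v) [Group G] [MulAction G Ω] : Prop :=
  ∀ (M : Subgroup G) (p : ℕ) (P : Subgroup G) (c d : Ω), p.Prime → Viol G Ω M → c ∈ delta Ω M →
    d ∈ delta Ω M → c ≠ d → SylowIn p P (M ⊓ pairStab G c d) →
    (∃ x ∈ M, orderOf x = 2 ∧ x ∈ normalizer ((P ⊓ oddIn M : Subgroup G) : Set G) ∧
      ∃ y ∈ P ⊓ oddIn M, x * y ≠ y * x) →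
    core p (oddIn M) ⊔ M ⊓ normalizer (Cfsg.centerThompsonAOf P : Set G) = M

/-- Step 1: a violating subgroup gives a full one. -/
def PropFull (G : Type u) (Ω : Type v) [Group G] [MulAction G Ω] : Prop :=
  ∀ M : Subgroup G, Viol G Ω M → ∃ M' : Subgroup G, Full G Ω M'

/-- Steps 2a-2c: a full subgroup and its point stabilisers are of characteristic `p`. -/
structure CharP (G : Type u) (Ω : Type v) [Group G] [MulAction G Ω] (p : ℕ) (M : Subgroup G) :
    Prop where
  core_eq_bot : core p M = ⊥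
  self_cent : ∀ g ∈ M, g ∈ centralizer (pCoreIn p M : Set G) → g ∈ pCoreIn p M
  core_stab : ∀ c ∈ delta Ω M, core p (stabilizer G c) = ⊥
  self_cent_stab : ∀ c ∈ delta Ω M, ∀ g ∈ stabilizer G c,
    g ∈ centralizer (pCoreIn p (stabilizer G c) : Set G) → g ∈ pCoreIn p (stabilizer G c)

/-- Steps 2a-2c. -/
def PropCharP (G : Type u) (Ω : Type v) [Group G] [MulAction G Ω] : Prop :=
  ∀ (M : Subgroup G) (p : ℕ), p.Prime → Full G Ω M → Active p M → CharP G Ω p M

/-- Steps 2d-2e. -/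
def PropEndgame (G : Type u) (Ω : Type v) [Group G] [MulAction G Ω] : Prop :=
  ∀ (M : Subgroup G) (p : ℕ), p.Prime → Full G Ω M → Active p M → CharP G Ω p M → False

end Cfsg.Agent.Lib.BenderOne.NodeA
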