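import Cfsg.Agent.Lib.BenderOne.NodeA.Interface
import Cfsg.Agent.Lib.BenderOne.LocalTools

/-!
# Bender's theorem, part I, node A: tools for the characteristic `p` step
-/

set_option autoImplicit false
set_option linter.style.haveILetI false

namespace Cfsg.Agent.Lib.BenderOne.NodeA

open Subgroup MulAction
open Cfsg.Agent.Lib.Involutions.Basic Cfsg.Agent.Lib.BenderOne20
open Cfsg.Agent.Lib.BenderOne.NoBadProof (core)

universe u v

variable {G : Type u} [Group G] [Finite G] {p : ℕ}

omit [Finite G] in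
/-- A subgroup normalises the image of each of its normal subgroups. -/
theorem le_normalizer_subtype {M : Subgroup G} (N : Subgroup ↥M) [N.Normal] :
    M ≤ normalizer ((N.map M.subtype : Subgroup G) : Set G) := fun m hm =>
  le_normalizer_map M.subtype
    ⟨⟨m, hm⟩, ((normalizer_eq_top_iff (H := N)).2 inferInstance) ▸ mem_top _, rfl⟩

theorem isPGroup_pCoreIn (M : Subgroup G) : IsPGroup p ↥(pCoreIn p M) :=
  (Cores.pCore_isPGroup p).map _

omit [Finite G] in
theorem le_pCoreIn {M N : Subgroup G} (hNM : N ≤ M) (hn : M ≤ normalizer (N : Set G))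
    (hN : IsPGroup p N) : N ≤ pCoreIn p M := by
  haveI : (N.subgroupOf M).Normal := (normal_subgroupOf_iff_le_normalizer hNM).2 hn
  intro x hx
  exact ⟨⟨x, hNM hx⟩, Cores.le_pCore (N := N.subgroupOf M) (hN.of_equiv (subgroupOfEquivOfLe hNM).symm)
    (mem_subgroupOf.2 hx), rfl⟩

omit [Finite G] in
/-- An odd normal subgroup lies in the odd core. -/
theorem le_oddIn {M N : Subgroup G} (hNM : N ≤ M) (hn : M ≤ normalizer (N : Set G))
    (hN : Odd (Nat.card N)) : N ≤ oddIn M := by
  haveI : (N.subgroupOf M).Normal := (normal_subgroupOf_iff_le_normalizer hNM).2 hn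
  intro x hx
  exact ⟨⟨x, hNM hx⟩, BenderOne20.le_oddCore
    (by rwa [Nat.card_congr (subgroupOfEquivOfLe hNM).toEquiv]) (mem_subgroupOf.2 hx), rfl⟩

theorem odd_oddIn_charP (M : Subgroup G) : Odd (Nat.card ↥(oddIn M)) := by
  rw [Nat.card_congr (equivMapOfInjective _ _ M.subtype_injective).symm.toEquiv]
  exact BenderOne20.oddCore_odd

omit [Finite G] in
theorem map_pCoreIn (M : Subgroup G) (g : G) :
    (pCoreIn p M).map (MulAut.conj g).toMonoidHom =
      pCoreIn p (M.map (MulAut.conj g).toMonoidHom) := by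
  rw [pCoreIn, pCoreIn, Subgroup.map_map,
    ← Cores.map_pCore_equiv (p := p) (M.equivMapOfInjective _ (MulAut.conj g).injective),
    Subgroup.map_map]
  rfl

omit [Finite G] in
/-- Two subgroups normalised by each other with trivial intersection commute. -/
theorem commute_of_normalize {X Y : Subgroup G} (hXY : X ≤ normalizer (Y : Set G))
    (hYX : Y ≤ normalizer (X : Set G)) (h : X ⊓ Y = ⊥) {x y : G} (hx : x ∈ X) (hy : y ∈ Y) :
    x * y = y * x := by
  have h1 : x * y * x⁻¹ * y⁻¹ ∈ X ⊓ Y := by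
    refine mem_inf.2 ⟨?_, mul_mem ((mem_normalizer_iff.1 (hXY hx) y).1 hy) (inv_mem hy)⟩
    have := mul_mem hx ((mem_normalizer_iff.1 (hYX hy) x⁻¹).1 (inv_mem hx))
    simpa [mul_assoc] using this
  rw [h, mem_bot, mul_inv_eq_one, mul_inv_eq_iff_eq_mul] at h1
  exact h1

/-- A `p`-group and a group of order prime to `p` meet trivially. -/
theorem inf_eq_bot_of_coprime [hp : Fact p.Prime] {X Y : Subgroup G} (hX : IsPGroup p X)
    (hY : ¬ p ∣ Nat.card Y) : X ⊓ Y = ⊥ := by
  obtain ⟨k, hk⟩ := hX.exists_card_eq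
  exact (Subgroup.disjoint_of_coprime_natCard
    (hk ▸ Nat.Coprime.pow_left k (hp.out.coprime_iff_not_dvd.2 hY))).eq_bot

/-- An invariant subgroup of order prime to `p` lies in `O_{p'}(D)`, the invariance being under a
`p`-subgroup containing its centralising elements of order `p`. -/
theorem le_coreIn_of_invariant [hp : Fact p.Prime] {D B Q : Subgroup G}
    (hD : Odd (Nat.card D)) (hp2 : p ≠ 2) (hBD : B ≤ D) (hB : IsPGroup p B)
    (hΩ : ∀ x ∈ D, x ∈ centralizer (B : Set G) → orderOf x = p → x ∈ B)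
    (hQD : Q ≤ D) (hQ : ¬ p ∣ Nat.card Q) (hBQ : B ≤ normalizer (Q : Set G)) :
    Q ≤ core p D := by
  haveI := LocalTools.isSolvable_odd hD
  have key := Balance.invariant_le_pPrimeCore (G := ↥D) hp2
    (PSolvable.isPConstrained_of_isPSolvable PSolvable.isPSolvable_of_isSolvable)
    (A := B.subgroupOf D) (hB.comap_of_injective D.subtype D.subtype_injective) ?_
    (Q := Q.subgroupOf D) ?_ ?_
  · intro q hq
    exact ⟨⟨q, hQD hq⟩, key (mem_subgroupOf.2 hq), rfl⟩
  · intro x hx hxp
    refine mem_subgroupOf.2 (hΩ x x.2 (mem_centralizer_iff.2 fun b hb => ?_)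
      (by rwa [orderOf_coe]))
    exact congrArg Subtype.val (mem_centralizer_iff.1 hx ⟨b, hBD hb⟩ (mem_subgroupOf.2 hb))
  · rwa [Nat.card_congr (subgroupOfEquivOfLe hQD).toEquiv]
  · intro b hb
    have hb' : (b : G) ∈ normalizer (Q : Set G) := hBQ hb
    rw [mem_normalizer_iff]
    intro y
    simp only [mem_subgroupOf, coe_mul, InvMemClass.coe_inv]
    exact mem_normalizer_iff.1 hb' y

/-- An element of `D` centralising a Sylow subgroup of `D` and of order `p` lies in it. -/
theorem mem_of_centralizes_sylowIn [hp : Fact p.Prime] {D P : Subgroup G} (h : SylowIn p P D)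
    {x : G} (hxD : x ∈ D) (hx : x ∈ centralizer (P : Set G)) (hxp : orderOf x = p) : x ∈ P := by
  have hxP : IsPGroup p ↥(zpowers x) :=
    IsPGroup.of_card (n := 1) (by rw [Nat.card_zpowers, hxp, pow_one])
  have hz : zpowers x ≤ normalizer (P : Set G) :=
    zpowers_le.2 (centralizer_le_normalizer _ hx)
  have := h.eq_of_le le_sup_left (sup_le h.1 (zpowers_le.2 hxD))
    (h.isPGroup.to_sup_of_normal_left' hxP hz)
  exact this ▸ mem_sup_right (mem_zpowers x)

/-- In a group without a four group an involution is central modulo the odd core. -/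
theorem mul_conj_mem_oddIn {N : Subgroup G} (hno : ¬ HasFourIn N) {e : G} (he : orderOf e = 2)
    (heN : e ∈ N) {g : G} (hg : g ∈ N) : e * g * e⁻¹ * g⁻¹ ∈ oddIn N := by
  haveI : Fact (Nat.Prime 2) := ⟨Nat.prime_two⟩
  set t : ↥N := ⟨e, heN⟩
  have ht : orderOf t = 2 := (Subgroup.orderOf_mk e heN).trans he
  obtain ⟨S, hS⟩ := (IsPGroup.of_card (p := 2) (n := 1) (G := zpowers t)
    (by rw [Nat.card_zpowers, ht, pow_one])).exists_le_sylow
  have htS : t ∈ (S : Subgroup ↥N) := hS (mem_zpowers t)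
  -- a central involution of the Sylow subgroup
  haveI : Nontrivial ↥(S : Subgroup ↥N) :=
    ⟨⟨⟨t, htS⟩, 1, fun h => invol_ne_one ht (congrArg Subtype.val h)⟩⟩
  have := S.2.center_nontrivial
  obtain ⟨c, hc⟩ := exists_prime_orderOf_dvd_card' (G := center ↥(S : Subgroup ↥N)) 2 (by
    obtain ⟨k, hk, hk'⟩ := (S.2.to_subgroup _).nontrivial_iff_card.1 this
    rw [hk']; exact dvd_pow_self 2 hk.ne')
  set z : ↥N := ((c : ↥(S : Subgroup ↥N)) : ↥N) with hz
  have hz2 : orderOf z = 2 := by rw [hz, orderOf_coe, orderOf_coe, hc]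
  have key : ∀ w, w ∈ (S : Subgroup ↥N) → orderOf w = 2 → w = z := by
    intro w hw hw2
    by_contra hne
    have hcomm : w * z = z * w :=
      congrArg Subtype.val (mem_center_iff.1 c.2 ⟨w, hw⟩)
    exact hno ⟨w, w.2, z, z.2, by rwa [orderOf_coe], by rwa [orderOf_coe],
      fun h => hne (Subtype.ext h), congrArg Subtype.val hcomm⟩
  obtain ⟨K, hK, hodd, hcomm⟩ := ZStar.UniqueCase.zstar S t ht htS fun w hw =>
    (key _ hw ((orderOf_conj_eq w t).trans ht)).trans (key _ htS ht).symm
  exact ⟨_, BenderOne20.le_oddCore hodd (hcomm ⟨g, hg⟩), rfl⟩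

end Cfsg.Agent.Lib.BenderOne.NodeA
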