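import Cfsg.Agent.Lib.BenderOne.NodeA.Interface
import Cfsg.Agent.Lib.BenderOne67.Local

/-!
# Bender's theorem, part I, node A: subgroups covering a big subgroup modulo its odd core

Owner: helper67.
-/

set_option autoImplicit false
set_option linter.style.haveILetI false

namespace Cfsg.Agent.Lib.BenderOne.NodeA

open Subgroup MulAction
open Cfsg.Agent.Lib.Involutions.Basic Cfsg.Agent.Lib.BenderOne20

universe u v

variable {G : Type u} {Ω : Type v} [Group G] [MulAction G Ω]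

theorem oddIn_le (M : Subgroup G) : oddIn M ≤ M := Subgroup.map_subtype_le _

theorem le_normalizer_oddIn (M : Subgroup G) : M ≤ normalizer (oddIn M : Set G) := by
  intro m hm
  exact Subgroup.le_normalizer_map M.subtype
    ⟨⟨m, hm⟩, Subgroup.normalizer_eq_top_iff.2 (inferInstance : (Cfsg.oddCore ↥M).Normal) ▸
      Subgroup.mem_top _, rfl⟩

theorem conj_mem_oddIn {M : Subgroup G} {m k : G} (hm : m ∈ M) (hk : k ∈ oddIn M) :
    m * k * m⁻¹ ∈ oddIn M :=
  (Subgroup.mem_normalizer_iff.1 (le_normalizer_oddIn M hm) k).1 hk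

/-- An element inverted by an involution and commuting with it has order dividing two. -/
theorem eq_one_of_inverted_commute {v j : G} (hodd : Odd (orderOf j))
    (hinv : v * j * v⁻¹ = j⁻¹) (hcom : v * j = j * v) : j = 1 := by
  rw [hcom, mul_inv_cancel_right] at hinv
  have h2j : orderOf j ∣ 2 :=
    orderOf_dvd_of_pow_eq_one (by rw [pow_two]; exact mul_eq_one_iff_eq_inv.2 hinv)
  exact orderOf_eq_one_iff.1 (Nat.Coprime.eq_one_of_dvd (Nat.coprime_two_right.2 hodd) h2j)

/-- A moved element gives an inverted one. -/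
theorem exists_inverted_of_moved {P : Subgroup G} {t : G} (ht : orderOf t = 2)
    (htP : t ∈ normalizer (P : Set G)) (hy : ∃ y ∈ P, t * y ≠ y * t) :
    ∃ j ∈ P, j ≠ 1 ∧ t * j * t⁻¹ = j⁻¹ := by
  obtain ⟨y, hy, hne⟩ := hy
  refine ⟨y⁻¹ * (t * y * t⁻¹), mul_mem (inv_mem hy) ((Subgroup.mem_normalizer_iff.1 htP y).1 hy),
    fun h => hne ?_, ?_⟩
  · rw [inv_mul_eq_one] at h
    nth_rewrite 2 [h]
    group
  · rw [invol_inv ht]
    calc t * (y⁻¹ * (t * y * t)) * t = t * y⁻¹ * t * y * (t * t) := by group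
      _ = (t⁻¹ * y⁻¹ * t⁻¹) * y := by rw [invol_inv ht, invol_mul_self ht, mul_one]
      _ = (y⁻¹ * (t * y * t))⁻¹ := by group

/-- `L` covers `M` modulo the odd core. -/
structure Covers (M L : Subgroup G) : Prop where
  le : L ≤ M
  cover : ∀ m ∈ M, ∃ k ∈ oddIn M, k * m ∈ L

variable [Finite G]

theorem odd_oddIn_cover (M : Subgroup G) : Odd (Nat.card (oddIn M)) := by
  rw [Nat.card_congr (Subgroup.equivMapOfInjective _ _ M.subtype_injective).symm.toEquiv]
  exact oddCore_odd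

theorem not_mem_oddIn {M : Subgroup G} {t : G} (ht : orderOf t = 2) : t ∉ oddIn M :=
  fun h => (odd_card_iff_no_invol _).1 (odd_oddIn_cover M) t h ht

theorem odd_orderOf_of_mem {M : Subgroup G} {k : G} (hk : k ∈ oddIn M) : Odd (orderOf k) :=
  (odd_oddIn_cover M).of_dvd_nat ((oddIn M).orderOf_dvd_natCard hk)

omit [Finite G] in
/-- A subgroup with involutions at two points, a four group and a non-trivial inverted element
violates. -/
theorem viol_of_inverted (hC : Ctx G Ω) {N : Subgroup G} (hN : Big G Ω N) {c : Ω} {v j : G}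
    (hv : v ∈ invAt G c) (hvN : v ∈ N) (hj : j ∈ N) (hjc : j • c = c) (hodd : Odd (orderOf j))
    (hj1 : j ≠ 1) (hinv : v * j * v⁻¹ = j⁻¹) : Viol G Ω N :=
  ⟨hN, v, hvN, hv.1, j, (hC.shape N hN).inverted c v j hv hvN hj hjc hodd hinv,
    fun h => hj1 (eq_one_of_inverted_commute hodd hinv h)⟩

omit [Finite G] in
/-- The odd core does not change the action on the fixed points. -/
theorem smul_eq_of_oddIn (hC : Ctx G Ω) {M : Subgroup G} (hM : Big G Ω M) {k m : G}
    (hk : k ∈ oddIn M) (hm : m ∈ M) {x : Ω} (hx : x ∈ delta Ω M) : (k * m) • x = m • x := by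
  rw [mul_smul]
  exact (hC.shape M hM).fix _ ((hC.shape M hM).smul_mem m hm x hx) hk

omit [Finite G] in
/-- An involution of `M` has a commuting partner in `M`. -/
theorem exists_partner (hC : Ctx G Ω) {M : Subgroup G} (hM : Big G Ω M) {t : G}
    (ht : orderOf t = 2) (htM : t ∈ M) :
    ∃ e ∈ M, orderOf e = 2 ∧ e ≠ t ∧ t * e = e * t := by
  obtain ⟨a, ha, b, hb, ha2, hb2, hne, hab⟩ := hM.four
  obtain ⟨g, hg, rfl⟩ := (hC.shape M hM).conj a ha t htM ha2 ht
  refine ⟨g * b * g⁻¹, mul_mem (mul_mem hg hb) (inv_mem hg), (orderOf_conj_eq g b).trans hb2,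
    fun h => hne (mul_left_cancel (mul_right_cancel h)).symm, ?_⟩
  calc g * a * g⁻¹ * (g * b * g⁻¹) = g * (a * b) * g⁻¹ := by group
    _ = g * b * g⁻¹ * (g * a * g⁻¹) := by rw [hab]; group

namespace Covers

variable {M L : Subgroup G} (hL : Covers M L)
include hL

omit [Finite G] in
theorem two_trans (hC : Ctx G Ω) (hM : Big G Ω M) {a b c d : Ω} (ha : a ∈ delta Ω M)
    (hb : b ∈ delta Ω M) (hc : c ∈ delta Ω M) (hd : d ∈ delta Ω M) (hab : a ≠ b) (hcd : c ≠ d) :
    ∃ g ∈ L, g • a = c ∧ g • b = d := by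
  obtain ⟨m, hm, hma, hmb⟩ := (hC.shape M hM).two_trans a ha b hb c hc d hd hab hcd
  obtain ⟨k, hk, hkm⟩ := hL.cover m hm
  exact ⟨_, hkm, by rw [smul_eq_of_oddIn hC hM hk hm ha, hma],
    by rw [smul_eq_of_oddIn hC hM hk hm hb, hmb]⟩

omit [MulAction G Ω] hL in
/-- An element of `L` congruent to an involution of `M` has a power which is an involution
congruent to it. -/
theorem invol_pow {s l : G} (hs : orderOf s = 2) (hsM : s ∈ M) (hk : l * s ∈ oddIn M) :
    ∃ i : ℕ, orderOf (l ^ i) = 2 ∧ l ^ i * s ∈ oddIn M := by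
  have hlA : l ∉ oddIn M := fun h => not_mem_oddIn hs (by
    have := mul_mem (inv_mem h) hk
    rwa [inv_mul_cancel_left] at this)
  have hl2 : l * l ∈ oddIn M := by
    have h1 := mul_mem hk (conj_mem_oddIn hsM hk)
    rw [invol_inv hs] at h1
    have e : l * s * (s * (l * s) * s) = l * l := by
      calc l * s * (s * (l * s) * s) = l * (s * s) * l * (s * s) := by group
        _ = l * l := by rw [invol_mul_self hs, mul_one, mul_one]
    rwa [e] at h1
  obtain ⟨i, ⟨j, rfl⟩, hi⟩ := exists_invol_pow (odd_oddIn_cover M) hlA hl2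
  refine ⟨2 * j + 1, hi, ?_⟩
  rw [pow_succ, pow_mul, pow_two, mul_assoc]
  exact mul_mem (pow_mem hl2 j) hk

/-- Involutions of `M` lift to `L` with the same fixed point. -/
theorem exists_invol (hC : Ctx G Ω) (hM : Big G Ω M) {x : Ω} (hx : x ∈ delta Ω M) :
    ∃ t ∈ invAt G x, t ∈ L := by
  obtain ⟨s, hs, hsM⟩ := hx
  obtain ⟨k, hk, hks⟩ := hL.cover s hsM
  obtain ⟨i, hi, his⟩ := invol_pow hs.1 hsM (l := k * s)
    (by rw [mul_assoc, invol_mul_self hs.1, mul_one]; exact hk)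
  refine ⟨_, ⟨hi, ?_⟩, pow_mem hks i⟩
  have h := (hC.shape M hM).fix x ⟨s, hs, hsM⟩ his
  rw [mem_stabilizer_iff, mul_smul, hs.2] at h
  exact h

/-- An involution of `L` has a commuting partner in `L`. -/
theorem exists_partner (hC : Ctx G Ω) (hM : Big G Ω M) {x : Ω} {t : G} (ht : t ∈ invAt G x)
    (htL : t ∈ L) : ∃ e ∈ invAt G x, e ∈ L ∧ t ≠ e ∧ t * e = e * t := by
  obtain ⟨f, hf, hf2, hft, hcom⟩ := NodeA.exists_partner hC hM ht.1 (hL.le htL)
  obtain ⟨k, hk, hl⟩ := hL.cover f hf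
  set l := k * f with hldef
  set w := l * t * l⁻¹ * t with hw
  have hwK : w ∈ oddIn M := by
    have h1 := mul_mem hk (conj_mem_oddIn (hL.le htL) (inv_mem hk))
    convert h1 using 1
    rw [hw, hldef, invol_inv ht.1]
    calc k * f * t * (k * f)⁻¹ * t = k * (f * t) * f⁻¹ * k⁻¹ * t := by group
      _ = k * (t * f) * f⁻¹ * k⁻¹ * t := by rw [hcom]
      _ = k * (t * k⁻¹ * t) := by group
  have hwinv : t * w * t⁻¹ = w⁻¹ := by
    have ha : orderOf (l * t * l⁻¹) = 2 := (orderOf_conj_eq l t).trans ht.1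
    rw [hw, mul_inv_rev (l * t * l⁻¹), invol_inv ha, invol_inv ht.1, mul_assoc t,
      mul_assoc _ t t, invol_mul_self ht.1, mul_one]
  obtain ⟨r, hr, -, hrt⟩ :=
    NoBadProof.exists_sqrt ht.1 (odd_orderOf_of_mem hwK) hwinv
  rw [hw, mul_assoc (l * t * l⁻¹), invol_mul_self ht.1, mul_one] at hrt
  have hrK : r ∈ oddIn M := (Subgroup.zpowers_le.2 hwK) hr
  have hwL : w ∈ L := mul_mem (mul_mem (mul_mem hl htL) (inv_mem hl)) htL
  have hrL : r ∈ L := (Subgroup.zpowers_le.2 hwL) hr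
  have hc : t * (r⁻¹ * l) = r⁻¹ * l * t := by
    calc t * (r⁻¹ * l) = r⁻¹ * (r * t * r⁻¹) * l := by group
      _ = r⁻¹ * (l * t * l⁻¹) * l := by rw [hrt]
      _ = r⁻¹ * l * t := by group
  obtain ⟨i, hi, hif⟩ := invol_pow hf2 hf (l := r⁻¹ * l) (by
    rw [hldef, mul_assoc, mul_assoc, invol_mul_self hf2, mul_one]
    exact mul_mem (inv_mem hrK) hk)
  have hci : t * (r⁻¹ * l) ^ i = (r⁻¹ * l) ^ i * t := ((show Commute t _ from hc).pow_right i).eq
  refine ⟨_, ⟨hi, hC.oneFix.smul_eq_of_commute ht hci⟩, pow_mem (mul_mem (inv_mem hrL) hl) i,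
    fun h => ?_, hci⟩
  rw [← h] at hif
  refine not_mem_oddIn ?_ hif
  rw [invol_iff]
  refine ⟨?_, fun h1 => hft ?_⟩
  · calc t * f * (t * f) = t * (f * t) * f := by group
      _ = t * (t * f) * f := by rw [hcom]
      _ = (t * t) * (f * f) := by group
      _ = 1 := by rw [invol_mul_self ht.1, invol_mul_self hf2, mul_one]
  · rw [eq_inv_of_mul_eq_one_left h1, invol_inv hf2]

end Covers

end Cfsg.Agent.Lib.BenderOne.NodeA
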