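import Cfsg.Agent.Lib.BenderOne9.Offender
import Cfsg.Agent.Lib.Quadratic.PStable

/-!
# Bender's theorem, part I, node A: quadratic elements in the endgame

The stability lemma and the quaternion lemma in the forms used by the endgame, and the passage
from operators on an elementary abelian subgroup to elements of the group.
-/

set_option autoImplicit false
set_option linter.style.haveILetI false
set_option linter.unusedSectionVars false

namespace Cfsg.Agent.Lib.BenderOne.NodeA

open Subgroup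
open scoped commutatorElement

universe u v w

/-- STAB: with conjugate involutions commuting modulo the odd core, two of them commuting, a
quadratic element on a normal `p`-subgroup with odd centraliser lies in `O_p` of the automizer. -/
def PropStab.{t} : Prop :=
  ∀ (Γ : Type t) [Group Γ] [Finite Γ] (p : ℕ) [Fact p.Prime], p ≠ 2 →
    (∃ s t : Γ, orderOf s = 2 ∧ orderOf t = 2 ∧ s ≠ t ∧ s * t = t * s) →
    (∀ s t : Γ, orderOf s = 2 → orderOf t = 2 → ⁅s, t⁆ ∈ Cfsg.oddCore Γ) →
    (∀ s t : Γ, orderOf s = 2 → orderOf t = 2 → ∃ g, g * s * g⁻¹ = t) →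
    ∀ V : Subgroup Γ, V.Normal → IsPGroup p V → Odd (Nat.card (centralizer (V : Set Γ))) →
      ∀ x, Quadratic.Quad V x → Quadratic.InPRad p (centralizer (V : Set Γ)) x

/-- The quaternion lemma, weak form. -/
def PropQuat.{t, s} : Prop :=
  ∀ (p : ℕ) [Fact p.Prime], p ≠ 2 →
    ∀ (V : Type t) [AddCommGroup V] [Module (ZMod p) V] [Finite V] (Γ : Type s) [Group Γ]
      [Finite Γ] (σ : Γ →* Module.End (ZMod p) V), Function.Injective σ →
      ∀ x : Γ, (σ x - 1) * (σ x - 1) = 0 → x ∉ Cfsg.pCore p Γ →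
        ∃ f ∈ normalClosure ({x} : Set Γ), ∃ g ∈ normalClosure ({x} : Set Γ),
          orderOf (f * f) = 2 ∧ g * g = f * f ∧ ⁅f, g⁆ = f * f

namespace EndgameModule

variable {G : Type u} [Group G] [Finite G] {p : ℕ} [hp : Fact p.Prime]

omit [Finite G] hp in
/-- Radical membership in a subgroup, read in the group. -/
theorem exists_of_inPRad {H : Subgroup G} {N : Subgroup H} {X : Subgroup G} {a : H}
    (h : Quadratic.InPRad p N a) (hNX : ∀ x ∈ N, (x : G) ∈ X) :
    ∃ D : Subgroup G, D ≤ H ∧ H ≤ normalizer (D : Set G) ∧ (a : G) ∈ D ∧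
      ∀ x ∈ D, ∃ k : ℕ, x ^ p ^ k ∈ X := by
  obtain ⟨D, hD, haD, hpow⟩ := h
  refine ⟨D.map H.subtype, map_subtype_le D, fun h hh => Subgroup.le_normalizer_map H.subtype
    ⟨⟨h, hh⟩, (normalizer_eq_top_iff.2 hD) ▸ mem_top _, rfl⟩, ⟨a, haD, rfl⟩, ?_⟩
  rintro _ ⟨x, hx, rfl⟩
  obtain ⟨k, hk⟩ := hpow x hx
  exact ⟨k, by simpa using hNX _ hk⟩

/-- A quadratic element outside the radical gives a quaternion pair modulo the centraliser. -/
theorem exists_pair (hQ : PropQuat.{u, u}) (hp2 : p ≠ 2) {W H : Subgroup G}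
    (hW : Cfsg.IsElementaryAbelian p W) (hH : H ≤ normalizer (W : Set G)) {a : H}
    (hquad : ∀ x ∈ W, ⁅⁅x, (a : G)⁆, (a : G)⁆ = 1)
    (hrad : ∀ D : Subgroup G, D ≤ H → H ≤ normalizer (D : Set G) → (a : G) ∈ D →
      (∀ x ∈ D, ∃ k : ℕ, x ^ p ^ k ∈ centralizer (W : Set G)) → False)
    (N : Subgroup H) [N.Normal] (haN : a ∈ N) :
    ∃ f ∈ N, ∃ g ∈ N, ⁅(f : G), (g : G)⁆⁻¹ * ((f : G) * f) ∈ centralizer (W : Set G) ∧
      ⁅(f : G), (g : G)⁆⁻¹ * ((g : G) * g) ∈ centralizer (W : Set G) ∧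
      (f : G) * f ∉ centralizer (W : Set G) := by
  classical
  obtain ⟨V, i1, i2, i3, σ, τ, hτ, hrange, hadd, hzero, hact⟩ :=
    BenderOne9.NoOffender.exists_conjEnd hW hH
  have hmem : ∀ v, τ v ∈ W := fun v => by
    show τ v ∈ (W : Set G)
    rw [← hrange]; exact ⟨v, rfl⟩
  have hker : ∀ h : H, σ h = 1 ↔ (h : G) ∈ centralizer (W : Set G) := by
    intro h
    rw [mem_centralizer_iff]
    constructor
    · intro hh w hw
      obtain ⟨v, rfl⟩ := (hrange.symm ▸ hw : w ∈ Set.range τ)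
      have := hact h v
      rw [hh, Module.End.one_apply] at this
      exact (mul_inv_eq_iff_eq_mul.1 this.symm).symm
    · intro hh
      refine LinearMap.ext fun v => hτ ?_
      rw [hact, Module.End.one_apply, ← hh _ (hmem v), mul_inv_cancel_right]
  have hneg : ∀ v, τ (-v) = (τ v)⁻¹ := fun v => eq_inv_of_mul_eq_one_left (by
    rw [← hadd, neg_add_cancel, hzero])
  have hsub : ∀ (h : H) v, τ (σ h v - v) = (h : G) * τ v * (h : G)⁻¹ * (τ v)⁻¹ := fun h v => by
    rw [sub_eq_add_neg, hadd, hneg, hact]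
  have hq : (σ a - 1) * (σ a - 1) = 0 := by
    refine LinearMap.ext fun v => hτ ?_
    have h := hquad _ (hmem v)
    rw [commutatorElement_eq_one_iff_mul_comm] at h
    simp only [Module.End.mul_apply, LinearMap.sub_apply, Module.End.one_apply,
      LinearMap.zero_apply, hzero]
    rw [hsub, hsub, show ((a : G) * τ v * (a : G)⁻¹ * (τ v)⁻¹) = ⁅τ v, (a : G)⁆⁻¹ by
      rw [commutatorElement_def]; group, mul_inv_eq_one, mul_inv_eq_iff_eq_mul]
    exact (Commute.inv_left h).eq.symm
  set π := QuotientGroup.mk' σ.ker with hπ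
  have hx : π a ∉ Cfsg.pCore p (↥H ⧸ σ.ker) := by
    intro hmem'
    obtain ⟨D, h1, h2, h3, h4⟩ := exists_of_inPRad ((Quadratic.inPRad_iff _ _).2 hmem')
      (X := centralizer (W : Set G)) fun x hx => (hker x).1 hx
    exact hrad D h1 h2 h3 h4
  let σb : ↥H ⧸ σ.ker →* Module.End (ZMod p) V := QuotientGroup.lift σ.ker σ le_rfl
  have hinj : Function.Injective σb := by
    intro x y
    induction x using QuotientGroup.induction_on with | _ x => ?_
    induction y using QuotientGroup.induction_on with | _ y => ?_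
    intro h
    change σ x = σ y at h
    refine QuotientGroup.eq.2 (MonoidHom.mem_ker.2 ?_)
    rw [map_mul, ← h, ← map_mul, inv_mul_cancel, map_one]
  obtain ⟨F, hF, K, hK, h2, hKK, hFK⟩ := hQ p hp2 V (↥H ⧸ σ.ker) σb hinj (π a) hq hx
  have hcl : normalClosure ({π a} : Set (↥H ⧸ σ.ker)) ≤ N.map π := by
    haveI : (N.map π).Normal := Subgroup.Normal.map inferInstance π (QuotientGroup.mk'_surjective _)
    exact normalClosure_le_normal (Set.singleton_subset_iff.2 ⟨a, haN, rfl⟩)
  obtain ⟨f, hf, rfl⟩ := hcl hF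
  obtain ⟨g, hg, rfl⟩ := hcl hK
  have hone : ∀ y : H, π y = 1 ↔ (y : G) ∈ centralizer (W : Set G) := fun y =>
    (QuotientGroup.eq_one_iff y).trans (hker y)
  have hc : ((⁅f, g⁆ : H) : G) = ⁅(f : G), (g : G)⁆ := map_commutatorElement H.subtype f g
  refine ⟨f, hf, g, hg, ?_, ?_, fun hmem' => ?_⟩
  · have h0 : π (⁅f, g⁆⁻¹ * (f * f)) = 1 := by
      rw [map_mul, map_mul, map_inv, map_commutatorElement, hFK, inv_mul_cancel]
    have h1 := (hone _).1 h0
    rw [Subgroup.coe_mul, Subgroup.coe_inv, hc, Subgroup.coe_mul] at h1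
    exact h1
  · have h0 : π (⁅f, g⁆⁻¹ * (g * g)) = 1 := by
      rw [map_mul, map_mul, map_inv, map_commutatorElement, hFK, ← hKK, inv_mul_cancel]
    have h1 := (hone _).1 h0
    rw [Subgroup.coe_mul, Subgroup.coe_inv, hc, Subgroup.coe_mul] at h1
    exact h1
  · have h0 : π (f * f) = 1 := (hone _).2 (by simpa using hmem')
    rw [← map_mul, h0, orderOf_one] at h2
    exact absurd h2 (by norm_num)

end EndgameModule

end Cfsg.Agent.Lib.BenderOne.NodeA
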