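import Cfsg.Agent.Lib.BenderOne.NodeA.EndgameFacts
import Cfsg.Agent.Lib.BenderOne.NodeA.EndgameModule

/-!
# Bender's theorem, part I, node A: the endgame

For a full subgroup `M`, an active prime `p` and a Sylow subgroup `P` of a two-point stabiliser,
`Z(J(P ⊓ oddIn M))` is normalised by `M` and by a point stabiliser.  See steps 2d-2e of
`notes/bender_nodeA_helper67.md` with the captain's amendments.
-/

set_option autoImplicit false
set_option linter.style.haveILetI false
set_option linter.unusedSectionVars false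

namespace Cfsg.Agent.Lib.BenderOne.NodeA

open Subgroup MulAction
open Cfsg.Agent.Lib.BenderOne20 Cfsg.Agent.Lib.Involutions.Basic
open Cfsg.Agent.Lib.BenderOne.NoBadProof (core normalizer_ne_top)
open EndgameTools EndgameFacts
open scoped commutatorElement

universe u v

variable {G : Type u} [Group G] [Finite G] {Ω : Type v} [MulAction G Ω]

namespace Endgame

variable {p : ℕ} [hp : Fact p.Prime]

/-- What the first half of the endgame provides. -/
structure Data (G : Type u) (Ω : Type v) [Group G] [MulAction G Ω] (p : ℕ) (M P : Subgroup G)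
    (c d : Ω) (w : G) : Prop where
  ne : c ≠ d
  hc : c ∈ delta Ω M
  hd : d ∈ delta Ω M
  swap : w ∈ swapSet G c d
  mem : w ∈ M
  norm : w ∈ normalizer (P : Set G)
  sylD : SylowIn p P (pairStab G c d)
  sylH : SylowIn p P (stabilizer G c)
  geA : pCoreIn p M ≤ P
  two : p ≠ 2
  moves : ∃ y ∈ pCoreIn p M, w * y ≠ y * w
  zj : normalizer (Cfsg.centerThompsonAOf P : Set G) = M
  invJ : ∀ t ∈ invAt G c, t ∈ M
  coreD : core p (pairStab G c d) = ⊥

theorem exists_data (hC : Ctx G Ω) (hZJ : PropZJ G Ω) {M : Subgroup G} (hM : Full G Ω M)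
    (hA : Active p M) (hCP : CharP G Ω p M) : ∃ P c d w, Data G Ω p M P c d w := by
  have hS := hC.shape M hM.toBig
  obtain ⟨c, hc, d, hd, hcd⟩ := hM.many
  have hp2 := ne_two (p := p) hC hM.toBig hA
  set A := pCoreIn p M with hAdef
  have hAK : A ≤ oddIn M := pCoreIn_le_oddIn hp2
  have hAD : A ≤ pairStab G c d := hAK.trans (le_inf (hS.fix c hc) (hS.fix d hd))
  have hDM : pairStab G c d ≤ M := hM.pair_le c hc d hd hcd
  obtain ⟨w, hw⟩ := hC.oneFix.swapSet_nonempty hcd
  have hwM : w ∈ M := swap_mem hS hc hd hcd hDM hw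
  have hnA : M ≤ normalizer (A : Set G) := le_normalizer_map _
  obtain ⟨P, hP, hAP, hwP⟩ := LocalTools.exists_invariant hw.1
    (BenderOne8.zpowers_le_normalizer_pairStab hw (mem_zpowers w)) (hC.oneFix.odd_pairStab hcd)
    hAD (isPGroup_pCoreIn p M) (hnA hwM)
  have hmove : ∃ y ∈ A, w * y ≠ y * w := by
    obtain ⟨x, hxM, hx, y, hy, hne⟩ := hA
    obtain ⟨g, hg, hgw⟩ := hS.conj x hxM w hwM hx hw.1
    refine ⟨g * y * g⁻¹, (mem_normalizer_iff.1 (hnA hg) y).1 hy, fun h => hne ?_⟩
    rw [← hgw] at h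
    have := congrArg (fun z => g⁻¹ * z * g) h
    simpa [mul_assoc] using this
  have hcoreD : core p (pairStab G c d) = ⊥ := core_pairStab hCP hDM hAD
  have hcK : core p (oddIn M) = ⊥ := le_bot_iff.1 (hCP.core_eq_bot ▸
    Balance.coreIn_le_coreIn (p := p) (map_subtype_le _) (le_normalizer_map _))
  have hZM : M ≤ normalizer (Cfsg.centerThompsonAOf P : Set G) := by
    obtain ⟨y, hy, hne⟩ := hmove
    have h := hZJ M p P c d hp.out hM.toViol hc hd hcd (by
      rw [show M ⊓ pairStab G c d = pairStab G c d from inf_eq_right.2 hDM]; exact hP)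
      ⟨w, hwM, hw.1, le_normalizer_inf inf_le_left (inf_le_right.trans (EndgameFacts.le_normalizer_map _))
        (show w ∈ normalizer (P : Set G) ⊓ M from ⟨hwP, hwM⟩),
        y, ⟨hAP hy, hAK hy⟩, hne⟩
    rw [hcK, bot_sup_eq, inf_eq_left] at h
    exact h
  have hPne : P ≠ ⊥ := by
    obtain ⟨y, hy, hne⟩ := hmove
    rintro rfl
    rw [(mem_bot).1 (hAP hy)] at hne
    simp at hne
  have hN : normalizer (Cfsg.centerThompsonAOf P : Set G) = M :=
    normalizer_eq hC hM.coatom (LocalTools.zj_ne_bot hP.isPGroup hPne)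
      (((ZJ.centerThompsonAOf_le P).trans hP.1).trans inf_le_left) hZM
  have hPMc : SylowIn p P (M ⊓ stabilizer G c) := sylowIn_stab hS hp2 hc hd hcd hDM hP
  have hPH : SylowIn p P (stabilizer G c) := by
    refine SylowIn.of_normalizer (hP.1.trans inf_le_left) hPMc (le_inf ?_ inf_le_left)
    rw [← hN]
    exact inf_le_right.trans (ZJ.normalizer_le_normalizer_centerThompsonA P)
  exact ⟨P, c, d, w, hcd, hc, hd, hw, hwM, hwP, hP, hPH, hAP, hp2, hmove, hN,
    fun t ht => invAt_subset hC hc hcd hDM ht, hcoreD⟩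

variable {M P : Subgroup G} {c d : Ω} {w : G}

/-- `Z(J(P ⊓ oddIn M))` has normaliser `M`. -/
theorem zj_odd (hC : Ctx G Ω) (hM : Full G Ω M) (hCP : CharP G Ω p M) (h : Data G Ω p M P c d w) :
    normalizer (Cfsg.centerThompsonAOf (P ⊓ oddIn M) : Set G) = M := by
  have hS := hC.shape M hM.toBig
  have hKD : oddIn M ≤ pairStab G c d := le_inf (hS.fix c h.hc) (hS.fix d h.hd)
  have hDM : pairStab G c d ≤ M := hM.pair_le c h.hc d h.hd h.ne
  have hnK : M ≤ normalizer (oddIn M : Set G) := le_normalizer_map _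
  have hPK : SylowIn p (P ⊓ oddIn M) (oddIn M) := sylowIn_inf h.sylD hKD (hDM.trans hnK)
  have hcK : core p (oddIn M) = ⊥ := le_bot_iff.1 (hCP.core_eq_bot ▸
    Balance.coreIn_le_coreIn (p := p) (map_subtype_le _) hnK)
  obtain ⟨y, hy, hne⟩ := h.moves
  have hne' : P ⊓ oddIn M ≠ ⊥ := by
    intro hb
    have hm : y ∈ P ⊓ oddIn M := ⟨h.geA hy, pCoreIn_le_oddIn h.two hy⟩
    rw [hb, mem_bot] at hm
    subst hm
    simp at hne
  exact normalizer_eq hC hM.coatom (LocalTools.zj_ne_bot hPK.isPGroup hne')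
    (((ZJ.centerThompsonAOf_le _).trans inf_le_left).trans (h.sylH.1))
    (normal_le_normalizer_zj hnK (odd_oddIn M) h.two hcK hPK)

/-- A normal odd subgroup of the point stabiliser cutting `P ⊓ oddIn M` down to all abelian
subgroups of largest order gives a contradiction. -/
theorem false_of_odd_normal (hC : Ctx G Ω) (hM : Full G Ω M) (hCP : CharP G Ω p M)
    (h : Data G Ω p M P c d w) {C N : Subgroup G} (hNH : N ≤ stabilizer G c)
    (hn : stabilizer G c ≤ normalizer (N : Set G)) (hodd : Odd (Nat.card N))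
    (hPN : P ⊓ N = P ⊓ oddIn M ⊓ C) (hJ : ∀ U ∈ ZJ.maxAbIn (P ⊓ oddIn M), U ≤ C) : False := by
  have hQ : SylowIn p (P ⊓ N) N := sylowIn_inf h.sylH hNH hn
  have hcore : core p N = ⊥ :=
    le_bot_iff.1 ((hCP.core_stab c h.hc) ▸ Balance.coreIn_le_coreIn (p := p) hNH hn)
  have h1 := normal_le_normalizer_zj hn hodd h.two hcore hQ
  rw [hPN, show Cfsg.centerThompsonAOf (P ⊓ oddIn M ⊓ C) = Cfsg.centerThompsonAOf (P ⊓ oddIn M) by
    rw [Cfsg.centerThompsonAOf, Cfsg.centerThompsonAOf, thompsonA_inf hJ], zj_odd hC hM hCP h] at h1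
  rcases (hC.maximal c).le_iff.1 h1 with hb | hb
  · exact hM.ne_top hb
  · exact h.ne ((hb ▸ h.mem : w ∈ stabilizer G c).symm.trans h.swap.2)

/-- The exceptional case: the centraliser of `W` contains all involutions at `c`. -/
theorem centralizer_le_full (hC : Ctx G Ω) (hZJ : PropZJ G Ω) (hM : Full G Ω M)
    (h : Data G Ω p M P c d w) {W : Subgroup G}
    (hW : ∀ x, x ∈ P → x ^ p = 1 → (∀ y ∈ P, y * x = x * y) → x ∈ W)
    (hJ : ∀ t ∈ invAt G c, t ∈ centralizer (W : Set G)) : centralizer (W : Set G) ≤ M := by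
  haveI := hC.simple
  have hS := hC.shape M hM.toBig
  obtain ⟨y, hy, hne⟩ := h.moves
  haveI : Nontrivial P := ⟨⟨y, h.geA hy⟩, 1, fun e => by
    have : y = 1 := congrArg Subtype.val e
    subst this; simp at hne⟩
  haveI := h.sylD.isPGroup.center_nontrivial
  obtain ⟨z0, hz0⟩ : ∃ z0 : Subgroup.center P, orderOf z0 = p := by
    obtain ⟨k, hk, hk'⟩ := (h.sylD.isPGroup.to_subgroup (Subgroup.center P)).nontrivial_iff_card.1
      inferInstance
    exact exists_prime_orderOf_dvd_card' p (by rw [hk']; exact dvd_pow_self p hk.ne')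
  set a : G := ((z0 : P) : G) with ha
  have hZ : ∀ x ∈ P, ∀ y ∈ P, (∀ u ∈ P, u * x = x * u) → (∀ u ∈ P, u * y = y * u) →
      ∀ u ∈ P, u * (x * y) = x * y * u := fun x _ y _ hx hy u hu => by
    rw [← mul_assoc, hx u hu, mul_assoc, hy u hu, ← mul_assoc]
  have haP : a ∈ P := (z0 : P).2
  have hac : ∀ u ∈ P, u * a = a * u := fun u hu =>
    congrArg Subtype.val (Subgroup.mem_center_iff.1 z0.2 ⟨u, hu⟩)
  have hap : a ^ p = 1 := by
    rw [ha, ← hz0, ← SubgroupClass.coe_pow, ← SubgroupClass.coe_pow, pow_orderOf_eq_one]; rfl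
  have ha1 : a ≠ 1 := by
    intro e
    have : z0 = 1 := Subtype.ext (Subtype.ext e)
    rw [this, orderOf_one] at hz0
    exact hp.out.one_lt.ne hz0
  have hiw := invol_inv h.swap.1
  have hww := invol_mul_self h.swap.1
  set b := w * a * w⁻¹ with hb
  have hbP : b ∈ P := (mem_normalizer_iff.1 h.norm a).1 haP
  have hbc : ∀ u ∈ P, u * b = b * u := by
    intro u hu
    have := hac _ ((mem_normalizer_iff''.1 h.norm u).1 hu)
    calc u * b = w * (w⁻¹ * u * w * a) * w⁻¹ := by rw [hb]; group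
      _ = w * (a * (w⁻¹ * u * w)) * w⁻¹ := by rw [this]
      _ = b * u := by rw [hb]; group
  have hbp : b ^ p = 1 := by rw [hb, conj_pow, hap, mul_one, mul_inv_cancel]
  obtain ⟨z, hzP, hzp, hzc, hz1, hzw⟩ : ∃ z ∈ P, z ^ p = 1 ∧ (∀ u ∈ P, u * z = z * u) ∧ z ≠ 1 ∧
      (w * z * w⁻¹ = z ∨ w * z * w⁻¹ = z⁻¹) := by
    by_cases hab : a * b = 1
    · exact ⟨a, haP, hap, hac, ha1, Or.inr (eq_inv_of_mul_eq_one_right hab)⟩
    · refine ⟨a * b, mul_mem haP hbP, ?_, hZ a haP b hbP hac hbc, hab, Or.inl ?_⟩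
      · rw [Commute.mul_pow (hac b hbP).symm, hap, hbp, mul_one]
      · calc w * (a * b) * w⁻¹ = w * a * w⁻¹ * (w * b * w⁻¹) := by group
          _ = b * (w * (w * a * w⁻¹) * w⁻¹) := by rw [hb]
          _ = b * a := by
            rw [show w * (w * a * w⁻¹) * w⁻¹ = w * w * a * (w * w)⁻¹ by group, hww]; group
          _ = a * b := (hac b hbP)
  have hzW : z ∈ W := hW z hzP hzp hzc
  have hNne : normalizer (zpowers z : Set G) ≠ ⊤ :=
    normalizer_ne_top hC.oneFix (fun e => hz1 (zpowers_eq_bot.1 e))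
      (zpowers_le.2 ((h.sylH.1) hzP))
  obtain ⟨M', hM', hle⟩ := (eq_top_or_exists_le_coatom _).resolve_left hNne
  have hcent : centralizer ({z} : Set G) ≤ M' := by
    refine le_trans ?_ hle
    intro g hg
    rw [mem_normalizer_iff_map_conj_eq, MonoidHom.map_zpowers]
    congr 1
    show g * z * g⁻¹ = z
    rw [mem_centralizer_singleton_iff.1 hg, mul_inv_cancel_right]
  have hCWz : centralizer (W : Set G) ≤ centralizer ({z} : Set G) :=
    centralizer_le (Set.singleton_subset_iff.2 hzW)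
  have hPM' : P ≤ M' := fun u hu =>
    hcent (mem_centralizer_singleton_iff.2 (hzc u hu))
  have hwM' : w ∈ M' := by
    apply hle
    rw [mem_normalizer_iff_map_conj_eq, MonoidHom.map_zpowers]
    rcases hzw with e | e
    · exact congrArg zpowers e
    · exact (congrArg zpowers e).trans zpowers_inv
  have hJc : ∀ t ∈ invAt G c, t ∈ M' := fun t ht => hcent (hCWz (hJ t ht))
  obtain ⟨e, f, he, hf, hef, hefc⟩ := four_at hC c
  have hc' : c ∈ delta Ω M' := mem_delta he (hJc e he)
  have hd' : d ∈ delta Ω M' :=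
    mem_delta (h.swap.2 ▸ OneFix.conj_mem_invAt (g := w) he)
      (mul_mem (mul_mem hwM' (hJc e he)) (inv_mem hwM'))
  have hbig : Big G Ω M' := ⟨hM'.ne_top, ⟨e, hJc e he, f, hJc f hf, he.1, hf.1, hef, hefc⟩,
    c, hc', d, hd', h.ne⟩
  have hS' := hC.shape M' hbig
  set A := pCoreIn p M with hAdef
  have hAK : A ≤ oddIn M := pCoreIn_le_oddIn h.two
  obtain ⟨j, hjA, hj1, hjinv⟩ := exists_inverted h.swap.1
    (le_normalizer_map _ h.mem : w ∈ normalizer (A : Set G)) hy hne
  have hjodd : Odd (orderOf j) :=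
    (odd_oddIn M).of_dvd_nat ((oddIn M).orderOf_dvd_natCard (hAK hjA))
  obtain ⟨q, hq⟩ := hC.oneFix.exists_fix h.swap.1
  have hjK' : j ∈ oddIn M' := hS'.inverted q w j ⟨h.swap.1, hq⟩ hwM' (hPM' (h.geA hjA))
    (hS.fix q (mem_delta ⟨h.swap.1, hq⟩ h.mem) (hAK hjA)) hjodd hjinv
  have hjne := ne_of_inverted hj1 hjodd hjinv
  have hviol : Viol G Ω M' := ⟨hbig, w, hwM', h.swap.1, j, hjK', hjne⟩
  have hK'D : oddIn M' ≤ pairStab G c d := le_inf (hS'.fix c hc') (hS'.fix d hd')
  have hcore' : core p (oddIn M') = ⊥ := by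
    refine le_bot_iff.1 (h.coreD ▸ LocalTools.le_coreIn (hC.oneFix.odd_pairStab h.ne) h.two h.sylD
      ((map_subtype_le _).trans hK'D) (Balance.not_dvd_card_coreIn _) ?_)
    exact (hPM'.trans (le_normalizer_map _)).trans (normalizer_le_normalizer_core _)
  have hzj := hZJ M' p P c d hp.out hviol hc' hd' h.ne
    (sylowIn_le h.sylD (le_inf hPM' h.sylD.1) inf_le_right)
    ⟨w, hwM', h.swap.1, le_normalizer_inf inf_le_left (inf_le_right.trans (EndgameFacts.le_normalizer_map _))
      (show w ∈ normalizer (P : Set G) ⊓ M' from ⟨h.norm, hwM'⟩),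
      j, ⟨h.geA hjA, hjK'⟩, hjne⟩
  rw [hcore', bot_sup_eq, inf_eq_left, h.zj] at hzj
  have hMM : M' = M := ((hM'.le_iff.1 hzj).resolve_left hM.ne_top).symm
  exact hCWz.trans (hMM ▸ hcent)

end Endgame

open Endgame in
/-- Steps 2d-2e. -/
theorem propEndgame (hC : Ctx G Ω) (hZJ : PropZJ G Ω) (hStab : PropStab.{u})
    (hQuat : PropQuat.{u, u}) : PropEndgame G Ω := by
  intro M p hp hM hA hCP
  haveI : Fact p.Prime := ⟨hp⟩
  obtain ⟨P, c, d, w, h⟩ := exists_data hC hZJ hM hA hCP
  have hS := hC.shape M hM.toBig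
  have hp2 := h.two
  set H := stabilizer G c with hH
  set PK := P ⊓ oddIn M with hPKdef
  have hPKH : PK ≤ H := inf_le_left.trans h.sylH.1
  -- `U = O_p(H)`
  set U := pCoreIn p H with hUdef
  have hUH : U ≤ H := map_subtype_le _
  have hHU : H ≤ normalizer (U : Set G) := EndgameFacts.le_normalizer_map _
  have hUP : U ≤ P := by
    obtain ⟨g, hg, hle⟩ := exists_conj_le h.sylH (isPGroup_pCoreIn p H) hUH
    rw [show (pCoreIn p H).map (MulAut.conj g).toMonoidHom = pCoreIn p H from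
      mem_normalizer_iff_map_conj_eq.1 (hHU hg)] at hle
    exact hle
  have hPM : P ≤ M := h.sylD.1.trans (hM.pair_le c h.hc d h.hd h.ne)
  have hUK : U ≤ oddIn M := hS.odd_normal c h.hc U (le_inf (hUP.trans hPM) hUH)
    (odd_of_isPGroup (isPGroup_pCoreIn p H) hp2) (inf_le_right.trans hHU)
  -- the conjugates of `Ω₁(Z(P))`
  set S : Set G := {x | x ∈ P ∧ x ^ p = 1 ∧ ∀ y ∈ P, y * x = x * y} with hSdef
  set W := conjClosure H S with hWdef
  have hgen : ∀ g ∈ H, ∀ x ∈ S, g * x * g⁻¹ ∈ U ∧ ∀ u ∈ U, u * (g * x * g⁻¹) = g * x * g⁻¹ * u := by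
    intro g hg x hx
    refine ⟨(mem_normalizer_iff.1 (hHU hg) x).1 (hCP.self_cent_stab c h.hc x (h.sylH.1 hx.1)
      (mem_centralizer_iff.2 fun u hu => hx.2.2 u (hUP hu))), fun u hu => ?_⟩
    have := hx.2.2 _ (hUP ((mem_normalizer_iff''.1 (hHU hg) u).1 hu))
    calc u * (g * x * g⁻¹) = g * (g⁻¹ * u * g * x) * g⁻¹ := by group
      _ = g * (x * (g⁻¹ * u * g)) * g⁻¹ := by rw [this]
      _ = g * x * g⁻¹ * u := by group
  have hWU : W ≤ U := (closure_le _).2 fun y ⟨g, hg, x, hx, e⟩ => e ▸ (hgen g hg x hx).1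
  have hWc : W ≤ centralizer (U : Set G) := (closure_le _).2 fun y ⟨g, hg, x, hx, e⟩ =>
    mem_centralizer_iff.2 fun u hu => e ▸ (hgen g hg x hx).2 u hu
  have hWab : ∀ x ∈ W, ∀ y ∈ W, x * y = y * x := fun x hx y hy =>
    mem_centralizer_iff.1 (hWc hy) x (hWU hx)
  have hWel : Cfsg.IsElementaryAbelian p W := by
    refine ⟨ZJ.mulComm_of_comm hWab, fun x hx => ?_⟩
    induction hx using closure_induction with
    | mem x hx =>
      obtain ⟨g, hg, y, hy, rfl⟩ := hx
      rw [conj_pow, hy.2.1, mul_one, mul_inv_cancel]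
    | one => exact one_pow p
    | mul a b ha hb hap hbp => rw [Commute.mul_pow (hWab a ha b hb), hap, hbp, mul_one]
    | inv a _ hap => rw [inv_pow, hap, inv_one]
  have hHW : H ≤ normalizer (W : Set G) := le_normalizer_conjClosure H S
  have hHCW : H ≤ normalizer (centralizer (W : Set G) : Set G) :=
    hHW.trans (Balance.normalizer_le_normalizer_centralizer W)
  set C := H ⊓ centralizer (W : Set G) with hCdef
  have hHC : H ≤ normalizer (C : Set G) := EndgameFacts.le_normalizer_inf le_normalizer hHCW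
  have hWPK : W ≤ PK := hWU.trans (le_inf hUP hUK)
  -- quadratic elements outside `C`
  have hrad : ∀ a : G, a ∉ centralizer (W : Set G) → ∀ D : Subgroup G, D ≤ H →
      H ≤ normalizer (D : Set G) → a ∈ D →
      (∀ x ∈ D, ∃ k : ℕ, x ^ p ^ k ∈ centralizer (W : Set G)) → False :=
    fun a hac D hDH hD haD hpow =>
      hac (mem_centralizer_of_pow_mem h.sylH (fun x hx => hx.2.2) hDH hD hpow haD)
  have hquad : ∀ Y ∈ ZJ.maxAbIn PK, ¬ Y ≤ C →
      ∃ a ∈ PK, a ∉ centralizer (W : Set G) ∧ ∀ x ∈ W, ⁅⁅x, a⁆, a⁆ = 1 := by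
    intro Y hY hYC
    refine exists_quad (h.sylD.isPGroup.to_le inf_le_left) hWPK (hPKH.trans hHW) hWab hY
      fun hWY => hYC (le_inf (hY.1.trans hPKH) fun y hy => mem_centralizer_iff.2 fun x hx =>
        ZJ.comm_of_mulComm hY.2.1 (hWY hx) hy)
  rcases Nat.even_or_odd (Nat.card C) with heven | hodd
  · -- `C` of even order
    obtain ⟨t0, ht0, ht02⟩ : ∃ t ∈ C, orderOf t = 2 := by
      by_contra hall
      push Not at hall
      exact Nat.not_odd_iff_even.2 heven ((odd_card_iff_no_invol C).2 hall)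
    have hJC : ∀ t ∈ invAt G c, t ∈ C := by
      intro t ht
      obtain ⟨g, hg, rfl⟩ := hC.oneFix.pairStab_conj_invAt h.ne ⟨ht02, ht0.1⟩ ht
      exact (mem_normalizer_iff.1 (hHC hg.1) t0).1 ht0
    have hCM : centralizer (W : Set G) ≤ M := centralizer_le_full hC hZJ hM h
      (fun x hx hxp hxc => subset_closure
        ⟨1, one_mem _, x, ⟨hx, hxp, hxc⟩, by group⟩) (fun t ht => (hJC t ht).2)
    set O := oddIn C with hOdef
    have hOC : O ≤ C := map_subtype_le _
    have hHO : H ≤ normalizer (O : Set G) := by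
      intro g hg
      have h1 : normalizer (C : Set G) ≤ normalizer (O : Set G) := fun k hk => by
        rw [mem_normalizer_iff_map_conj_eq] at hk ⊢
        exact (Balance.map_coreIn (p := 2) (MulAut.conj k) C).trans (by
          rw [show C.map (MulAut.conj k).toMonoidHom = C from hk]; rfl)
      exact h1 (hHC hg)
    have hCMc : C ≤ M ⊓ H := le_inf (inf_le_right.trans hCM) inf_le_left
    have hOK : O ≤ oddIn M := hS.odd_normal c h.hc O (hOC.trans hCMc) (odd_oddIn C)
      (inf_le_right.trans hHO)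
    have hKC : oddIn M ⊓ C ≤ O := le_oddIn inf_le_right
      (EndgameFacts.le_normalizer_inf ((hCMc.trans inf_le_left).trans (EndgameFacts.le_normalizer_map _))
        le_normalizer)
      ((odd_oddIn M).of_dvd_nat (card_dvd_of_le inf_le_left))
    refine false_of_odd_normal hC hM hCP h (C := C) (hOC.trans inf_le_left) hHO (odd_oddIn C)
      (le_antisymm (le_inf (inf_le_inf le_rfl hOK) (inf_le_right.trans hOC))
        (le_inf (inf_le_left.trans inf_le_left) ((inf_le_inf inf_le_right le_rfl).trans hKC)))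
      fun Y hY => ?_
    by_contra hYC
    obtain ⟨a, haPK, hac, hq⟩ := hquad Y hY hYC
    haveI hOn : (O.subgroupOf H).Normal :=
      (normal_subgroupOf_iff_le_normalizer (hOC.trans inf_le_left)).2 hHO
    set π := QuotientGroup.mk' (O.subgroupOf H) with hπ
    haveI : (C.subgroupOf H).Normal :=
      (normal_subgroupOf_iff_le_normalizer inf_le_left).2 hHC
    haveI : ((C.subgroupOf H).map π).Normal :=
      Subgroup.Normal.map inferInstance π (QuotientGroup.mk'_surjective _)
    set N := (centralizer ((C.subgroupOf H).map π : Set (↥H ⧸ O.subgroupOf H))).comap π with hN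
    haveI : N.Normal := Subgroup.Normal.comap inferInstance π
    have hNmem : ∀ k : H, k ∈ N ↔ ∀ x ∈ C, ⁅(k : G), x⁆ ∈ O := by
      intro k
      rw [hN, mem_comap, mem_centralizer_iff]
      constructor
      · intro hk x hx
        have h1 := hk _ (mem_map_of_mem π (show (⟨x, hx.1⟩ : H) ∈ C.subgroupOf H from hx))
        have h2 : π ⁅k, (⟨x, hx.1⟩ : H)⁆ = 1 := by
          rw [map_commutatorElement, commutatorElement_eq_one_iff_mul_comm]; exact h1.symm
        have h3 := (QuotientGroup.eq_one_iff _).1 h2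
        rw [mem_subgroupOf] at h3
        rwa [show ((⁅k, (⟨x, hx.1⟩ : H)⁆ : H) : G) = ⁅(k : G), x⁆ from
          map_commutatorElement H.subtype k ⟨x, hx.1⟩] at h3
      · rintro hk _ ⟨x, hx, rfl⟩
        refine (commutatorElement_eq_one_iff_mul_comm.1 ?_).symm
        rw [← map_commutatorElement]
        refine (QuotientGroup.eq_one_iff _).2 ?_
        rw [mem_subgroupOf, show ((⁅k, x⁆ : H) : G) = ⁅(k : G), (x : G)⁆ from
          map_commutatorElement H.subtype k x]
        exact hk _ hx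
    have haN : (⟨a, hPKH haPK⟩ : H) ∈ N := by
      rw [hNmem]
      intro x hx
      apply hKC
      rw [commutatorElement_def]
      refine ⟨?_, mul_mem ((mem_normalizer_iff.1 (hHC (hPKH haPK)) x).1 hx) (C.inv_mem hx)⟩
      rw [show a * x * a⁻¹ * x⁻¹ = a * (x * a⁻¹ * x⁻¹) by group]
      exact mul_mem haPK.2
        ((mem_normalizer_iff.1 (EndgameFacts.le_normalizer_map _ (hCMc hx).1) _).1 ((oddIn M).inv_mem haPK.2))
    obtain ⟨f, hf, g, hg, h1, h2, h3⟩ := EndgameModule.exists_pair hQuat hp2 hWel hHW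
      (a := ⟨a, hPKH haPK⟩) hq (fun D hDH hD haD hpow => hrad a hac D hDH hD haD hpow) N haN
    have hfg : ⁅(f : G), (g : G)⁆ ∈ H := by
      rw [commutatorElement_def]
      exact mul_mem (mul_mem (mul_mem f.2 g.2) (H.inv_mem f.2)) (H.inv_mem g.2)
    have h4 := mem_of_quaternion hOC inf_le_left hHO (odd_oddIn C)
      (fun t ht ht2 => hJC t ⟨ht2, ht⟩) f.2 g.2 ((hNmem f).1 hf) ((hNmem g).1 hg)
      ⟨H.mul_mem (H.inv_mem hfg) (H.mul_mem f.2 f.2), h1⟩
      ⟨H.mul_mem (H.inv_mem hfg) (H.mul_mem g.2 g.2), h2⟩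
    have := mul_mem h4.2 h1
    rw [mul_inv_cancel_left] at this
    exact h3 this
  · -- `C` of odd order
    have hCK : M ⊓ C ≤ oddIn M :=
      hS.odd_normal c h.hc _ (inf_le_inf le_rfl inf_le_left)
        (hodd.of_dvd_nat (card_dvd_of_le inf_le_right))
        (EndgameFacts.le_normalizer_inf (inf_le_left.trans le_normalizer) (inf_le_right.trans hHC))
    refine false_of_odd_normal hC hM hCP h (C := C) inf_le_left hHC hodd
      (le_antisymm (le_inf (le_inf inf_le_left ((inf_le_inf hPM le_rfl).trans hCK)) inf_le_right)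
        (le_inf (inf_le_left.trans inf_le_left) inf_le_right)) fun Y hY => ?_
    by_contra hYC
    obtain ⟨a, haPK, hac, hq⟩ := hquad Y hY hYC
    obtain ⟨e, f, he, hf, hef, hefc⟩ := four_at hC c
    have hker : ∀ x ∈ centralizer ((W.subgroupOf H : Subgroup H) : Set H),
        (x : G) ∈ centralizer (W : Set G) := fun x hx => mem_centralizer_iff.2 fun y hy =>
      congrArg Subtype.val (mem_centralizer_iff.1 hx ⟨y, hUH (hWU hy)⟩ hy)
    have hodd' : Odd (Nat.card (centralizer ((W.subgroupOf H : Subgroup H) : Set H))) := by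
      rw [← card_map_of_injective (K := centralizer ((W.subgroupOf H : Subgroup H) : Set H))
        H.subtype_injective]
      refine hodd.of_dvd_nat (card_dvd_of_le ?_)
      rintro _ ⟨x, hx, rfl⟩
      exact ⟨x.2, hker x hx⟩
    have hst := hStab ↥H p hp2
      ⟨⟨e, he.2⟩, ⟨f, hf.2⟩, (Subgroup.orderOf_mk e _).trans he.1,
        (Subgroup.orderOf_mk f _).trans hf.1, fun e' => hef (congrArg Subtype.val e'),
        Subtype.ext hefc⟩
      (fun s t hs ht => commutator_mem_oddCore hS h.hc h.invJ hs ht)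
      (fun s t hs ht => by
        obtain ⟨g, hg, hgst⟩ := hC.oneFix.pairStab_conj_invAt h.ne
          (s := (s : G)) (t := (t : G)) ⟨(Subgroup.orderOf_coe s).trans hs, s.2⟩
          ⟨(Subgroup.orderOf_coe t).trans ht, t.2⟩
        exact ⟨⟨g, hg.1⟩, Subtype.ext hgst⟩)
      (W.subgroupOf H) ((normal_subgroupOf_iff_le_normalizer (hWU.trans hUH)).2 hHW)
      (((isPGroup_pCoreIn p H).to_le hWU).of_equiv (subgroupOfEquivOfLe (hWU.trans hUH)).symm)
      hodd' ⟨a, hPKH haPK⟩ (fun v hv => Subtype.ext (by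
        simpa [commutatorElement_def] using hq _ hv))
    obtain ⟨D, h1, h2, h3, h4⟩ := EndgameModule.exists_of_inPRad hst hker
    exact hrad a hac D h1 h2 h3 h4

end Cfsg.Agent.Lib.BenderOne.NodeA
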