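import Cfsg.Agent.Lib.BenderOne.NodeA.EndgameTools
import Cfsg.Agent.Lib.BenderOne8.Count
import Cfsg.Agent.Lib.BenderOne20.RankOne

/-!
# Bender's theorem, part I, node A: facts about a big subgroup
-/

set_option autoImplicit false
set_option linter.style.haveILetI false
set_option linter.unusedSectionVars false

namespace Cfsg.Agent.Lib.BenderOne.NodeA.EndgameFacts

open Subgroup MulAction
open Cfsg.Agent.Lib.BenderOne20 Cfsg.Agent.Lib.Involutions.Basic
open Cfsg.Agent.Lib.BenderOne.NoBadProof (core normalizer_ne_top)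
open scoped commutatorElement

universe u v

variable {G : Type u} [Group G] [Finite G] {Ω : Type v} [MulAction G Ω] {p : ℕ}

omit [Finite G] in
theorem le_normalizer_map {M : Subgroup G} (X : Subgroup M) [X.Normal] :
    M ≤ normalizer (X.map M.subtype : Set G) := fun m hm =>
  Subgroup.le_normalizer_map M.subtype
    ⟨⟨m, hm⟩, (normalizer_eq_top_iff.2 (inferInstance : X.Normal)) ▸ mem_top _, rfl⟩

theorem odd_oddIn (M : Subgroup G) : Odd (Nat.card (oddIn M)) := by
  rw [Nat.card_congr (equivMapOfInjective _ _ M.subtype_injective).symm.toEquiv]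
  exact BenderOne20.oddCore_odd

theorem le_oddIn {M N : Subgroup G} (hNM : N ≤ M) (hn : M ≤ normalizer (N : Set G))
    (hodd : Odd (Nat.card N)) : N ≤ oddIn M := by
  haveI : (N.subgroupOf M).Normal := (normal_subgroupOf_iff_le_normalizer hNM).2 hn
  intro x hx
  refine ⟨⟨x, hNM hx⟩, BenderOne20.le_oddCore (N := N.subgroupOf M) ?_ hx, rfl⟩
  rwa [Nat.card_congr (subgroupOfEquivOfLe hNM).toEquiv]

theorem isPGroup_pCoreIn (p : ℕ) (M : Subgroup G) : IsPGroup p (pCoreIn p M) :=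
  (Cores.pCore_isPGroup p).map _

variable [hp : Fact p.Prime]

omit [Finite G] in
theorem odd_of_isPGroup {X : Subgroup G} [Finite X] (h : IsPGroup p X) (hp2 : p ≠ 2) :
    Odd (Nat.card X) := by
  obtain ⟨k, hk⟩ := IsPGroup.iff_card.1 h
  rw [hk]
  exact (hp.out.odd_of_ne_two hp2).pow

theorem pCoreIn_le_oddIn {M : Subgroup G} (hp2 : p ≠ 2) : pCoreIn p M ≤ oddIn M :=
  le_oddIn (map_subtype_le _) (le_normalizer_map _)
    (odd_of_isPGroup (isPGroup_pCoreIn p M) hp2)

omit hp [Finite G] in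
theorem mem_delta {M : Subgroup G} {s : G} {x : Ω} (hs : s ∈ invAt G x) (hsM : s ∈ M) :
    x ∈ delta Ω M := ⟨s, hs, hsM⟩

omit hp in
/-- An involution moving an element of an invariant subgroup inverts a non-trivial one. -/
theorem exists_inverted {A : Subgroup G} {s y : G} (hs : orderOf s = 2)
    (hsA : s ∈ normalizer (A : Set G)) (hy : y ∈ A) (hne : s * y ≠ y * s) :
    ∃ j ∈ A, j ≠ 1 ∧ s * j * s⁻¹ = j⁻¹ := by
  have hi := invol_inv hs
  refine ⟨y * (s * y⁻¹ * s⁻¹), mul_mem hy ((mem_normalizer_iff.1 hsA _).1 (inv_mem hy)), ?_, ?_⟩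
  · intro h
    rw [mul_eq_one_iff_eq_inv, mul_inv_rev, mul_inv_rev, inv_inv, inv_inv, ← mul_assoc] at h
    exact hne (eq_mul_inv_iff_mul_eq.1 h).symm
  · rw [mul_inv_rev, mul_inv_rev, mul_inv_rev, inv_inv, inv_inv]
    calc s * (y * (s * y⁻¹ * s⁻¹)) * s⁻¹ = s * y * s * y⁻¹ * (s⁻¹ * s⁻¹) := by group
      _ = s * y * s * y⁻¹ := by rw [hi, invol_mul_self hs, mul_one]
      _ = s * (y * s⁻¹) * y⁻¹ := by rw [hi, mul_assoc s y s]

omit hp [Finite G] in
theorem ne_of_inverted {s j : G} (hj : j ≠ 1) (hodd : Odd (orderOf j))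
    (h : s * j * s⁻¹ = j⁻¹) : s * j ≠ j * s := by
  intro hc
  rw [hc, mul_inv_cancel_right] at h
  have h2 : orderOf j ∣ 2 :=
    orderOf_dvd_of_pow_eq_one (by rw [pow_two]; exact mul_eq_one_iff_eq_inv.2 h)
  exact hj (orderOf_eq_one_iff.1 (Nat.Coprime.eq_one_of_dvd (Nat.coprime_two_right.2 hodd) h2))

omit hp in
/-- An active prime is odd. -/
theorem ne_two (hC : Ctx G Ω) {M : Subgroup G} (hM : Big G Ω M) (hA : Active p M) : p ≠ 2 := by
  rintro rfl
  obtain ⟨x0, -, -, y, hy, hne⟩ := hA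
  haveI : Fact (Nat.Prime 2) := ⟨Nat.prime_two⟩
  have hA2 := isPGroup_pCoreIn 2 M
  have hy1 : y ≠ 1 := by rintro rfl; simp at hne
  have hnt : Nontrivial (pCoreIn 2 M) := ⟨⟨y, hy⟩, 1, fun h => hy1 (congrArg Subtype.val h)⟩
  obtain ⟨k, hk, hk'⟩ := hA2.nontrivial_iff_card.1 hnt
  obtain ⟨⟨t, htA⟩, ht⟩ := exists_prime_orderOf_dvd_card' (G := pCoreIn 2 M) 2
    (by rw [hk']; exact dvd_pow_self 2 hk.ne')
  rw [Subgroup.orderOf_mk] at ht
  have hS := hC.shape M hM
  obtain ⟨x, ⟨s, hs, hsM⟩, y, ⟨r, hr, hrM⟩, hxy⟩ := hM.many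
  have htM : t ∈ M := map_subtype_le _ htA
  have hin : ∀ v ∈ M, orderOf v = 2 → v ∈ pCoreIn 2 M := by
    intro v hv h2
    obtain ⟨g, hg, rfl⟩ := hS.conj t htM v hv ht h2
    exact (mem_normalizer_iff.1 (le_normalizer_map _ hg) t).1 htA
  have hmem := mul_mem (hin s hsM hs.1) (hin r hrM hr.1)
  obtain ⟨m, hm⟩ := IsPGroup.iff_orderOf.1 hA2 ⟨_, hmem⟩
  rw [Subgroup.orderOf_mk] at hm
  have hodd := hC.oneFix.odd_mul hs hr hxy
  rw [hm] at hodd
  rcases Nat.eq_zero_or_pos m with rfl | hm0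
  · rw [pow_zero, orderOf_eq_one_iff, mul_eq_one_iff_eq_inv, invol_inv hr.1] at hm
    subst hm
    exact hxy (hC.oneFix.eq_of_fix hs.1 hs.2 hr.2)
  · exact (Nat.not_even_iff_odd.2 hodd) ((Nat.even_pow' hm0.ne').2 even_two)

omit hp in
/-- A swapper of two fixed points lies in a subgroup containing their pair stabiliser. -/
theorem swap_mem {M : Subgroup G} (hS : Shape G Ω M) {c d : Ω} (hc : c ∈ delta Ω M)
    (hd : d ∈ delta Ω M) (hcd : c ≠ d) (hle : pairStab G c d ≤ M) {w : G}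
    (hw : w ∈ swapSet G c d) : w ∈ M := by
  obtain ⟨g, hg, hgc, hgd⟩ := hS.two_trans c hc d hd d hd c hc hcd hcd.symm
  have : g * w ∈ pairStab G c d :=
    ⟨show (g * w) • c = c by rw [mul_smul, hw.2, hgd],
      show (g * w) • d = d by rw [mul_smul, smul_swap hw, hgc]⟩
  exact (M.mul_mem_cancel_left hg).1 (hle this)

omit hp in
/-- The involutions fixing a fixed point of a full subgroup lie in it. -/
theorem invAt_subset (hC : Ctx G Ω) {M : Subgroup G} {c d : Ω} (hc : c ∈ delta Ω M) (hcd : c ≠ d)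
    (hle : pairStab G c d ≤ M) {t : G} (ht : t ∈ invAt G c) : t ∈ M := by
  obtain ⟨s, hs, hsM⟩ := hc
  obtain ⟨g, hg, rfl⟩ := hC.oneFix.pairStab_conj_invAt hcd hs ht
  exact mul_mem (mul_mem (hle hg) hsM) (inv_mem (hle hg))

omit hp in
/-- Four groups at every point. -/
theorem four_at (hC : Ctx G Ω) (c : Ω) :
    ∃ e f : G, e ∈ invAt G c ∧ f ∈ invAt G c ∧ e ≠ f ∧ e * f = f * e := by
  obtain ⟨a, -, b, -, ha, hb, hab, hcomm⟩ := hC.four
  obtain ⟨x, hx⟩ := hC.oneFix.exists_fix ha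
  obtain ⟨y, hy⟩ := hC.oneFix.exists_fix hb
  obtain rfl : x = y := hC.oneFix.fix_eq_of_commute ⟨ha, hx⟩ ⟨hb, hy⟩ hcomm
  haveI := hC.oneFix.trans
  obtain ⟨g, rfl⟩ := exists_smul_eq G x c
  refine ⟨_, _, OneFix.conj_mem_invAt (g := g) ⟨ha, hx⟩, OneFix.conj_mem_invAt (g := g) ⟨hb, hy⟩,
    fun h => hab (mul_left_cancel (mul_right_cancel h)), ?_⟩
  calc g * a * g⁻¹ * (g * b * g⁻¹) = g * (a * b) * g⁻¹ := by group
    _ = g * (b * a) * g⁻¹ := by rw [hcomm]
    _ = g * b * g⁻¹ * (g * a * g⁻¹) := by group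

omit hp in
/-- A subgroup normalised by a coatom and fixing a point has that coatom as normaliser. -/
theorem normalizer_eq (hC : Ctx G Ω) {M X : Subgroup G} (hM : IsCoatom M) (hX : X ≠ ⊥) {c : Ω}
    (hXc : X ≤ stabilizer G c) (hn : M ≤ normalizer (X : Set G)) :
    normalizer (X : Set G) = M := by
  haveI := hC.simple
  exact (hM.le_iff.1 hn).resolve_left (normalizer_ne_top hC.oneFix hX hXc)

omit [Finite G] hp in
theorem le_normalizer_inf {X N P : Subgroup G} (h1 : X ≤ normalizer (P : Set G))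
    (h2 : X ≤ normalizer (N : Set G)) : X ≤ normalizer ((P ⊓ N : Subgroup G) : Set G) :=
  (le_inf h1 h2).trans inf_normalizer_le_normalizer_inf

theorem sylowIn_le {P D E : Subgroup G} (hP : SylowIn p P D) (hPE : P ≤ E) (hED : E ≤ D) :
    SylowIn p P E := by
  obtain ⟨R, hR, hPR⟩ := SylowIn.exists_ge hP.isPGroup hPE
  rw [← hP.eq_of_le hPR (hR.1.trans hED) hR.isPGroup]
  exact hR

/-- `O_{p'}` of a two-point stabiliser inside `M` is trivial. -/
theorem core_pairStab {M : Subgroup G} (hCP : CharP G Ω p M) {D : Subgroup G}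
    (hDM : D ≤ M) (hAD : pCoreIn p M ≤ D) : core p D = ⊥ := by
  set W := core p D with hW
  set A := pCoreIn p M with hAdef
  have hWD : W ≤ D := map_subtype_le _
  have hDA : D ≤ normalizer (A : Set G) := hDM.trans (le_normalizer_map _)
  have hDW : D ≤ normalizer (W : Set G) := le_normalizer_map _
  have hcard : ¬ p ∣ Nat.card W := Balance.not_dvd_card_coreIn D
  have hbot : W ⊓ A = ⊥ := by
    refine (Subgroup.disjoint_of_coprime_natCard ?_).eq_bot
    obtain ⟨k, hk⟩ := IsPGroup.iff_card.1 (isPGroup_pCoreIn p M)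
    rw [hk]
    exact Nat.Coprime.pow_right k (hp.out.coprime_iff_not_dvd.2 hcard).symm
  have hWA : W ≤ centralizer (A : Set G) := by
    intro w hw
    rw [mem_centralizer_iff]
    intro a ha
    have h1 : a * w * a⁻¹ * w⁻¹ ∈ W ⊓ A := by
      refine ⟨mul_mem ((mem_normalizer_iff.1 (hDW (hAD ha)) w).1 hw) (W.inv_mem hw), ?_⟩
      rw [show a * w * a⁻¹ * w⁻¹ = a * (w * a⁻¹ * w⁻¹) by group]
      exact mul_mem ha ((mem_normalizer_iff.1 (hDA (hWD hw)) _).1 (A.inv_mem ha))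
    rw [hbot, mem_bot, ← commutatorElement_def, commutatorElement_eq_one_iff_mul_comm] at h1
    exact h1
  refine le_bot_iff.1 (hbot ▸ le_inf le_rfl fun w hw => ?_)
  exact hCP.self_cent w (hDM (hWD hw)) (hWA hw)

omit hp in
/-- The commutators of involutions at a point of a big subgroup lie in its odd core. -/
theorem commutator_invol {M : Subgroup G} (hS : Shape G Ω M) {c : Ω} (hc : c ∈ delta Ω M)
    (hJ : ∀ t ∈ invAt G c, t ∈ M) {s t : G} (hs : s ∈ invAt G c) (ht : t ∈ invAt G c) :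
    ⁅s, t⁆ ∈ oddIn M := by
  obtain ⟨Q, -, -, -, -, -, -, hinv, -⟩ := hS.regular c hc
  obtain ⟨hsQ, -⟩ := hinv s hs (hJ s hs)
  rw [commutatorElement_def]
  exact (hinv t ht (hJ t ht)).2 s hsQ

omit hp in
/-- The involutions at a point of a full subgroup commute modulo the odd core of the stabiliser. -/
theorem commutator_mem_oddCore {M : Subgroup G} (hS : Shape G Ω M) {c : Ω} (hc : c ∈ delta Ω M)
    (hJ : ∀ t ∈ invAt G c, t ∈ M) {s t : ↥(stabilizer G c)} (hs : orderOf s = 2)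
    (ht : orderOf t = 2) : ⁅s, t⁆ ∈ Cfsg.oddCore ↥(stabilizer G c) := by
  set X := closure {y : ↥(stabilizer G c) | ∃ a b : ↥(stabilizer G c), orderOf a = 2 ∧ orderOf b = 2 ∧ y = ⁅a, b⁆}
  have hle : X ≤ (oddIn M).subgroupOf (stabilizer G c) := by
    refine (closure_le _).2 ?_
    rintro _ ⟨a, b, ha, hb, rfl⟩
    rw [SetLike.mem_coe, mem_subgroupOf]
    show ((⁅a, b⁆ : ↥(stabilizer G c)) : G) ∈ oddIn M
    rw [show ((⁅a, b⁆ : ↥(stabilizer G c)) : G) = ⁅(a : G), (b : G)⁆ from map_commutatorElement (stabilizer G c).subtype a b]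
    exact commutator_invol hS hc hJ (s := (a : G)) (t := (b : G))
      ⟨(Subgroup.orderOf_coe a).trans ha, a.2⟩ ⟨(Subgroup.orderOf_coe b).trans hb, b.2⟩
  haveI : X.Normal := by
    refine ⟨fun y hy g => ?_⟩
    induction hy using closure_induction with
    | mem y hy =>
      obtain ⟨a, b, ha, hb, rfl⟩ := hy
      refine subset_closure ⟨g * a * g⁻¹, g * b * g⁻¹, (orderOf_conj_eq g a).trans ha,
        (orderOf_conj_eq g b).trans hb, ?_⟩
      rw [commutatorElement_def, commutatorElement_def]; group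
    | one => simp
    | mul a b _ _ ha hb =>
      rw [show g * (a * b) * g⁻¹ = g * a * g⁻¹ * (g * b * g⁻¹) by group]
      exact mul_mem ha hb
    | inv a _ ha =>
      rw [show g * a⁻¹ * g⁻¹ = (g * a * g⁻¹)⁻¹ by group]
      exact inv_mem ha
  have hmem : ⁅s, t⁆ ∈ X := subset_closure ⟨s, t, hs, ht, rfl⟩
  refine BenderOne20.le_oddCore (N := X) ?_ hmem
  refine (odd_oddIn M).of_dvd_nat ((card_dvd_of_le hle).trans ?_)
  exact card_comap_dvd_of_injective _ (stabilizer G c).subtype (stabilizer G c).subtype_injective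

end Cfsg.Agent.Lib.BenderOne.NodeA.EndgameFacts
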