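import Cfsg.Agent.Lib.BenderOne.LocalTools
import Cfsg.Agent.Lib.Balance.Permute
import Cfsg.Agent.Lib.BenderOne.TwoPoint
import Cfsg.Agent.Lib.BenderOne.NodeA.Interface
import Cfsg.Agent.Lib.ZJ.AbelianJ
import Cfsg.Agent.Lib.ZJ.Replacement

/-!
# Bender's theorem, part I, node A: tools for the endgame

* `normal_le_normalizer_zj`: Glauberman's theorem and the Frattini argument in an odd normal
  subgroup;
* `sylowIn_stab`: the Sylow subgroups of a two-point stabiliser of a big subgroup are Sylow in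
  the one-point stabiliser;
* `mem_centralizer_of_pow_mem`: the automizer of the conjugates of a central subgroup of a Sylow
  `p`-subgroup has no normal `p`-subgroup;
* `exists_quad`: replacement gives quadratic elements;
* `mem_of_quaternion`: a quaternion pair centralising a subgroup which contains all involutions.
-/

set_option autoImplicit false
set_option linter.style.haveILetI false
set_option linter.unusedSectionVars false

namespace Cfsg.Agent.Lib.BenderOne.NodeA.EndgameTools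

open Subgroup MulAction
open Cfsg.Agent.Lib.BenderOne20
open Cfsg.Agent.Lib.BenderOne.NoBadProof (core)
open scoped commutatorElement

universe u v

variable {G : Type u} [Group G] [Finite G] {p : ℕ} [hp : Fact p.Prime]

omit [Finite G] hp in
theorem normalizer_le_normalizer_core (K : Subgroup G) :
    normalizer (K : Set G) ≤ normalizer (core p K : Set G) := fun g hg => by
  rw [mem_normalizer_iff_map_conj_eq] at hg ⊢
  exact (Balance.map_coreIn (p := p) (MulAut.conj g) K).trans (by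
    rw [show K.map (MulAut.conj g).toMonoidHom = K from hg]; rfl)

/-- A `p`-subgroup of `D` is conjugate into a Sylow `p`-subgroup. -/
theorem exists_conj_le {P D R : Subgroup G} (hP : SylowIn p P D) (hR : IsPGroup p R) (hRD : R ≤ D) :
    ∃ d ∈ D, R.map (MulAut.conj d).toMonoidHom ≤ P := by
  obtain ⟨S, hS, hRS⟩ := SylowIn.exists_ge hR hRD
  obtain ⟨d, hd, hdS⟩ := hS.conj_eq hP
  exact ⟨d, hd, (map_mono hRS).trans hdS.le⟩

/-- A Sylow subgroup meets a normal subgroup in a Sylow subgroup. -/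
theorem sylowIn_inf {P H N : Subgroup G} (hP : SylowIn p P H) (hNH : N ≤ H)
    (hn : H ≤ normalizer (N : Set G)) : SylowIn p (P ⊓ N) N := by
  obtain ⟨R, hR, hPR⟩ := SylowIn.exists_ge (hP.isPGroup.to_le (inf_le_left : P ⊓ N ≤ P))
    (inf_le_right : P ⊓ N ≤ N)
  obtain ⟨d, hd, hdR⟩ := exists_conj_le hP hR.isPGroup (hR.1.trans hNH)
  have hle : R.map (MulAut.conj d).toMonoidHom ≤ P ⊓ N :=
    le_inf hdR ((map_mono hR.1).trans (mem_normalizer_iff_map_conj_eq.1 (hn hd)).le)
  have h1 := Subgroup.card_le_of_le hle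
  rw [card_map_of_injective (MulAut.conj d).injective] at h1
  rw [Subgroup.eq_of_le_of_card_ge hPR h1]
  exact hR

/-- The Frattini argument. -/
theorem frattini {H N Q : Subgroup G} (hn : H ≤ normalizer (N : Set G))
    (hQ : SylowIn p Q N) {h : G} (hh : h ∈ H) :
    ∃ n ∈ N, n⁻¹ * h ∈ normalizer (Q : Set G) := by
  have h1 := hQ.map_conj h
  rw [show N.map (MulAut.conj h).toMonoidHom = N from
    mem_normalizer_iff_map_conj_eq.1 (hn hh)] at h1
  obtain ⟨n, hn', he⟩ := hQ.conj_eq h1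
  refine ⟨n, hn', mem_normalizer_iff_map_conj_eq.2 ?_⟩
  have h2 := congrArg (Subgroup.map (MulAut.conj n⁻¹).toMonoidHom) he.symm
  rw [map_map, map_map] at h2
  have e1 : (MulAut.conj n⁻¹).toMonoidHom.comp (MulAut.conj h).toMonoidHom =
      (MulAut.conj (n⁻¹ * h)).toMonoidHom := by
    ext x; simp [mul_assoc]
  have e2 : (MulAut.conj n⁻¹).toMonoidHom.comp (MulAut.conj n).toMonoidHom = MonoidHom.id G := by
    ext x; simp [mul_assoc]
  rw [e1, e2, map_id] at h2
  exact h2

/-- `Z(J(Q))` of a Sylow subgroup of an odd normal subgroup without `p'`-core is normal. -/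
theorem normal_le_normalizer_zj {H N Q : Subgroup G}
    (hn : H ≤ normalizer (N : Set G)) (hodd : Odd (Nat.card N)) (hp2 : p ≠ 2)
    (hcore : core p N = ⊥) (hQ : SylowIn p Q N) :
    H ≤ normalizer (Cfsg.centerThompsonAOf Q : Set G) := by
  intro h hh
  obtain ⟨n, hnN, hnh⟩ := frattini hn hQ hh
  have h1 : n ∈ normalizer (Cfsg.centerThompsonAOf Q : Set G) :=
    LocalTools.le_normalizer_zj hodd hp2 hQ hcore hnN
  have := mul_mem h1 (ZJ.normalizer_le_normalizer_centerThompsonA Q hnh)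
  rwa [mul_inv_cancel_left] at this

/-- In a big subgroup the Sylow subgroups of a two-point stabiliser are Sylow in the one-point
stabiliser. -/
theorem sylowIn_stab {Ω : Type v} [MulAction G Ω] {M P : Subgroup G} (hS : Shape G Ω M)
    (hp2 : p ≠ 2) {c d : Ω} (hc : c ∈ delta Ω M) (hd : d ∈ delta Ω M) (hcd : c ≠ d)
    (hle : pairStab G c d ≤ M) (hP : SylowIn p P (pairStab G c d)) :
    SylowIn p P (M ⊓ stabilizer G c) := by
  obtain ⟨Q, hKQ, hQX, -, hpow, htrans, hfix, -⟩ := hS.regular c hc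
  set X := M ⊓ stabilizer G c with hX
  have horb : orbit X d = orbit Q d := by
    ext e
    constructor
    · rintro ⟨⟨x, hxM, hxc⟩, rfl⟩
      have he : x • d ∈ delta Ω M := hS.smul_mem x hxM d hd
      have hne : x • d ≠ c := fun h => hcd (by
        apply (smul_left_cancel x (x := d) (y := c) (h.trans hxc.symm)).symm)
      obtain ⟨q, hq, hqd⟩ := htrans d hd (x • d) he hcd.symm hne
      exact ⟨⟨q, hq⟩, hqd⟩
    · rintro ⟨⟨q, hq⟩, rfl⟩
      exact ⟨⟨q, hQX hq⟩, rfl⟩
  have hidx : ∀ Y : Subgroup G,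
      (stabilizer G d).relIndex Y = (orbit Y d).ncard := by
    intro Y
    rw [← index_stabilizer Y d, Subgroup.relIndex]
    congr 1
  have hrel : (pairStab G c d).relIndex X = (oddIn M).relIndex Q := by
    have e1 : pairStab G c d = stabilizer G d ⊓ X := by
      refine le_antisymm (le_inf inf_le_right (le_inf hle inf_le_left)) ?_
      exact le_inf (inf_le_right.trans inf_le_right) inf_le_left
    rw [e1, Subgroup.inf_relIndex_right, hidx X, horb, ← hidx Q,
      ← Subgroup.inf_relIndex_right (stabilizer G d), inf_comm, hfix d hd hcd.symm]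
  have hKn : ((oddIn M).subgroupOf Q).Normal := by
    refine (Subgroup.normal_subgroupOf_iff_le_normalizer hKQ).2 (hQX.trans (inf_le_left.trans ?_))
    intro m hm
    exact le_normalizer_map M.subtype
      ⟨⟨m, hm⟩, (normalizer_eq_top_iff.2 (inferInstance : (Cfsg.oddCore ↥M).Normal)) ▸ mem_top _,
        rfl⟩
  haveI : Fact (Nat.Prime 2) := ⟨Nat.prime_two⟩
  have h2 : IsPGroup 2 (↥Q ⧸ (oddIn M).subgroupOf Q) := by
    intro x
    obtain ⟨⟨q, hq⟩, rfl⟩ := QuotientGroup.mk_surjective x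
    obtain ⟨k, hk⟩ := hpow q hq
    exact ⟨k, by rw [← QuotientGroup.mk_pow, QuotientGroup.eq_one_iff]; exact hk⟩
  obtain ⟨n, hn⟩ := IsPGroup.iff_card.1 h2
  have hPX : P ≤ X := hP.1.trans (le_inf hle inf_le_left)
  refine ⟨hPX, ?_⟩
  have hcard : Nat.card X = Nat.card (pairStab G c d) * 2 ^ n := by
    rw [← hn, ← Subgroup.index_eq_card, ← Subgroup.relIndex, ← hrel, ← Subgroup.relIndex_bot_left,
      ← Subgroup.relIndex_bot_left]
    exact (relIndex_mul_relIndex (⊥ : Subgroup G) _ X bot_le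
      (le_inf hle inf_le_left : pairStab G c d ≤ X)).symm
  rw [hP.2, hcard, Nat.factorization_mul Nat.card_pos.ne' (pow_ne_zero _ two_ne_zero),
    Finsupp.add_apply, Nat.Prime.factorization_pow Nat.prime_two, Finsupp.single_eq_of_ne hp2,
    add_zero]

omit hp in
/-- The conjugates of a set. -/
def conjClosure (H : Subgroup G) (S : Set G) : Subgroup G :=
  closure {y | ∃ h ∈ H, ∃ x ∈ S, y = h * x * h⁻¹}

omit [Finite G] in
theorem le_normalizer_conjClosure (H : Subgroup G) (S : Set G) :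
    H ≤ normalizer (conjClosure H S : Set G) := by
  intro g hg
  have key : ∀ g ∈ H, ∀ y ∈ conjClosure H S, g * y * g⁻¹ ∈ conjClosure H S := by
    intro g hg y hy
    induction hy using Subgroup.closure_induction with
    | mem y hy =>
      obtain ⟨h, hh, x, hx, rfl⟩ := hy
      exact subset_closure ⟨g * h, mul_mem hg hh, x, hx, by group⟩
    | one => simp
    | mul a b _ _ ha hb =>
      rw [show g * (a * b) * g⁻¹ = g * a * g⁻¹ * (g * b * g⁻¹) by group]
      exact mul_mem ha hb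
    | inv a _ ha =>
      rw [show g * a⁻¹ * g⁻¹ = (g * a * g⁻¹)⁻¹ by group]
      exact inv_mem ha
  rw [mem_normalizer_iff]
  refine fun y => ⟨key g hg y, fun h => ?_⟩
  have := key g⁻¹ (inv_mem hg) _ h
  simpa [mul_assoc] using this

/-- Elements of a normal subgroup of `H`, all with a `p`-power centralising the conjugates of a
central part of a Sylow subgroup, centralise them. -/
theorem mem_centralizer_of_pow_mem {H P N : Subgroup G} {S : Set G} (hP : SylowIn p P H)
    (hS : ∀ x ∈ S, ∀ y ∈ P, y * x = x * y) (hNH : N ≤ H) (hn : H ≤ normalizer (N : Set G))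
    (hpow : ∀ x ∈ N, ∃ k : ℕ, x ^ p ^ k ∈ centralizer (conjClosure H S : Set G)) :
    N ≤ centralizer (conjClosure H S : Set G) := by
  set W := conjClosure H S with hW
  set C := N ⊓ centralizer (W : Set G) with hC
  have hHC : H ≤ normalizer (C : Set G) :=
    (le_inf hn ((le_normalizer_conjClosure H S).trans
      (Balance.normalizer_le_normalizer_centralizer W))).trans
        (inf_normalizer_le_normalizer_inf)
  set Q := P ⊓ N with hQdef
  have hQ : SylowIn p Q N := sylowIn_inf hP hNH hn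
  haveI : (C.subgroupOf N).Normal :=
    (Subgroup.normal_subgroupOf_iff_le_normalizer inf_le_left).2 (hNH.trans hHC)
  have hq : IsPGroup p (↥N ⧸ C.subgroupOf N) := by
    intro x
    obtain ⟨⟨n, hnN⟩, rfl⟩ := QuotientGroup.mk_surjective x
    obtain ⟨k, hk⟩ := hpow n hnN
    exact ⟨k, by rw [← QuotientGroup.mk_pow, QuotientGroup.eq_one_iff]
                 exact ⟨pow_mem hnN _, hk⟩⟩
  obtain ⟨j, hj⟩ := IsPGroup.iff_card.1 hq
  have hsup : N ≤ Q ⊔ C := by
    have hle : Q ⊔ C ≤ N := sup_le hQ.1 inf_le_left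
    refine (Subgroup.eq_of_le_of_card_ge hle ?_).ge
    refine Nat.le_of_dvd Nat.card_pos ?_
    have hcN : Nat.card N = p ^ j * Nat.card C := by
      rw [← hj, Subgroup.card_eq_card_quotient_mul_card_subgroup (C.subgroupOf N),
        Nat.card_congr (Subgroup.subgroupOfEquivOfLe (inf_le_left : C ≤ N)).toEquiv]
    rw [← Nat.ordProj_mul_ordCompl_eq_self (Nat.card N) p]
    have hcop := Nat.coprime_ordCompl hp.out (Nat.card_pos (α := N)).ne'
    refine (Nat.Coprime.pow_left _ hcop).mul_dvd_of_dvd_of_dvd ?_ ?_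
    · rw [← hQ.2]
      exact Subgroup.card_dvd_of_le le_sup_left
    · refine dvd_trans ?_ (Subgroup.card_dvd_of_le (le_sup_right : C ≤ Q ⊔ C))
      refine (Nat.Coprime.pow_right j hcop.symm).dvd_of_dvd_mul_left ?_
      rw [← hcN]
      exact Nat.ordCompl_dvd _ p
  have hmul : ∀ n ∈ N, ∃ q ∈ Q, ∃ c ∈ C, q * c = n := by
    intro n hn'
    have h1 : n ∈ ((Q ⊔ C : Subgroup G) : Set G) := hsup hn'
    rw [Subgroup.coe_mul_of_left_le_normalizer_right Q C ((hQ.1.trans hNH).trans hHC)] at h1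
    exact h1
  suffices hQC : Q ≤ C from hsup.trans (sup_le (hQC.trans inf_le_right) inf_le_right)
  refine le_inf hQ.1 ?_
  intro y hy
  rw [mem_centralizer_iff]
  intro w hw
  induction hw using Subgroup.closure_induction with
  | mem w hw =>
    obtain ⟨h, hh, x, hx, rfl⟩ := hw
    obtain ⟨n, hnN, hnh⟩ := frattini hn hQ hh
    obtain ⟨q, hqQ, c, hcC, rfl⟩ := hmul n hnN
    -- `h = q c m` with `m` normalising `Q`
    set m := (q * c)⁻¹ * h with hm
    have hqN : q ∈ normalizer (Q : Set G) := le_normalizer hqQ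
    have hmH : m ∈ H := mul_mem (inv_mem (hNH hnN)) hh
    have hc' : q * c * q⁻¹ ∈ C :=
      (mem_normalizer_iff.1 (hHC (hNH (hQ.1 hqQ))) c).1 hcC
    have hwm : q * m * x * (q * m)⁻¹ ∈ W :=
      subset_closure ⟨q * m, mul_mem (hNH (hQ.1 hqQ)) hmH, x, hx, rfl⟩
    have he : h * x * h⁻¹ = q * m * x * (q * m)⁻¹ := by
      calc h * x * h⁻¹ = q * c * q⁻¹ * (q * m * x * (q * m)⁻¹) * (q * c * q⁻¹)⁻¹ := by
            rw [hm]; group
        _ = _ := by
            rw [← mem_centralizer_iff.1 hc'.2 _ hwm]; group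
    rw [he]
    have hy' : (q * m)⁻¹ * y * (q * m) ∈ P :=
      ((mem_normalizer_iff''.1 (mul_mem hqN hnh) y).1 hy).1
    have := hS x hx _ hy'
    calc q * m * x * (q * m)⁻¹ * y
        = q * m * (x * ((q * m)⁻¹ * y * (q * m))) * (q * m)⁻¹ := by group
      _ = q * m * ((q * m)⁻¹ * y * (q * m) * x) * (q * m)⁻¹ := by rw [← this]
      _ = y * (q * m * x * (q * m)⁻¹) := by group
  | one => simp
  | mul a b _ _ ha hb => rw [mul_assoc, hb, ← mul_assoc, ha, mul_assoc]
  | inv a _ ha => exact (Commute.inv_left ha).eq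

/-- Glauberman replacement: an abelian normal subgroup of `P` outside some abelian subgroup of
largest order is moved quadratically. -/
theorem exists_quad {P B U : Subgroup G} (hP : IsPGroup p P) (hBP : B ≤ P)
    (hPB : P ≤ normalizer (B : Set G)) (hB : ∀ x ∈ B, ∀ y ∈ B, x * y = y * x)
    (hU : U ∈ ZJ.maxAbIn P) (hBU : ¬ B ≤ U) :
    ∃ a ∈ P, a ∉ centralizer (B : Set G) ∧ ∀ x ∈ B, ⁅⁅x, a⁆, a⁆ = 1 := by
  have hd : ⁅B, B⁆ = ⊥ := by
    rw [eq_bot_iff, Subgroup.commutator_le]
    intro x hx y hy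
    rw [mem_bot, commutatorElement_eq_one_iff_mul_comm]
    exact hB x hx y hy
  obtain ⟨A, hA, -, hnA, hBN⟩ := ZJ.Replacement.exists_normalizes (ZJ.maxAbIn P) hP hBP hPB
    (Or.inr hB) (fun A hA => hA.1) (fun A hA x hx y hy => ZJ.comm_of_mulComm hA.2.1 hx hy)
    (fun A hA b hb A' hA' hcomm hcard _ => ⟨hA'.trans (sup_le hA.1 (by
        intro x hx
        have hx' := hA.1 (ZJ.Replacement.mem_conjr.1 hx)
        have := mul_mem (mul_mem (inv_mem (hBP hb)) hx') (hBP hb)
        simpa [mul_assoc] using this)),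
      ZJ.mulComm_of_comm hcomm, fun B' h1 h2 => (hA.2.2 B' h1 h2).trans hcard.ge⟩)
    hU (hd ▸ bot_le) hBU
  obtain ⟨a, haA, hac⟩ : ∃ a ∈ A, a ∉ centralizer (B : Set G) := by
    by_contra hall
    push Not at hall
    exact hnA fun b hb => ZJ.mem_of_maxAbIn hA (hBP hb) fun a ha =>
      (mem_centralizer_iff.1 (hall a ha) b hb).symm
  refine ⟨a, hA.1 haA, hac, fun x hx => ?_⟩
  rw [commutatorElement_eq_one_iff_mul_comm]
  refine ZJ.comm_of_mulComm hA.2.1 ?_ haA
  rw [commutatorElement_def]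
  exact mul_mem ((mem_normalizer_iff.1 (hBN hx) a).1 haA) (inv_mem haA)

omit hp in
/-- If every abelian subgroup of largest order lies in `C`, `J` only depends on `P ⊓ C`. -/
theorem thompsonA_inf {P C : Subgroup G} (h : ∀ U ∈ ZJ.maxAbIn P, U ≤ C) :
    Cfsg.thompsonSubgroupAOf (P ⊓ C) = Cfsg.thompsonSubgroupAOf P := by
  obtain ⟨A, hA⟩ := ZJ.maxAbIn_nonempty P
  refine le_antisymm (ZJ.thompsonSubgroupAOf_mono inf_le_left hA (le_inf hA.1 (h A hA))) ?_
  rw [ZJ.thompsonSubgroupAOf_eq, ZJ.thompsonSubgroupAOf_eq]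
  refine sSup_le_sSup fun U hU => ⟨le_inf hU.1 (h U hU), hU.2.1, fun B hB hB' => ?_⟩
  exact hU.2.2 B (hB.trans inf_le_left) hB'

omit hp in
/-- Two elements centralising `C` modulo `O` whose squares and commutator agree modulo `C` have
their common square in `C`, if `C` contains every involution. -/
theorem mem_of_quaternion {H C O : Subgroup G} (hOC : O ≤ C) (hCH : C ≤ H)
    (hO : H ≤ normalizer (O : Set G)) (hodd : Odd (Nat.card O))
    (hinv : ∀ t ∈ H, orderOf t = 2 → t ∈ C) {f g : G} (hf : f ∈ H) (hg : g ∈ H)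
    (hfC : ∀ x ∈ C, ⁅f, x⁆ ∈ O) (hgC : ∀ x ∈ C, ⁅g, x⁆ ∈ O)
    (h1 : ⁅f, g⁆⁻¹ * (f * f) ∈ C) (h2 : ⁅f, g⁆⁻¹ * (g * g) ∈ C) : ⁅f, g⁆ ∈ C := by
  haveI : (O.subgroupOf H).Normal :=
    (Subgroup.normal_subgroupOf_iff_le_normalizer (hOC.trans hCH)).2 hO
  set π := QuotientGroup.mk' (O.subgroupOf H)
  set F := π ⟨f, hf⟩ with hF
  set K := π ⟨g, hg⟩ with hK
  have hcc : ∀ {y x : G} (hy : y ∈ H) (hx : x ∈ C), ⁅y, x⁆ ∈ O →
      Commute (π ⟨y, hy⟩) (π ⟨x, hCH hx⟩) := by
    intro y x hy hx h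
    apply commutatorElement_eq_one_iff_mul_comm.1
    rw [← map_commutatorElement]
    exact (QuotientGroup.eq_one_iff _).2 h
  set D := ⁅F, K⁆ with hD
  have hcF : ⁅f, g⁆ ∈ H := by
    rw [commutatorElement_def]
    exact mul_mem (mul_mem (mul_mem hf hg) (inv_mem hf)) (inv_mem hg)
  have hDe : D = π ⟨⁅f, g⁆, hcF⟩ := by
    rw [hD, hF, hK, ← map_commutatorElement]
    rfl
  set U := π ⟨_, hCH h1⟩ with hU
  set V := π ⟨_, hCH h2⟩ with hV
  have eU : F * F = D * U := by
    rw [hDe, hU, hF, ← map_mul, ← map_mul]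
    exact congrArg π (Subtype.ext (show f * f = ⁅f, g⁆ * (⁅f, g⁆⁻¹ * (f * f)) by
      rw [mul_inv_cancel_left]))
  have eV : K * K = D * V := by
    rw [hDe, hV, hK, ← map_mul, ← map_mul]
    exact congrArg π (Subtype.ext (show g * g = ⁅f, g⁆ * (⁅f, g⁆⁻¹ * (g * g)) by
      rw [mul_inv_cancel_left]))
  have hUF : Commute F U := hcc hf h1 (hfC _ h1)
  have hUK : Commute K U := hcc hg h1 (hgC _ h1)
  have hVK : Commute K V := hcc hg h2 (hgC _ h2)
  have hDF : Commute F D := by
    have := ((Commute.refl F).mul_right (Commute.refl F)).mul_right hUF.inv_right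
    rwa [eU, mul_inv_cancel_right] at this
  have hDK : Commute K D := by
    have := ((Commute.refl K).mul_right (Commute.refl K)).mul_right hVK.inv_right
    rwa [eV, mul_inv_cancel_right] at this
  have hFFK : Commute (F * F) K := by
    rw [eU]
    exact (hDK.mul_right hUK).symm
  have hD2 : D * D = 1 := by
    have e : ⁅F * F, K⁆ = F * D * F⁻¹ * D := by
      rw [hD, commutatorElement_def, commutatorElement_def]; group
    rw [commutatorElement_eq_one_iff_mul_comm.2 hFFK.eq, hDF.eq, mul_inv_cancel_right] at e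
    exact e.symm
  have hO2 : ⁅f, g⁆ * ⁅f, g⁆ ∈ O := by
    rw [hDe, ← map_mul] at hD2
    exact ((QuotientGroup.eq_one_iff _).1 hD2 :)
  by_contra hne
  obtain ⟨k, hk, h2k⟩ := exists_invol_pow hodd (fun h => hne (hOC h)) hO2
  obtain ⟨j, rfl⟩ := hk
  have h3 := hinv _ (pow_mem hcF _) h2k
  rw [pow_succ, pow_mul, pow_two] at h3
  exact hne ((C.mul_mem_cancel_left (pow_mem (hOC hO2) j)).1 h3)

end Cfsg.Agent.Lib.BenderOne.NodeA.EndgameTools
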