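import Cfsg.Agent.Lib.BenderOne.NodeA.Interface
import Cfsg.Agent.Lib.BenderOne67.Local

/-!
# Bender's theorem, part I, node A: tools L and C

Owner: helper67.
-/

set_option autoImplicit false
set_option linter.style.haveILetI false

namespace Cfsg.Agent.Lib.BenderOne.NodeA

open Subgroup MulAction
open Cfsg.Agent.Lib.Involutions.Basic Cfsg.Agent.Lib.BenderOne20
open Cfsg.Agent.Lib.BenderOne.NoBadProof (invGen mem_invGen)

universe u v

variable {G : Type u} {Ω : Type v} [Group G] [MulAction G Ω]

/-- A non-trivial inverted part contains a non-trivial inverted element. -/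
theorem exists_inverted {V : Subgroup G} {e : G} (hV : V ≠ ⊥) (h : invGen V e = V) :
    ∃ j ∈ V, j ≠ 1 ∧ e * j * e⁻¹ = j⁻¹ := by
  by_contra hall
  push Not at hall
  refine hV ?_
  rw [← h, eq_bot_iff, invGen, Subgroup.closure_le]
  rintro x ⟨hx, hx'⟩
  by_contra h1
  exact hall x hx (fun h2 => h1 (Subgroup.mem_bot.2 h2)) hx'

variable [Finite G]

/-- The normaliser of a subgroup with an involution fixes the point of that subgroup. -/
theorem normalizer_le_of_invol (hG : OneFix G Ω) {V : Subgroup G} {c : Ω} (hV : V ≤ stabilizer G c)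
    {z : G} (hz : orderOf z = 2) (hzV : z ∈ V) :
    normalizer (V : Set G) ≤ stabilizer G c := by
  intro g hg
  refine hG.eq_of_fix hz ?_ (hV hzV)
  have h : (g⁻¹ * z * g) • c = c := hV ((Subgroup.mem_normalizer_iff''.1 hg z).1 hzV)
  rwa [mul_assoc, mul_smul, inv_smul_eq_iff, mul_smul] at h

/-- Tool L. -/
theorem propNormFix (hC : Ctx G Ω) : PropNormFix G Ω := by
  intro c p V e f hp hVp hV hVc he hf hne hef heV hfV hinv
  haveI := Fact.mk hp
  by_cases hp2 : p = 2
  · subst hp2
    obtain ⟨n, hn, hn'⟩ := hVp.nontrivial_iff_card.1 ((Subgroup.nontrivial_iff_ne_bot V).2 hV)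
    obtain ⟨z, hz⟩ := exists_prime_orderOf_dvd_card' (G := V) 2 (hn' ▸ dvd_pow_self 2 hn.ne')
    exact normalizer_le_of_invol hC.oneFix hVc (by rw [Subgroup.orderOf_coe]; exact hz) z.2
  · have := BenderOne67.normalizer_invGen_le hC.oneFix he hf hne hef hVp hp2 hfV
      (exists_inverted hV hinv)
    rwa [hinv] at this

/-- Tool C. -/
theorem propChainFix (hC : Ctx G Ω) : PropChainFix G Ω := by
  intro c p V W e f hp hp2 hVp hV hVc he hf hne hef heV hfV hinv hW hcop heW hVW
  haveI := Fact.mk hp
  exact BenderOne67.invariant_le_stabilizer hC.oneFix he hf hne hef hVp hp2 hVc heV hfV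
    (exists_inverted hV hinv) hW hcop heW hVW

end Cfsg.Agent.Lib.BenderOne.NodeA
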