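import Cfsg.Agent.Lib.BenderOne.NodeA.Cover
import Cfsg.Agent.Lib.BenderOne.NodeA.Tools

/-!
# Bender's theorem, part I, node A: step 1, a full subgroup

See `notes/bender_nodeA_helper67.md`, step 1.  Among the violating subgroups `M` and primes `p` with
a `p`-part of the odd core moved by an involution the Sylow subgroup `P` of a two-point stabiliser in
`M` is chosen largest.  Then `P` is Sylow in the whole two-point stabiliser, and the
`p'`-core of that stabiliser, or `Z(J(P))`, has a full normaliser.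

Owner: helper67.
-/

set_option autoImplicit false
set_option linter.style.haveILetI false

namespace Cfsg.Agent.Lib.BenderOne.NodeA

open Subgroup MulAction
open Cfsg.Agent.Lib.Involutions.Basic Cfsg.Agent.Lib.BenderOne20
open Cfsg.Agent.Lib.BenderOne.NoBadProof (core invGen map_core normalizer_le_core not_dvd_card_core
  normalizer_ne_top invGen_le)

universe u v

variable {G : Type u} {Ω : Type v} [Group G] [MulAction G Ω]

/-- An involution normalising `P` moves some element of it. -/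
def Moved (M P : Subgroup G) : Prop :=
  ∃ x ∈ M, orderOf x = 2 ∧ x ∈ normalizer (P : Set G) ∧ ∃ y ∈ P, x * y ≠ y * x

theorem map_pairStab {g : G} {a b c d : Ω} (hc : g • a = c) (hd : g • b = d) :
    (pairStab G a b).map (MulAut.conj g).toMonoidHom = pairStab G c d := by
  rw [Subgroup.map_inf _ _ _ (MulAut.conj g).injective,
    ← stabilizer_smul_eq_stabilizer_map_conj, ← stabilizer_smul_eq_stabilizer_map_conj, hc, hd]

variable [Finite G]

omit [Finite G] in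
theorem oddIn_le_pairStab (hC : Ctx G Ω) {M : Subgroup G} (hM : Big G Ω M) {c d : Ω}
    (hc : c ∈ delta Ω M) (hd : d ∈ delta Ω M) : oddIn M ≤ M ⊓ pairStab G c d :=
  le_inf (oddIn_le M) (le_inf ((hC.shape M hM).fix c hc) ((hC.shape M hM).fix d hd))

variable {p : ℕ} [hp : Fact p.Prime]

omit [MulAction G Ω] in
/-- A Sylow subgroup meets a normal subgroup in a Sylow subgroup. -/
theorem sylowIn_inf {P D K : Subgroup G} (h : SylowIn p P D) (hKD : K ≤ D)
    (hn : D ≤ normalizer (K : Set G)) : SylowIn p (P ⊓ K) K := by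
  obtain ⟨S, hS, hPS⟩ := SylowIn.exists_ge (p := p) (h.isPGroup.to_le inf_le_left)
    (inf_le_right : P ⊓ K ≤ K)
  obtain ⟨R, hR, hSR⟩ := SylowIn.exists_ge hS.isPGroup (hS.1.trans hKD)
  obtain ⟨d, hd, hdP⟩ := hR.conj_eq h
  have hle : S.map (MulAut.conj d).toMonoidHom ≤ P ⊓ K :=
    le_inf (hdP ▸ Subgroup.map_mono hSR) (by
      rintro _ ⟨x, hx, rfl⟩
      exact (Subgroup.mem_normalizer_iff.1 (hn hd) x).1 (hS.1 hx))
  refine ⟨inf_le_right, le_antisymm ?_ ?_⟩
  · exact (Subgroup.card_le_of_le hPS).trans hS.2.le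
  · rw [← hS.2, ← Subgroup.card_map_of_injective (f := (MulAut.conj d).toMonoidHom)
      (MulAut.conj d).injective]
    exact Subgroup.card_le_of_le hle

/-- The data at a maximal choice: a subgroup covering `M` modulo its core which normalises `P₀` and
`Z`, and Sylow subgroups of all two-point stabilisers over `P₀` with centre of `J` equal to `Z`. -/
structure Base (G : Type u) (Ω : Type v) [Group G] [MulAction G Ω] (p : ℕ) (M L P₀ Z : Subgroup G) :
    Prop where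
  big : Big G Ω M
  covers : Covers M L
  isP : IsPGroup p P₀
  le : P₀ ≤ oddIn M
  norm : L ≤ normalizer (P₀ : Set G)
  normZ : L ≤ normalizer (Z : Set G)
  inverted : ∀ t ∈ L, orderOf t = 2 → ∃ j ∈ P₀, j ≠ 1 ∧ t * j * t⁻¹ = j⁻¹
  sylow : ∀ x ∈ delta Ω M, ∀ y ∈ delta Ω M, x ≠ y → ∃ P : Subgroup G,
    SylowIn p P (pairStab G x y) ∧ P₀ ≤ P ∧ P ≤ normalizer (P₀ : Set G) ∧
      (∀ g ∈ P, g ∈ centralizer (P₀ : Set G) → g ∈ P₀) ∧ Cfsg.centerThompsonAOf P = Z

/-- All involutions of a covering subgroup normalising `P₀` move it if one does. -/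
theorem inverted_of_moved (hC : Ctx G Ω) {M L P₀ : Subgroup G} (hM : Big G Ω M)
    (hL : Covers M L) (hLP : L ≤ normalizer (P₀ : Set G)) (hmv : Moved M P₀) :
    ∀ t ∈ L, orderOf t = 2 → ∃ j ∈ P₀, j ≠ 1 ∧ t * j * t⁻¹ = j⁻¹ := by
  intro t htL ht
  obtain ⟨x, hxM, hx, hxP, y, hy, hxy⟩ := hmv
  obtain ⟨a, ha, b, hb, hab⟩ := hM.many
  obtain ⟨s, hs, hsL⟩ := hL.exists_invol hC hM ha
  obtain ⟨r, hr, hrL⟩ := hL.exists_invol hC hM hb
  obtain ⟨g, hg, hgx⟩ := BenderOne67.isConj_of_two_fixed hC.oneFix hab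
    (N := M ⊓ normalizer (P₀ : Set G)) hs ⟨hL.le hsL, hLP hsL⟩ hr ⟨hL.le hrL, hLP hrL⟩ hx
    ⟨hxM, hxP⟩ ht ⟨hL.le htL, hLP htL⟩
  refine exists_inverted_of_moved ht (hLP htL)
    ⟨g * y * g⁻¹, (Subgroup.mem_normalizer_iff.1 hg.2 y).1 hy, fun h => hxy ?_⟩
  rw [← hgx, show g * x * g⁻¹ * (g * y * g⁻¹) = g * (x * y) * g⁻¹ by group,
    show g * y * g⁻¹ * (g * x * g⁻¹) = g * (y * x) * g⁻¹ by group] at h
  exact mul_left_cancel (mul_right_cancel h)

/-- An element of `M_c` centralising `P₀` lies in the core. -/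
theorem mem_oddIn_of_centralizer (hC : Ctx G Ω) {M L P₀ : Subgroup G} (hM : Big G Ω M)
    (hL : Covers M L) (hP₀ : P₀ ≤ oddIn M) (hLP : L ≤ normalizer (P₀ : Set G))
    (hinv : ∀ t ∈ L, orderOf t = 2 → ∃ j ∈ P₀, j ≠ 1 ∧ t * j * t⁻¹ = j⁻¹) {c : Ω}
    (hc : c ∈ delta Ω M) {g : G} (hgM : g ∈ M) (hgc : g • c = c)
    (hg : g ∈ centralizer (P₀ : Set G)) : g ∈ oddIn M := by
  obtain ⟨a, ha, b, hb, hab⟩ := hM.many
  obtain ⟨s, hs, hsL⟩ := hL.exists_invol hC hM ha
  obtain ⟨r, hr, hrL⟩ := hL.exists_invol hC hM hb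
  -- the centraliser has odd order
  set C := M ⊓ centralizer (P₀ : Set G) with hCdef
  have hodd : Odd (Nat.card C) := by
    refine (odd_card_iff_no_invol _).2 fun x hx hx2 => ?_
    obtain ⟨k, hk, hks⟩ := BenderOne67.isConj_of_two_fixed hC.oneFix hab
      (N := M ⊓ normalizer (P₀ : Set G)) hs ⟨hL.le hsL, hLP hsL⟩ hr ⟨hL.le hrL, hLP hrL⟩ hx2
      ⟨hx.1, centralizer_le_normalizer _ hx.2⟩ hs.1 ⟨hL.le hsL, hLP hsL⟩
    obtain ⟨j, hj, hj1, hjs⟩ := hinv s hsL hs.1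
    refine hj1 (eq_one_of_inverted_commute (v := s) (odd_orderOf_of_mem (hP₀ hj)) hjs ?_)
    have h1 := Subgroup.mem_centralizer_iff.1 hx.2 _ ((Subgroup.mem_normalizer_iff''.1 hk.2 j).1 hj)
    rw [← hks]
    calc k * x * k⁻¹ * j = k * (x * (k⁻¹ * j * k)) * k⁻¹ := by group
      _ = k * (k⁻¹ * j * k * x) * k⁻¹ := by rw [h1]
      _ = j * (k * x * k⁻¹) := by group
  set X := (C ⊓ stabilizer G c) ⊔ oddIn M with hX
  have hCn : C ⊓ stabilizer G c ≤ normalizer (oddIn M : Set G) :=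
    (inf_le_left.trans inf_le_left).trans (le_normalizer_oddIn M)
  have hXodd : Odd (Nat.card X) := by
    refine Odd.of_dvd_nat ((hodd.of_dvd_nat (card_dvd_of_le inf_le_left)).mul (odd_oddIn_cover M))
      (Dvd.intro _ (OffenderComp.Aux.card_sup_inf hCn))
  have hXM : X ≤ M ⊓ stabilizer G c :=
    sup_le (inf_le_inf_right _ inf_le_left) (le_inf (oddIn_le M) ((hC.shape M hM).fix c hc))
  refine (hC.shape M hM).odd_normal c hc X hXM hXodd ?_ (mem_sup_left ⟨⟨hgM, hg⟩, hgc⟩)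
  intro m hm
  obtain ⟨k, hk, hkm⟩ := hL.cover m hm.1
  have hl : k * m ∈ normalizer (X : Set G) := by
    have hc' : (k * m) ∈ stabilizer G c :=
      mul_mem ((hC.shape M hM).fix c hc hk) hm.2
    have h1 : k * m ∈ normalizer ((C ⊓ stabilizer G c : Subgroup G) : Set G) := by
      have hlM := hL.le hkm
      have hlN := hLP hkm
      have key : ∀ l : G, l ∈ M → l ∈ normalizer (P₀ : Set G) → l • c = c →
          ∀ y ∈ C ⊓ stabilizer G c, l * y * l⁻¹ ∈ C ⊓ stabilizer G c := by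
        intro l hlM hlN hlc y hy
        refine ⟨⟨M.mul_mem (M.mul_mem hlM hy.1.1) (M.inv_mem hlM), Subgroup.mem_centralizer_iff.2
          fun q hq => ?_⟩,
          (stabilizer G c).mul_mem ((stabilizer G c).mul_mem hlc hy.2) ((stabilizer G c).inv_mem hlc)⟩
        have h2 := Subgroup.mem_centralizer_iff.1 hy.1.2 _
          ((Subgroup.mem_normalizer_iff''.1 hlN q).1 hq)
        calc q * (l * y * l⁻¹) = l * (l⁻¹ * q * l * y) * l⁻¹ := by group
          _ = l * (y * (l⁻¹ * q * l)) * l⁻¹ := by rw [h2]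
          _ = l * y * l⁻¹ * q := by group
      refine Subgroup.mem_normalizer_iff.2 fun y => ⟨key _ hlM hlN hc' y, fun hy => ?_⟩
      have := key _ (inv_mem hlM) (inv_mem hlN) ((stabilizer G c).inv_mem hc') _ hy
      simpa [mul_assoc] using this
    rw [Subgroup.mem_normalizer_iff_map_conj_eq] at h1 ⊢
    rw [hX, Subgroup.map_sup, h1,
      Subgroup.mem_normalizer_iff_map_conj_eq.1 (le_normalizer_oddIn M (hL.le hkm))]
  have := mul_mem (inv_mem ((le_sup_right : oddIn M ≤ X).trans le_normalizer hk)) hl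
  rwa [inv_mul_cancel_left] at this

/-- Step 1a: a violating subgroup with a largest Sylow part. -/
theorem exists_max (hC : Ctx G Ω) {M : Subgroup G} (hM : Viol G Ω M) :
    ∃ (N : Subgroup G) (q : ℕ) (P : Subgroup G) (c d : Ω), q.Prime ∧ Viol G Ω N ∧
      c ∈ delta Ω N ∧ d ∈ delta Ω N ∧ c ≠ d ∧ SylowIn q P (N ⊓ pairStab G c d) ∧
      Moved N (P ⊓ oddIn N) ∧
      ∀ (N' : Subgroup G) (P' : Subgroup G) (c' d' : Ω), Viol G Ω N' → c' ∈ delta Ω N' →
        d' ∈ delta Ω N' → c' ≠ d' → SylowIn q P' (N' ⊓ pairStab G c' d') →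
        Moved N' (P' ⊓ oddIn N') → Nat.card P' ≤ Nat.card P := by
  set S : Set (Subgroup G × Subgroup G) := {z | ∃ (q : ℕ) (c d : Ω), q.Prime ∧ Viol G Ω z.1 ∧
    c ∈ delta Ω z.1 ∧ d ∈ delta Ω z.1 ∧ c ≠ d ∧ SylowIn q z.2 (z.1 ⊓ pairStab G c d) ∧
    Moved z.1 (z.2 ⊓ oddIn z.1)}
  have hne : S.Nonempty := by
    obtain ⟨x, hxM, hx, y, hy, hxy⟩ := hM.bad
    obtain ⟨c, hc⟩ := hC.oneFix.exists_fix hx
    have hxK : zpowers x ≤ normalizer (oddIn M : Set G) :=
      zpowers_le.2 (le_normalizer_oddIn M hxM)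
    obtain ⟨q, hq, T, hT, hxT, hTc⟩ : ∃ q : ℕ, q.Prime ∧ ∃ T : Subgroup G,
        SylowIn q T (oddIn M) ∧ x ∈ normalizer (T : Set G) ∧ ∃ z ∈ T, x * z ≠ z * x := by
      by_contra hall
      push Not at hall
      have hle : oddIn M ≤ oddIn M ⊓ centralizer {x} := by
        refine le_of_eq (Subgroup.eq_of_le_of_card_ge inf_le_left ?_).symm
        refine Nat.le_of_dvd Nat.card_pos ?_
        rw [← Nat.factorization_le_iff_dvd Nat.card_pos.ne' Nat.card_pos.ne']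
        intro q
        by_cases hq : q.Prime
        · haveI := Fact.mk hq
          obtain ⟨T, hT, -, hxT⟩ := BenderOne.LocalTools.exists_invariant (p := q) hx
            (le_normalizer_oddIn M hxM) (odd_oddIn_cover M) (bot_le : (⊥ : Subgroup G) ≤ _)
            IsPGroup.of_bot (by rw [Subgroup.mem_normalizer_iff]; simp)
          have hTx : T ≤ oddIn M ⊓ centralizer {x} := le_inf hT.1 fun z hz =>
            Subgroup.mem_centralizer_singleton_iff.2 (hall q hq T hT hxT z hz).symm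
          have hd := card_dvd_of_le hTx
          rw [hT.2] at hd
          exact (hq.pow_dvd_iff_le_factorization Nat.card_pos.ne').1 hd
        · rw [Nat.factorization_eq_zero_of_not_prime _ hq]; exact Nat.zero_le _
      exact hxy (Subgroup.mem_centralizer_singleton_iff.1 (hle hy).2).symm
    haveI := Fact.mk hq
    have hcd : c ∈ delta Ω M := ⟨x, ⟨hx, hc⟩, hxM⟩
    obtain ⟨d, hd, hne⟩ : ∃ d ∈ delta Ω M, c ≠ d := by
      obtain ⟨a, ha, b, hb, hab⟩ := hM.many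
      by_cases h : c = a
      · exact ⟨b, hb, fun h' => hab (h.symm.trans h')⟩
      · exact ⟨a, ha, h⟩
    obtain ⟨P, hP, hTP⟩ := SylowIn.exists_ge hT.isPGroup
      (hT.1.trans (oddIn_le_pairStab hC hM.toBig hcd hd))
    refine ⟨(M, P), q, c, d, hq, hM, hcd, hd, hne, hP, ?_⟩
    have : P ⊓ oddIn M = T :=
      hT.eq_of_le (le_inf hTP hT.1) inf_le_right (hP.isPGroup.to_le inf_le_left)
    exact ⟨x, hxM, hx, this ▸ hxT, this ▸ hTc⟩
  obtain ⟨⟨N, P⟩, ⟨q, c, d, hq, hN, hc, hd, hcd, hP, hmv⟩, hmax⟩ :=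
    Set.exists_max_image S (fun z => Nat.card z.2) (Set.toFinite _) hne
  exact ⟨N, q, P, c, d, hq, hN, hc, hd, hcd, hP, hmv,
    fun N' P' c' d' h1 h2 h3 h4 h5 h6 => hmax (N', P') ⟨q, c', d', hq, h1, h2, h3, h4, h5, h6⟩⟩

/-- Step 1b: at the largest choice the Sylow subgroups are those of the two-point stabilisers. -/
theorem exists_base (hC : Ctx G Ω) (hZJ : PropZJ G Ω) {M : Subgroup G} {P : Subgroup G} {c d : Ω}
    (hM : Viol G Ω M) (hc : c ∈ delta Ω M) (hd : d ∈ delta Ω M) (hcd : c ≠ d)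
    (hP : SylowIn p P (M ⊓ pairStab G c d)) (hmv : Moved M (P ⊓ oddIn M))
    (hmax : ∀ (N' : Subgroup G) (P' : Subgroup G) (c' d' : Ω), Viol G Ω N' → c' ∈ delta Ω N' →
      d' ∈ delta Ω N' → c' ≠ d' → SylowIn p P' (N' ⊓ pairStab G c' d') →
      Moved N' (P' ⊓ oddIn N') → Nat.card P' ≤ Nat.card P) :
    p ≠ 2 ∧ ∃ L Z : Subgroup G, Z ≠ ⊥ ∧ Z ≤ stabilizer G c ∧
      Base G Ω p M L (P ⊓ oddIn M) Z := by
  haveI := hC.simple
  have hM' := hM.toBig
  set K := oddIn M with hK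
  set P₀ := P ⊓ K with hP₀
  set Z := Cfsg.centerThompsonAOf P with hZdef
  have hKD : K ≤ M ⊓ pairStab G c d := oddIn_le_pairStab hC hM' hc hd
  have hP₀S : SylowIn p P₀ K := sylowIn_inf hP hKD (inf_le_left.trans (le_normalizer_oddIn M))
  have hPne : P ≠ ⊥ := by
    obtain ⟨x, -, -, -, y, hy, hxy⟩ := hmv
    intro h
    have : y = 1 := Subgroup.mem_bot.1 (h.le hy.1)
    exact hxy (by rw [this, mul_one, one_mul])
  have hp2 : p ≠ 2 := by
    refine BenderOne.LocalTools.ne_two_of_dvd ((hC.oneFix.odd_pairStab hcd).of_dvd_nat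
      (card_dvd_of_le (hP.1.trans inf_le_right))) ?_
    obtain ⟨n, hn, hn'⟩ := hP.isPGroup.nontrivial_iff_card.1
      ((Subgroup.nontrivial_iff_ne_bot P).2 hPne)
    exact hn' ▸ dvd_pow_self p hn.ne'
  have hZc : Z ≤ stabilizer G c :=
    (ZJ.centerThompsonAOf_le P).trans (hP.1.trans (inf_le_right.trans inf_le_left))
  have hZne : Z ≠ ⊥ := BenderOne.LocalTools.zj_ne_bot hP.isPGroup hPne
  have hPM : P ≤ M := hP.1.trans inf_le_left
  have hPZ : P ≤ normalizer (Z : Set G) :=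
    le_normalizer.trans (ZJ.normalizer_le_normalizer_centerThompsonA P)
  -- the covering subgroup
  set N := M ⊓ normalizer (Z : Set G) with hN
  set L := N ⊓ normalizer (P₀ : Set G) with hL
  have hcov : Covers M L := by
    refine ⟨inf_le_left.trans inf_le_left, fun m hm => ?_⟩
    have hst : core p K ⊔ N = M := hZJ M p P c d hp.out hM hc hd hcd hP hmv
    have hNn : N ≤ normalizer (core p K : Set G) :=
      (inf_le_left.trans (le_normalizer_oddIn M)).trans (normalizer_le_core p K)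
    rw [← hst, ← SetLike.mem_coe, Subgroup.coe_mul_of_right_le_normalizer_left _ _ hNn,
      Set.mem_mul] at hm
    obtain ⟨k, hk, n, hn, rfl⟩ := hm
    have hkK : k ∈ K := (Subgroup.map_subtype_le _) hk
    -- Frattini
    have hP₀KN : P₀ ≤ K ⊓ N := le_inf inf_le_right (le_inf (inf_le_left.trans hPM)
      (inf_le_left.trans hPZ))
    have hS : SylowIn p P₀ (K ⊓ N) := by
      obtain ⟨R, hR, hPR⟩ := SylowIn.exists_ge hP₀S.isPGroup hP₀KN
      rwa [hP₀S.eq_of_le hPR (hR.1.trans inf_le_left) hR.isPGroup] at hR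
    have hmapKN : (K ⊓ N).map (MulAut.conj n).toMonoidHom = K ⊓ N := by
      have hKn : K.map (MulAut.conj n).toMonoidHom = K :=
        Subgroup.mem_normalizer_iff_map_conj_eq.1 (le_normalizer_oddIn M hn.1)
      rw [Subgroup.map_inf _ _ _ (MulAut.conj n).injective, hKn]
      exact congrArg (K ⊓ ·) (Subgroup.mem_normalizer_iff_map_conj_eq.1 (le_normalizer (H := N) hn))
    have hS' := hS.map_conj n
    rw [hmapKN] at hS'
    obtain ⟨e, he, he'⟩ := hS'.conj_eq hS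
    refine ⟨e * k⁻¹, mul_mem he.1 (inv_mem hkK), ?_⟩
    rw [show e * k⁻¹ * (k * n) = e * n by group]
    refine ⟨mul_mem he.2 hn, ?_⟩
    show e * n ∈ normalizer (P₀ : Set G)
    rw [Subgroup.mem_normalizer_iff_map_conj_eq]
    refine Eq.trans ?_ he'
    rw [Subgroup.map_map]
    congr 1
    ext z
    simp [mul_assoc]
  have hinv := inverted_of_moved hC hM' hcov (inf_le_right : L ≤ normalizer (P₀ : Set G)) hmv
  -- a maximal subgroup over the normaliser of `Z`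
  obtain ⟨M₁, hM₁, hle⟩ := (eq_top_or_exists_le_coatom (normalizer (Z : Set G))).resolve_left
    (normalizer_ne_top hC.oneFix hZne hZc)
  have hLM₁ : L ≤ M₁ := (inf_le_left.trans inf_le_right).trans hle
  obtain ⟨t, ht, htL⟩ := hcov.exists_invol hC hM' hc
  obtain ⟨r, hr, hrL⟩ := hcov.exists_invol hC hM' hd
  obtain ⟨e, he, heL, hte, hcom⟩ := hcov.exists_partner hC hM' ht htL
  have hM₁big : Big G Ω M₁ :=
    ⟨hM₁.1, ⟨t, hLM₁ htL, e, hLM₁ heL, ht.1, he.1, hte, hcom⟩,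
      c, ⟨t, ht, hLM₁ htL⟩, d, ⟨r, hr, hLM₁ hrL⟩, hcd⟩
  obtain ⟨j, hj, hj1, hjinv⟩ := hinv t htL ht.1
  have hjM₁ : j ∈ M₁ := hle (hPZ hj.1)
  have hjc : j • c = c := (hKD hj.2).2.1
  have hjodd : Odd (orderOf j) := odd_orderOf_of_mem hj.2
  have hM₁v : Viol G Ω M₁ :=
    viol_of_inverted hC hM₁big ht (hLM₁ htL) hjM₁ hjc hjodd hj1 hjinv
  have hjK₁ : j ∈ oddIn M₁ :=
    (hC.shape M₁ hM₁big).inverted c t j ht (hLM₁ htL) hjM₁ hjc hjodd hjinv
  have hc₁ : c ∈ delta Ω M₁ := ⟨t, ht, hLM₁ htL⟩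
  have hd₁ : d ∈ delta Ω M₁ := ⟨r, hr, hLM₁ hrL⟩
  have hP₁ : P ≤ M₁ ⊓ pairStab G c d :=
    le_inf (hPZ.trans hle) (hP.1.trans inf_le_right)
  obtain ⟨R, hR, hPR⟩ := SylowIn.exists_ge hP.isPGroup hP₁
  have hmv₁ : Moved M₁ (R ⊓ oddIn M₁) := by
    have htj : t ∈ normalizer (zpowers j : Set G) := by
      rw [Subgroup.mem_normalizer_iff_map_conj_eq, MonoidHom.map_zpowers]
      show Subgroup.zpowers (t * j * t⁻¹) = Subgroup.zpowers j
      rw [hjinv, Subgroup.zpowers_inv]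
    obtain ⟨T, hT, hjT, htT⟩ := BenderOne.LocalTools.exists_invariant (p := p) ht.1
      (le_normalizer_oddIn M₁ (hLM₁ htL)) (odd_oddIn_cover M₁) (zpowers_le.2 hjK₁)
      (hP.isPGroup.to_le (zpowers_le.2 hj.1)) htj
    have hR₀ : SylowIn p (R ⊓ oddIn M₁) (oddIn M₁) := sylowIn_inf hR
      (oddIn_le_pairStab hC hM₁big hc₁ hd₁) (inf_le_left.trans (le_normalizer_oddIn M₁))
    obtain ⟨k, hk, hkT⟩ := hT.conj_eq hR₀
    refine ⟨k * t * k⁻¹, mul_mem (mul_mem (oddIn_le M₁ hk) (hLM₁ htL))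
      (inv_mem (oddIn_le M₁ hk)), (orderOf_conj_eq k t).trans ht.1, ?_, k * j * k⁻¹,
      hkT ▸ ⟨j, hjT (mem_zpowers j), rfl⟩, fun h => hj1 (eq_one_of_inverted_commute hjodd hjinv ?_)⟩
    · rw [← hkT, ← map_normalizer_eq_of_bijective _ (MulAut.conj k).bijective]
      exact ⟨t, htT, rfl⟩
    · rw [show k * t * k⁻¹ * (k * j * k⁻¹) = k * (t * j) * k⁻¹ by group,
        show k * j * k⁻¹ * (k * t * k⁻¹) = k * (j * t) * k⁻¹ by group] at h
      exact mul_left_cancel (mul_right_cancel h)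
  have hRP : R = P := (Subgroup.eq_of_le_of_card_ge hPR
    (hmax M₁ R c d hM₁v hc₁ hd₁ hcd hR hmv₁)).symm
  rw [hRP] at hR
  have hPD : SylowIn p P (pairStab G c d) :=
    SylowIn.of_normalizer (hP.1.trans inf_le_right) hR fun g hg =>
      ⟨hle (ZJ.normalizer_le_normalizer_centerThompsonA P hg.2), hg.1⟩
  have hcent : ∀ g ∈ P, g ∈ centralizer (P₀ : Set G) → g ∈ P₀ := fun g hg hgc =>
    ⟨hg, mem_oddIn_of_centralizer hC hM' hcov inf_le_right inf_le_right hinv hc (hPM hg)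
      (hP.1 hg).2.1 hgc⟩
  have hPn : P ≤ normalizer (P₀ : Set G) :=
    (le_inf le_normalizer (hPM.trans (le_normalizer_oddIn M))).trans
      inf_normalizer_le_normalizer_inf
  refine ⟨hp2, L, Z, hZne, hZc, hM', hcov, hP₀S.isPGroup, inf_le_right, inf_le_right,
    inf_le_left.trans inf_le_right, hinv, fun x hx y hy hxy => ?_⟩
  obtain ⟨g, hg, hgc, hgd⟩ := hcov.two_trans hC hM' hc hd hx hy hcd hxy
  have hgP₀ : P₀.map (MulAut.conj g).toMonoidHom = P₀ :=
    Subgroup.mem_normalizer_iff_map_conj_eq.1 hg.2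
  refine ⟨P.map (MulAut.conj g).toMonoidHom, map_pairStab hgc hgd ▸ hPD.map_conj g,
    hgP₀.ge.trans (Subgroup.map_mono inf_le_left), ?_, ?_, ?_⟩
  · rintro _ ⟨z, hz, rfl⟩
    exact mul_mem (mul_mem hg.2 (hPn hz)) (inv_mem hg.2)
  · rintro _ ⟨z, hz, rfl⟩ hzc
    have hzc' : z ∈ centralizer (P₀ : Set G) := by
      rw [Subgroup.mem_centralizer_iff] at hzc ⊢
      intro y hy
      refine (MulAut.conj g).injective ?_
      rw [map_mul, map_mul]
      exact hzc _ ((Subgroup.mem_normalizer_iff.1 hg.2 y).1 hy)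
    exact hgP₀.le ⟨z, hcent z hz hzc', rfl⟩
  · rw [← ZJ.map_centerThompsonAOf _ (MulAut.conj g).injective]
    exact Subgroup.mem_normalizer_iff_map_conj_eq.1 hg.1.2

/-- The `p'`-core of a two-point stabiliser is that of the triangle's other stabiliser. -/
theorem Base.core_eq (hC : Ctx G Ω) (hF : PropChainFix G Ω) (hp2 : p ≠ 2) {M L P₀ Z : Subgroup G}
    (hB : Base G Ω p M L P₀ Z) {x y z : Ω} (hx : x ∈ delta Ω M) (hy : y ∈ delta Ω M) (hxy : x ≠ y)
    {v : G} (hv : v ∈ L) (hvs : v ∈ swapSet G x y) (hvz : v • z = z) :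
    core p (pairStab G x y) = core p (pairStab G z x) := by
  have hM := hB.big
  have hz : z ∈ delta Ω M := ⟨v, ⟨hvs.1, hvz⟩, hB.covers.le hv⟩
  have hzx : z ≠ x := fun h => hxy ((h ▸ hvz).symm.trans hvs.2)
  set W := core p (pairStab G x y) with hW
  have hWD : W ≤ pairStab G x y := Subgroup.map_subtype_le _
  have hfix : ∀ w ∈ delta Ω M, P₀ ≤ stabilizer G w := fun w hw =>
    hB.le.trans ((hC.shape M hM).fix w hw)
  have hP₀W : P₀ ≤ normalizer (W : Set G) :=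
    (le_inf (hfix x hx) (hfix y hy)).trans (le_normalizer.trans (normalizer_le_core p _))
  have hWz : W ≤ stabilizer G z := by
    obtain ⟨e, he, heL, hve, hcom⟩ := hB.covers.exists_partner hC hM ⟨hvs.1, hvz⟩ hv
    obtain ⟨j, hj, hj1, hjinv⟩ := hB.inverted v hv hvs.1
    have hVne : invGen P₀ v ≠ ⊥ := fun h => hj1 (by
      have := NoBadProof.mem_invGen hj hjinv
      rwa [h, Subgroup.mem_bot] at this)
    refine hF z p (invGen P₀ v) W v e hp.out hp2 (hB.isP.to_le (invGen_le P₀ v)) hVne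
      ((invGen_le P₀ v).trans (hfix z hz)) ⟨hvs.1, hvz⟩ he hve hcom
      (NoBadProof.invGen_normalizer hvs.1)
      (BenderOne67.invGen_normalizer_of_commute (hB.norm heL) hcom) ?_
      ((hC.oneFix.odd_pairStab hxy).of_dvd_nat (card_dvd_of_le hWD)) (not_dvd_card_core p _)
      (normalizer_le_core p _
        (BenderOne8.zpowers_le_normalizer_pairStab hvs (Subgroup.mem_zpowers v)))
      ((invGen_le P₀ v).trans hP₀W)
    refine le_antisymm (invGen_le _ _) ((Subgroup.closure_le _).2 fun w hw => ?_)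
    exact NoBadProof.mem_invGen (NoBadProof.mem_invGen hw.1 hw.2) hw.2
  obtain ⟨P, hP, hle, hn, hcent, -⟩ := hB.sylow z hz x hx hzx
  obtain ⟨m, hm, hmx, hmy⟩ := hB.covers.two_trans hC hM hx hy hz hx hxy hzx
  refine Subgroup.eq_of_le_of_card_ge (BenderOne67.le_coreIn_of_normal
    (hC.oneFix.odd_pairStab hzx) hp2 hP hle hn hcent (le_inf hWz (hWD.trans inf_le_left))
    (not_dvd_card_core p _) hP₀W) ?_
  rw [← map_pairStab hmx hmy, ← map_core,
    Subgroup.card_map_of_injective (MulAut.conj m).injective]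

omit [Finite G] in
/-- A proper subgroup with two points in `Δ` whose stabiliser it contains gives a full one. -/
theorem full_of_pair [Finite G] (hC : Ctx G Ω) {N : Subgroup G} (hN : N ≠ ⊤) {x y : Ω}
    (hxy : x ≠ y) (hx : x ∈ delta Ω N) (hy : y ∈ delta Ω N) (hle : pairStab G x y ≤ N) {c : Ω}
    {v j : G} (hv : v ∈ invAt G c) (hvN : v ∈ N) (hj : j ∈ N) (hjc : j • c = c)
    (hodd : Odd (orderOf j)) (hj1 : j ≠ 1) (hinv : v * j * v⁻¹ = j⁻¹) :
    ∃ M' : Subgroup G, Full G Ω M' := by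
  obtain ⟨M', hM', hNM⟩ := (eq_top_or_exists_le_coatom N).resolve_left hN
  obtain ⟨t, ht, htN⟩ := hx
  obtain ⟨r, hr, hrN⟩ := hy
  obtain ⟨a, -, b, -, ha, hb, hne, hcom⟩ := hC.four
  obtain ⟨s₁, hs₁, s₂, hs₂, hs, hs'⟩ := Triangle.four_at hC.oneFix ⟨a, b, ha, hb, hne, hcom⟩ x
  have hsub : ∀ s ∈ invAt G x, s ∈ M' := fun s hs => by
    obtain ⟨g, hg, rfl⟩ := hC.oneFix.pairStab_conj_invAt hxy ht hs
    exact mul_mem (mul_mem (hNM (hle hg)) (hNM htN)) (inv_mem (hNM (hle hg)))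
  have hbig : Big G Ω M' := ⟨hM'.1, ⟨s₁, hsub _ hs₁, s₂, hsub _ hs₂, hs₁.1, hs₂.1, hs, hs'⟩,
    x, ⟨t, ht, hNM htN⟩, y, ⟨r, hr, hNM hrN⟩, hxy⟩
  refine ⟨M', viol_of_inverted hC hbig hv (hNM hvN) (hNM hj) hjc hodd hj1 hinv, hM',
    fun c' hc' d' hd' hne' => ?_⟩
  obtain ⟨g, hg, hgx, hgy⟩ := (hC.shape M' hbig).two_trans x ⟨t, ht, hNM htN⟩ y
    ⟨r, hr, hNM hrN⟩ c' hc' d' hd' hxy hne'
  rw [← map_pairStab hgx hgy]
  rintro _ ⟨z, hz, rfl⟩
  exact mul_mem (mul_mem hg (hNM (hle hz))) (inv_mem hg)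

/-- Step 1c. -/
theorem Base.exists_full (hC : Ctx G Ω) (hF : PropChainFix G Ω) (hp2 : p ≠ 2)
    {M L P₀ Z : Subgroup G} (hB : Base G Ω p M L P₀ Z) {c d : Ω} (hc : c ∈ delta Ω M)
    (hd : d ∈ delta Ω M) (hcd : c ≠ d) (hZne : Z ≠ ⊥) (hZc : Z ≤ stabilizer G c) :
    ∃ M' : Subgroup G, Full G Ω M' := by
  haveI := hC.simple
  have hM := hB.big
  -- a swapper
  obtain ⟨g, hg, hgc, hgd⟩ := hB.covers.two_trans hC hM hc hd hd hc hcd hcd.symm
  have hgD : g ∉ pairStab G c d := fun h => hcd (h.1.symm.trans hgc)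
  have hg2 : g * g ∈ pairStab G c d :=
    ⟨show (g * g) • c = c by rw [mul_smul, hgc, hgd], show (g * g) • d = d by rw [mul_smul, hgd, hgc]⟩
  obtain ⟨i, ⟨i', rfl⟩, hi⟩ := exists_invol_pow (hC.oneFix.odd_pairStab hcd) hgD hg2
  set v := g ^ (2 * i' + 1) with hvdef
  have hvL : v ∈ L := pow_mem hg _
  have hvs : v ∈ swapSet G c d := by
    refine ⟨hi, ?_⟩
    have h1 : (g * g) ^ i' ∈ pairStab G c d := pow_mem hg2 i'
    rw [hvdef, pow_succ, pow_mul, pow_two, mul_smul, hgc]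
    exact h1.2
  obtain ⟨z, hvz⟩ := hC.oneFix.exists_fix hi
  obtain ⟨j, hj, hj1, hjinv⟩ := hB.inverted v hvL hi
  have hjodd : Odd (orderOf j) := odd_orderOf_of_mem (hB.le hj)
  have hz : z ∈ delta Ω M := ⟨v, ⟨hi, hvz⟩, hB.covers.le hvL⟩
  have hjfix : ∀ w ∈ delta Ω M, j • w = w := fun w hw => (hC.shape M hM).fix w hw (hB.le hj)
  by_cases hW : core p (pairStab G c d) = ⊥
  · obtain ⟨P, hP, -, -, -, hPZ⟩ := hB.sylow c hc d hd hcd
    have hle : pairStab G c d ≤ normalizer (Z : Set G) :=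
      hPZ ▸ BenderOne.LocalTools.le_normalizer_zj (hC.oneFix.odd_pairStab hcd) hp2 hP hW
    obtain ⟨t, ht, htL⟩ := hB.covers.exists_invol hC hM hc
    obtain ⟨r, hr, hrL⟩ := hB.covers.exists_invol hC hM hd
    exact full_of_pair hC (normalizer_ne_top hC.oneFix hZne hZc) hcd ⟨t, ht, hB.normZ htL⟩
      ⟨r, hr, hB.normZ hrL⟩ hle ⟨hi, hvz⟩ (hB.normZ hvL) (hle ⟨hjfix c hc, hjfix d hd⟩)
      (hjfix z hz) hjodd hj1 hjinv
  · set W := core p (pairStab G c d) with hWdef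
    have hzc : z ≠ c := fun h => hcd ((h ▸ hvz).symm.trans hvs.2)
    have heq : W = core p (pairStab G z c) := hB.core_eq hC hF hp2 hc hd hcd hvL hvs hvz
    have hvW : v ∈ normalizer (W : Set G) := normalizer_le_core p _
      (BenderOne8.zpowers_le_normalizer_pairStab hvs (Subgroup.mem_zpowers v))
    obtain ⟨e, he, heL⟩ := hB.covers.exists_invol hC hM hc
    have hez : e • z ≠ z := fun h => hzc (hC.oneFix.eq_of_fix he.1 h he.2)
    have hes : e ∈ swapSet G z (e • z) := ⟨he.1, rfl⟩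
    have heq' : core p (pairStab G z (e • z)) = core p (pairStab G c z) :=
      hB.core_eq hC hF hp2 hz ((hC.shape M hM).smul_mem e (hB.covers.le heL) z hz) hez.symm heL hes
        he.2
    have heW : e ∈ normalizer (W : Set G) := by
      have hswap : pairStab G z c = pairStab G c z := inf_comm _ _
      rw [heq, hswap, ← heq']
      exact normalizer_le_core p _
        (BenderOne8.zpowers_le_normalizer_pairStab hes (Subgroup.mem_zpowers e))
    have hle : pairStab G z c ≤ normalizer (W : Set G) :=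
      heq ▸ le_normalizer.trans (normalizer_le_core p _)
    exact full_of_pair hC
      (normalizer_ne_top hC.oneFix hW ((Subgroup.map_subtype_le _).trans inf_le_left))
      hzc ⟨v, ⟨hi, hvz⟩, hvW⟩ ⟨e, he, heW⟩ hle ⟨hi, hvz⟩ hvW (hle ⟨hjfix z hz, hjfix c hc⟩)
      (hjfix z hz) hjodd hj1 hjinv

omit hp in
/-- Step 1. -/
theorem propFull (hC : Ctx G Ω) (_hL : PropNormFix G Ω) (hF : PropChainFix G Ω)
    (hZJ : PropZJ G Ω) : PropFull G Ω := by
  intro M hM
  obtain ⟨N, q, P, c, d, hq, hN, hc, hd, hcd, hP, hmv, hmax⟩ := exists_max (G := G) hC hM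
  haveI := Fact.mk hq
  obtain ⟨hq2, L, Z, hZne, hZc, hB⟩ := exists_base hC hZJ hN hc hd hcd hP hmv hmax
  exact hB.exists_full hC hF hq2 hc hd hcd hZne hZc

end Cfsg.Agent.Lib.BenderOne.NodeA
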