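import Cfsg.Agent.Lib.BenderOne.NodeA.Endgame
import Cfsg.Agent.Lib.BenderOne.NodeA.Full
import Cfsg.Agent.Lib.BenderOne.NodeA.Shape
import Cfsg.Agent.Lib.BenderOne.NodeA.Stab

/-!
# Bender's theorem, part I, node A: assembly

An involution which does not centralise the odd core moves `O_p` of the subgroup for some prime, so
a full subgroup with an active prime exists, which the endgame excludes.
-/

set_option autoImplicit false
set_option linter.style.haveILetI false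

namespace Cfsg.Agent.Lib.BenderOne.NodeA

open Subgroup MulAction
open Cfsg.Agent.Lib.BenderOne20 Cfsg.Agent.Lib.Involutions.Basic

universe u v

theorem propStab : PropStab.{u} := by
  intro Γ _ _ p _ hp hfour hcomm hconj V hV hVp hodd x hq
  exact Stab.stab hp ⟨hfour, hcomm, hconj⟩ hV hVp hodd hq

theorem propQuat : PropQuat.{v, u} := by
  intro p _ hp V _ _ _ Γ _ _ σ hσ x hx hcore
  obtain ⟨f, hf, g, hg, h1, h2, h3, -⟩ := Quaternion.exists_quaternion hp σ hσ hx hcore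
  exact ⟨f, hf, g, hg, h1, h2, h3⟩

variable {G : Type u} [Group G] [Finite G]

/-- An involution centralising every `O_p(M)` centralises the odd core. -/
theorem commute_oddIn {M : Subgroup G} {x : G} (hxM : x ∈ M) (hx : orderOf x = 2)
    (h : ∀ p : ℕ, p.Prime → ∀ y ∈ pCoreIn p M, x * y = y * x) {k : G} (hk : k ∈ oddIn M) :
    x * k = k * x := by
  obtain ⟨k', hk', rfl⟩ := hk
  set O := Cfsg.oddCore ↥M with hO
  haveI : Group.IsSolvable ↥O := LocalTools.isSolvable_odd BenderOne20.oddCore_odd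
  set x' : M := ⟨x, hxM⟩ with hx'
  have hxx : x' * x' = 1 := Subtype.ext (invol_mul_self hx)
  have hxi : x'⁻¹ = x' := inv_eq_of_mul_eq_one_right hxx
  have hcent : ∀ f ∈ (Cfsg.fittingSubgroup ↥O), x' * (f : M) = (f : M) * x' := by
    intro f hf
    have hle : (Cfsg.fittingSubgroup ↥O).map O.subtype ≤ centralizer ({x'} : Set M) := by
      rw [Cores.fittingSubgroup_eq_iSup_pCore, Subgroup.map_iSup]
      refine iSup_le fun p => ?_
      rw [Cores.map_subtype_pCore]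
      intro y hy
      rw [mem_centralizer_singleton_iff]
      exact Subtype.ext (h p p.2 _ ⟨y, hy.2, rfl⟩).symm
    exact (mem_centralizer_singleton_iff.1 (hle ⟨f, hf, rfl⟩)).symm
  have hkn : ∀ z ∈ O, x' * z * x'⁻¹ ∈ O := fun z hz =>
    (inferInstance : O.Normal).conj_mem z hz x'
  set z : ↥O := ⟨k' * (x' * k'⁻¹ * x'⁻¹), mul_mem hk' (hkn _ (inv_mem hk'))⟩ with hz
  have hzF : z ∈ Cfsg.fittingSubgroup ↥O := by
    apply Cores.centralizer_fittingSubgroup_le
    rw [mem_centralizer_iff]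
    intro f hf
    refine Subtype.ext ?_
    show (f : M) * (k' * (x' * k'⁻¹ * x'⁻¹)) = k' * (x' * k'⁻¹ * x'⁻¹) * f
    set f' : ↥O := (⟨k', hk'⟩ : ↥O)⁻¹ * f * ⟨k', hk'⟩ with hf'
    have hf'F : f' ∈ Cfsg.fittingSubgroup ↥O :=
      (inferInstance : (Cfsg.fittingSubgroup ↥O).Normal).conj_mem' f hf _
    have h1 := hcent f' hf'F
    have h2 := hcent f hf
    have e : (f' : M) = k'⁻¹ * f * k' := rfl
    rw [e] at h1
    calc (f : M) * (k' * (x' * k'⁻¹ * x'⁻¹))
        = k' * ((k'⁻¹ * f * k') * x') * k'⁻¹ * x'⁻¹ := by group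
      _ = k' * (x' * (k'⁻¹ * f * k')) * k'⁻¹ * x'⁻¹ := by rw [h1]
      _ = k' * x' * k'⁻¹ * ((f : M) * x'⁻¹) := by group
      _ = k' * x' * k'⁻¹ * (x'⁻¹ * f) := by rw [(Commute.inv_left h2).eq]
      _ = _ := by group
  have h3 := hcent z hzF
  have hinv : x' * (z : M) * x'⁻¹ = (z : M)⁻¹ := by
    show x' * (k' * (x' * k'⁻¹ * x'⁻¹)) * x'⁻¹ = (k' * (x' * k'⁻¹ * x'⁻¹))⁻¹
    calc x' * (k' * (x' * k'⁻¹ * x'⁻¹)) * x'⁻¹
        = x' * k' * x' * k'⁻¹ * (x'⁻¹ * x'⁻¹) := by group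
      _ = x' * k' * x' * k'⁻¹ := by rw [hxi, hxx, mul_one]
      _ = x' * k' * x'⁻¹ * k'⁻¹ := by rw [hxi]
      _ = _ := by group
  have hodd : Odd (orderOf (z : M)) :=
    BenderOne20.oddCore_odd.of_dvd_nat (O.orderOf_dvd_natCard z.2)
  have hz1 : (z : M) = 1 := by
    by_contra hne
    exact EndgameFacts.ne_of_inverted hne hodd hinv h3
  have he : k' = x' * k' * x'⁻¹ := by
    have := mul_eq_one_iff_eq_inv.1 (show k' * (x' * k'⁻¹ * x'⁻¹) = 1 from hz1)
    exact this.trans (by group)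
  exact congrArg Subtype.val ((mul_inv_eq_iff_eq_mul.1 he.symm) : x' * k' = k' * x')

/-- Some prime is active in a violating subgroup. -/
theorem exists_active {Ω : Type v} [MulAction G Ω] {M : Subgroup G} (hM : Viol G Ω M) :
    ∃ p : ℕ, p.Prime ∧ Active p M := by
  obtain ⟨x, hxM, hx, y, hy, hne⟩ := hM.bad
  by_contra hall
  refine hne (commute_oddIn hxM hx (fun p hp z hz => ?_) hy)
  by_contra h
  exact hall ⟨p, hp, x, hxM, hx, z, hz, h⟩

variable {Ω : Type v} [MulAction G Ω]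

/-- Node A in an action satisfying the standing hypotheses. -/
theorem not_viol (hC : Ctx G Ω) (hZJ : PropZJ G Ω) (hCP : PropCharP G Ω) (M : Subgroup G) :
    ¬ Viol G Ω M := by
  intro hM
  obtain ⟨N, hN⟩ := propFull hC (propNormFix hC) (propChainFix hC) hZJ M hM
  obtain ⟨p, hp, hA⟩ := exists_active hN.toViol
  exact propEndgame hC hZJ propStab propQuat N p hp hN hA (hCP N p hp hN hA)

/-- Node A from ST and the characteristic `p` step. -/
theorem coreCentral_of {H : Subgroup G} (h : Min G H) (hC : Ctx G (G ⧸ H))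
    (hZJ : PropZJ G (G ⧸ H)) (hCP : PropCharP G (G ⧸ H)) : CoreCentral H := by
  intro M hM hfour hmany x hx hx2 y hy
  by_contra hne
  obtain ⟨a, ha, b, hb, ha2, hb2, hab⟩ := hmany
  obtain ⟨α, hα⟩ := hC.oneFix.exists_fix ha2
  obtain ⟨β, hβ⟩ := hC.oneFix.exists_fix hb2
  refine not_viol hC hZJ hCP M ⟨⟨hM, hfour, α, ⟨a, ⟨ha2, hα⟩, ha⟩, β, ⟨b, ⟨hb2, hβ⟩, hb⟩, ?_⟩,
    x, hx, hx2, y, hy, hne⟩
  rintro rfl
  obtain ⟨g, rfl⟩ := QuotientGroup.mk_surjective α
  exact hab g (smul_eq_self_iff.1 hα) (smul_eq_self_iff.1 hβ)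

/-- Node A. -/
theorem propCoreCentral_of
    (hZJ : ∀ (X : Type u) [Group X] [Finite X] (K : Subgroup X), Ctx X (X ⧸ K) → PropZJ X (X ⧸ K))
    (hCP : ∀ (X : Type u) [Group X] [Finite X] (K : Subgroup X), Ctx X (X ⧸ K) →
      PropCharP X (X ⧸ K)) : PropCoreCentral.{u} :=
  fun hII X _ _ K h => coreCentral_of h (ctx hII h) (hZJ X K (ctx hII h)) (hCP X K (ctx hII h))

end Cfsg.Agent.Lib.BenderOne.NodeA
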