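import Cfsg.Agent.Lib.GlaubermanGlobal.SLPair
import Cfsg.Agent.Lib.Linear.SL2Sylow2
import Cfsg.Agent.Lib.Involutions.BaerSuzuki
import Cfsg.Agent.Lib.Transfer.Frobenius
import Cfsg.Agent.Lib.Cores.Basic
import Mathlib.LinearAlgebra.Quotient.Basic

/-!
# Node A, lemma Q: quaternion subgroups from quadratic elements

In odd characteristic a quadratic element outside `O_p` has in its normal closure two elements
`f`, `g` with `f² = g² = ⁅f, g⁆` an involution, fixing every vector which that involution fixes.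
-/

set_option autoImplicit false
set_option linter.unusedSectionVars false
set_option linter.style.haveILetI false

namespace Cfsg.Agent.Lib.BenderOne.NodeA.Quaternion

open Matrix
open Cfsg.Agent.Lib.Quadratic
open scoped commutatorElement

section SL

variable {L : Type*} [Field L]

local notation "SL2" => Matrix.SpecialLinearGroup (Fin 2) L

theorem sq_eq_one_cases (h2 : (2 : L) ≠ 0) {z : SL2} (hz : z * z = 1) :
    z = 1 ∨ (z : Matrix (Fin 2) (Fin 2) L) = -1 := by
  rcases eq_or_ne z 1 with h | h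
  · exact Or.inl h
  · exact Or.inr (Linear.eq_neg_one_of_mul_self h2 h hz)

theorem central_of_sq_eq_one (h2 : (2 : L) ≠ 0) {z : SL2} (hz : z * z = 1) (x : SL2) :
    z * x = x * z := by
  rcases sq_eq_one_cases h2 hz with h | h
  · rw [h, one_mul, mul_one]
  · apply Subtype.ext
    rw [Matrix.SpecialLinearGroup.coe_mul, Matrix.SpecialLinearGroup.coe_mul, h, neg_mul, one_mul,
      mul_neg, mul_one]

variable [Finite L]

/-- In a 2-subgroup the elements whose fourth power is not trivial commute. -/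
theorem commute_of_pow_four (h2 : (2 : L) ≠ 0) {S : Subgroup SL2} (hS : IsPGroup 2 S) {c d : SL2}
    (hc : c ∈ S) (hd : d ∈ S) (hc4 : c ^ 4 ≠ 1) (hd4 : d ^ 4 ≠ 1) : Commute c d := by
  haveI : Fact (Nat.Prime 2) := ⟨Nat.prime_two⟩
  letI := Fintype.ofFinite L
  have hodd : Odd (Fintype.card L) := by
    obtain ⟨q, hq⟩ := CharP.exists L
    haveI : Fact q.Prime := ⟨(CharP.char_is_prime_or_zero L q).resolve_right
      (CharP.char_ne_zero_of_finite L q)⟩
    have hq2 : q ≠ 2 := by
      rintro rfl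
      exact h2 (by exact_mod_cast CharP.cast_eq_zero L 2)
    obtain ⟨n, -, hn⟩ := FiniteField.card L q
    rw [hn]
    exact ((Fact.out : q.Prime).odd_of_ne_two hq2).pow
  obtain ⟨P, hP⟩ := hS.exists_le_sylow
  obtain ⟨k, -, ⟨e⟩⟩ := Linear.sylow_two_SL2_quaternion hodd P
  have key : ∀ x (hx : x ∈ (P : Subgroup SL2)), x ^ 4 ≠ 1 →
      ∃ i, e ⟨x, hx⟩ = QuaternionGroup.a i := by
    intro x hx hx4
    rcases hh : e ⟨x, hx⟩ with i | i
    · exact ⟨i, rfl⟩
    · exfalso
      apply hx4
      have h4 : (⟨x, hx⟩ : (P : Subgroup SL2)) ^ 4 = 1 :=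
        e.injective (by rw [map_pow, hh, QuaternionGroup.xa_pow_four, map_one])
      exact congrArg Subtype.val h4
  obtain ⟨i, hi⟩ := key c (hP hc) hc4
  obtain ⟨j, hj⟩ := key d (hP hd) hd4
  have h : (⟨c, hP hc⟩ : (P : Subgroup SL2)) * ⟨d, hP hd⟩ = ⟨d, hP hd⟩ * ⟨c, hP hc⟩ :=
    e.injective (by
      rw [map_mul, map_mul, hi, hj, QuaternionGroup.a_mul_a, QuaternionGroup.a_mul_a, add_comm])
  exact congrArg Subtype.val h

/-- An element of odd order normalising a 2-subgroup of `SL(2,L)`: either it fixes `s`, or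
`a = s⁻¹ s^t` and `b = a^t` satisfy the quaternion relations with centre `-1`. -/
theorem sl_coord (h2 : (2 : L) ≠ 0) {S : Subgroup SL2} (hS : IsPGroup 2 S) {t : SL2} {n : ℕ}
    (hn : Odd n) (htn : t ^ n = 1) (htS : ∀ s ∈ S, t * s * t⁻¹ ∈ S) {s a b : SL2} (hs : s ∈ S)
    (ha : a = s⁻¹ * (t * s * t⁻¹)) (hb : b = t * a * t⁻¹) :
    (a = 1 ∧ b = 1) ∨ (a * a = b * b ∧ ⁅a, b⁆ = a * a ∧
      ((a * a : SL2) : Matrix (Fin 2) (Fin 2) L) = -1) := by
  have shift : ∀ x c : SL2, t * x * t⁻¹ = x * c → t * c * t⁻¹ = c →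
      ∀ m : ℕ, t ^ m * x * (t ^ m)⁻¹ = x * c ^ m := by
    intro x c hxc hc m
    induction m with
    | zero => simp
    | succ m ih =>
      have hcm : t * c ^ m * t⁻¹ = c ^ m := by rw [← conj_pow, hc]
      calc t ^ (m + 1) * x * (t ^ (m + 1))⁻¹ = t * (t ^ m * x * (t ^ m)⁻¹) * t⁻¹ := by
            rw [pow_succ' t m]; group
        _ = t * x * t⁻¹ * (t * c ^ m * t⁻¹) := by rw [ih]; group
        _ = x * c * c ^ m := by rw [hxc, hcm]
        _ = x * c ^ (m + 1) := by rw [pow_succ' c m, mul_assoc]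
  -- a difference which is fixed is trivial
  have fixdiff : ∀ x ∈ S, ∀ c, t * x * t⁻¹ = x * c → t * c * t⁻¹ = c → c = 1 := by
    intro x hx c hxc hc
    have hcS : c ∈ S := by
      have : x⁻¹ * (t * x * t⁻¹) ∈ S := S.mul_mem (S.inv_mem hx) (htS x hx)
      rwa [hxc, inv_mul_cancel_left] at this
    have h := shift x c hxc hc n
    rw [htn] at h
    have hcn : c ^ n = 1 := by simpa using h
    obtain ⟨e, he⟩ := hS ⟨c, hcS⟩
    have he' : c ^ 2 ^ e = 1 := congrArg Subtype.val he
    have h1 : orderOf c ∣ n := orderOf_dvd_of_pow_eq_one hcn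
    have h2' : orderOf c ∣ 2 ^ e := orderOf_dvd_of_pow_eq_one he'
    rw [← orderOf_eq_one_iff]
    exact Nat.eq_one_of_dvd_coprimes (Nat.Coprime.pow_right e hn.coprime_two_right) h1 h2'
  -- an element commuting with its conjugate is fixed
  have fixcomm : ∀ e : ℕ, ∀ c ∈ S, c ^ 2 ^ e = 1 → Commute c (t * c * t⁻¹) → t * c * t⁻¹ = c := by
    intro e
    induction e with
    | zero =>
      intro c _ hc _
      rw [pow_zero, pow_one] at hc
      rw [hc]; simp
    | succ e ih =>
      intro c hc hce hcomm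
      have h2c : t * (c * c) * t⁻¹ = c * c := by
        apply ih (c * c) (S.mul_mem hc hc)
        · rw [← pow_two, ← pow_mul, ← pow_succ']; exact hce
        · rw [show t * (c * c) * t⁻¹ = (t * c * t⁻¹) * (t * c * t⁻¹) by group]
          exact (hcomm.mul_right hcomm).mul_left (hcomm.mul_right hcomm)
      have hz : (c⁻¹ * (t * c * t⁻¹)) * (c⁻¹ * (t * c * t⁻¹)) = 1 := by
        have hc' : Commute c⁻¹ (t * c * t⁻¹) := hcomm.inv_left
        calc (c⁻¹ * (t * c * t⁻¹)) * (c⁻¹ * (t * c * t⁻¹))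
            = (c⁻¹ * c⁻¹) * ((t * c * t⁻¹) * (t * c * t⁻¹)) := hc'.symm.mul_mul_mul_comm _ _
          _ = (c * c)⁻¹ * (t * (c * c) * t⁻¹) := by group
          _ = 1 := by rw [h2c, inv_mul_cancel]
      have hzc := central_of_sq_eq_one h2 hz t
      have h1 : c⁻¹ * (t * c * t⁻¹) = 1 := fixdiff c hc _ (by group) (by
        rw [← hzc]; group)
      exact (inv_mul_eq_one.1 h1).symm
  have moved_four : ∀ c ∈ S, t * c * t⁻¹ ≠ c → c ^ 4 = 1 := by
    intro c hc hne
    by_contra h4
    apply hne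
    have h4' : (t * c * t⁻¹) ^ 4 ≠ 1 := by
      rw [conj_pow]
      intro h
      apply h4
      have := congrArg (fun z => t⁻¹ * z * t) h
      simpa [mul_assoc] using this
    obtain ⟨e, he⟩ := hS ⟨c, hc⟩
    exact fixcomm e c hc (congrArg Subtype.val he)
      (commute_of_pow_four h2 hS hc (htS c hc) h4 h4')
  have moved_sq : ∀ c ∈ S, t * c * t⁻¹ ≠ c → ((c * c : SL2) : Matrix (Fin 2) (Fin 2) L) = -1 := by
    intro c hc hne
    have h4 := moved_four c hc hne
    refine (sq_eq_one_cases h2 (z := c * c)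
      (by rw [← h4]; simp only [pow_succ, pow_zero, one_mul, mul_assoc])).resolve_left
      fun h => hne ?_
    refine fixcomm 1 c hc (by simpa [pow_two] using h) ?_
    exact central_of_sq_eq_one h2 h _
  have haS : a ∈ S := ha ▸ S.mul_mem (S.inv_mem hs) (htS s hs)
  have hbS : b ∈ S := hb ▸ htS a haS
  by_cases hs1 : t * s * t⁻¹ = s
  · left
    have ha1 : a = 1 := by rw [ha, hs1, inv_mul_cancel]
    exact ⟨ha1, by rw [hb, ha1]; group⟩
  have hxs : t * s * t⁻¹ = s * a := by rw [ha, mul_inv_cancel_left]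
  have hamove : t * a * t⁻¹ ≠ a := fun h => hs1 (by rw [hxs, fixdiff s hs a hxs h, mul_one])
  have haa := moved_sq a haS hamove
  have hbmove : t * b * t⁻¹ ≠ b := by
    intro h
    apply hamove
    rw [hb] at h
    have := congrArg (fun z => t⁻¹ * z * t) h
    simpa [mul_assoc] using this
  have hbb := moved_sq b hbS hbmove
  have haabb : a * a = b * b := Subtype.ext (haa.trans hbb.symm)
  -- `a b` is a central multiple of the difference of `a`
  have habmove : t * (a * b) * t⁻¹ ≠ a * b := by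
    intro h
    have hdiff : t * (a⁻¹ * b) * t⁻¹ = a⁻¹ * b := by
      have hz : (a * a) * (a * a) = 1 := Subtype.ext (by
        rw [Matrix.SpecialLinearGroup.coe_mul (a * a), haa]; simp)
      have hzc := central_of_sq_eq_one h2 hz t
      calc t * (a⁻¹ * b) * t⁻¹ = t * (a * a)⁻¹ * t⁻¹ * (t * (a * b) * t⁻¹) := by group
        _ = (a * a)⁻¹ * (a * b) := by
          rw [h, show t * (a * a)⁻¹ * t⁻¹ = (t * (a * a) * t⁻¹)⁻¹ by group, ← hzc]
          group
        _ = a⁻¹ * b := by group
    apply hamove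
    have h1 := fixdiff a haS (a⁻¹ * b) (by rw [hb]; group) hdiff
    rw [inv_mul_eq_one] at h1
    rw [← hb, ← h1]
  have habab := moved_sq (a * b) (S.mul_mem haS hbS) habmove
  refine Or.inr ⟨haabb, Subtype.ext ?_, haa⟩
  rw [show ⁅a, b⁆ = a * b * a * b * ((b * b)⁻¹ * (b * (a * a)⁻¹ * b⁻¹)) * 1 by
    rw [commutatorElement_def]; group]
  have hzc : (a * a)⁻¹ = a * a := inv_eq_of_mul_eq_one_right (Subtype.ext (by
    rw [Matrix.SpecialLinearGroup.coe_mul (a * a), haa]; simp))
  rw [mul_one, ← haabb, hzc, show a * b * a * b = a * b * (a * b) by group,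
    show b * (a * a) * b⁻¹ = b * (b * b) * b⁻¹ by rw [haabb],
    show b * (b * b) * b⁻¹ = a * a by rw [haabb]; group,
    Matrix.SpecialLinearGroup.coe_mul, Matrix.SpecialLinearGroup.coe_mul (a * a), habab, haa]
  simp

end SL

variable {p : ℕ} [Fact p.Prime]

theorem two_ne_zero_zmod (hp : p ≠ 2) : (2 : ZMod p) ≠ 0 := by
  intro h
  apply hp
  have : ((2 : ℕ) : ZMod p) = 0 := by exact_mod_cast h
  rw [ZMod.natCast_eq_zero_iff] at this
  exact (Nat.prime_dvd_prime_iff_eq Fact.out Nat.prime_two).1 this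

/-- An irreducible group of operators generated by two quadratic elements is trivial or embeds
into `SL(2,L)`. -/
theorem exists_sl2_embedding (hp : p ≠ 2) {U : Type*} [AddCommGroup U] [Module (ZMod p) U]
    [Finite U] {Γ : Type*} [Group Γ] [Finite Γ] (σ : Γ →* Module.End (ZMod p) U) {x y : Γ}
    (hgen : Subgroup.closure {x, y} = ⊤) (hx : (σ x - 1) * (σ x - 1) = 0)
    (hy : (σ y - 1) * (σ y - 1) = 0)
    (hirr : ∀ S : Submodule (ZMod p) U, S ≠ ⊥ → (∀ g, ∀ v ∈ S, σ g v ∈ S) → S = ⊤) :
    (∀ g, σ g = 1) ∨ ∃ (L : Type) (_ : Field L) (_ : Finite L),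
      (2 : L) ≠ 0 ∧ ∃ φ : Γ →* Matrix.SpecialLinearGroup (Fin 2) L, ∀ g, φ g = 1 ↔ σ g = 1 := by
  classical
  by_cases htriv : ∀ g, σ g = 1
  · exact Or.inl htriv
  right
  haveI : Module.Finite (ZMod p) U := Module.Finite.of_finite
  let bas := Module.finBasis (ZMod p) U
  let M := LinearMap.toMatrixAlgEquiv bas
  let ρ : Γ →* Matrix (Fin (Module.finrank (ZMod p) U)) (Fin (Module.finrank (ZMod p) U))
      (ZMod p) := M.toMonoidHom.comp σ
  have hρ : ∀ (g : Γ) (v : U), bas.equivFun (σ g v) = ρ g *ᵥ bas.equivFun v := fun g v =>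
    (LinearMap.toMatrix_mulVec_repr bas bas (σ g) v).symm
  have hρ1 : ∀ g, ρ g = 1 ↔ σ g = 1 := fun g => by
    show M (σ g) = 1 ↔ _
    rw [← map_one M, M.injective.eq_iff]
  let N : Subgroup Γ := ρ.ker
  let ρb : Γ ⧸ N →* Matrix (Fin (Module.finrank (ZMod p) U)) (Fin (Module.finrank (ZMod p) U))
      (ZMod p) := QuotientGroup.lift N ρ le_rfl
  have hρb : ∀ g : Γ, ρb g = ρ g := fun g => rfl
  have hinj : Function.Injective ρb := by
    intro a b
    induction a using QuotientGroup.induction_on with | _ a => ?_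
    induction b using QuotientGroup.induction_on with | _ b => ?_
    intro h
    rw [hρb, hρb] at h
    refine QuotientGroup.eq.2 (MonoidHom.mem_ker.2 ?_)
    rw [map_mul, ← h, ← map_mul, inv_mul_cancel, map_one]
  have hirr' : GlaubermanGlobal.Irred ρb := by
    intro S hS0 hS
    have h := hirr (S.comap bas.equivFun.toLinearMap) ?_ ?_
    · rw [eq_top_iff]
      intro v _
      have hv : bas.equivFun.symm v ∈ S.comap bas.equivFun.toLinearMap := h ▸ Submodule.mem_top
      rw [Submodule.mem_comap, LinearEquiv.coe_coe, LinearEquiv.apply_symm_apply] at hv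
      exact hv
    · intro hb
      apply hS0
      rw [Submodule.eq_bot_iff]
      intro v hv
      have : bas.equivFun.symm v ∈ S.comap bas.equivFun.toLinearMap := by
        show bas.equivFun (bas.equivFun.symm v) ∈ S
        rwa [LinearEquiv.apply_symm_apply]
      rw [hb, Submodule.mem_bot] at this
      exact bas.equivFun.symm.map_eq_zero_iff.1 this
    · intro g v hv
      show bas.equivFun (σ g v) ∈ S
      rw [hρ]
      exact hS (g : Γ ⧸ N) _ hv
  have hn0 : Nonempty (Fin (Module.finrank (ZMod p) U)) := by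
    rw [← Fin.pos_iff_nonempty, Module.finrank_pos_iff]
    by_contra hnt
    haveI := not_nontrivial_iff_subsingleton.1 hnt
    exact htriv fun g => LinearMap.ext fun v => Subsingleton.elim _ _
  have hgen' : Subgroup.closure ({(x : Γ ⧸ N), (y : Γ ⧸ N)} : Set (Γ ⧸ N)) = ⊤ := by
    rw [← Subgroup.map_top_of_surjective (QuotientGroup.mk' N) (QuotientGroup.mk'_surjective N),
      ← hgen, MonoidHom.map_closure, Set.image_pair]
    rfl
  have hquad : ∀ z : Γ, (σ z - 1) * (σ z - 1) = 0 → (ρ z - 1) * (ρ z - 1) = 0 := by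
    intro z hz
    show (M (σ z) - 1) * (M (σ z) - 1) = 0
    rw [← map_one M, ← map_sub, ← map_mul, hz, map_zero]
  have hnp : ¬ IsPGroup p (Γ ⧸ N) := by
    intro hP
    apply htriv
    intro g
    rw [← hρ1, ← hρb]
    letI : MulAction (Γ ⧸ N) (Fin (Module.finrank (ZMod p) U) → ZMod p) :=
      { smul := fun g v => ρb g *ᵥ v
        one_smul := fun v => by
          show ρb 1 *ᵥ v = v
          rw [map_one, Matrix.one_mulVec]
        mul_smul := fun g g' v => by
          show ρb (g * g') *ᵥ v = ρb g *ᵥ (ρb g' *ᵥ v)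
          rw [map_mul, Matrix.mulVec_mulVec] }
    have h0 : (0 : Fin (Module.finrank (ZMod p) U) → ZMod p) ∈
        MulAction.fixedPoints (Γ ⧸ N) (Fin (Module.finrank (ZMod p) U) → ZMod p) := fun g =>
      Matrix.mulVec_zero _
    obtain ⟨w, hw, hw0⟩ := hP.exists_fixed_point_of_prime_dvd_card_of_fixed_point
      (Fin (Module.finrank (ZMod p) U) → ZMod p) (by
        rw [Nat.card_fun, Nat.card_zmod]
        exact dvd_pow_self p (Nat.card_pos (α := Fin (Module.finrank (ZMod p) U))).ne') h0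
    let S : Submodule (ZMod p) (Fin (Module.finrank (ZMod p) U) → ZMod p) :=
      { carrier := {v | ∀ g, ρb g *ᵥ v = v}
        add_mem' := fun {a b} ha hb g => by rw [Matrix.mulVec_add, ha g, hb g]
        zero_mem' := fun g => Matrix.mulVec_zero _
        smul_mem' := fun c v hv g => by rw [Matrix.mulVec_smul, hv g] }
    have hS : S = ⊤ := hirr' S (fun h => hw0 (by
        have hwS : w ∈ S := fun g => hw g
        rw [h, Submodule.mem_bot] at hwS
        exact hwS.symm))
      (fun g v hv g' => by rw [Matrix.mulVec_mulVec, ← map_mul, hv (g' * g), hv g])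
    apply Matrix.toLin'.injective
    refine LinearMap.ext fun v => ?_
    have hv : v ∈ S := hS ▸ Submodule.mem_top
    simpa [Matrix.toLin'_apply] using hv (g : Γ ⧸ N)
  obtain ⟨L, hLf, hLfin, hLc, hLa, l, -, φ, -, -, P, hP, hPinj⟩ :=
    exists_sl2_hom ρb hinj hgen' (hquad x hx) (hquad y hy) hnp
  have hw0 : P *ᵥ Pi.single 0 1 ≠ 0 := fun h => by simpa using congrFun (hPinj _ h) 0
  have hφ : ∀ q : Γ ⧸ N, φ q = 1 → q = 1 := by
    intro q hq
    apply hinj
    rw [map_one, ← sub_eq_zero]
    refine GlaubermanGlobal.eq_zero_of_invariant hirr' hw0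
      {A | ∃ c, A = ρb (c * q * c⁻¹) - 1} ?_ ?_ _ ⟨1, by simp⟩
    · rintro _ ⟨c, rfl⟩ d
      refine ⟨d⁻¹ * c, ?_⟩
      rw [mul_sub, sub_mul, mul_one, ← map_mul ρb d⁻¹, ← map_mul ρb _ d, ← map_mul ρb d⁻¹ d,
        inv_mul_cancel, map_one]
      congr 2
      group
    · rintro _ ⟨c, rfl⟩
      have h1 : (φ (c * q * c⁻¹)).1 = 1 := by simp [map_mul, hq]
      have hmap := hP (c * q * c⁻¹)
      rw [h1, Matrix.mul_one] at hmap
      rw [Matrix.map_sub _ (map_sub _), Matrix.map_one _ (map_zero _) (map_one _),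
        Matrix.sub_mulVec, Matrix.mulVec_mulVec, hmap, Matrix.one_mulVec, sub_self]
  refine ⟨L, hLf, hLfin, ?_, φ.comp (QuotientGroup.mk' N), fun g => ?_⟩
  · haveI := hLc
    intro h
    apply hp
    have h' : ((2 : ℕ) : L) = 0 := by exact_mod_cast h
    rw [CharP.cast_eq_zero_iff L p] at h'
    exact (Nat.prime_dvd_prime_iff_eq Fact.out Nat.prime_two).1 h'
  · rw [← hρ1]
    constructor
    · intro h
      rw [← hρb, show (g : Γ ⧸ N) = 1 from hφ _ h, map_one]
    · intro h
      show φ (QuotientGroup.mk' N g) = 1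
      rw [show QuotientGroup.mk' N g = 1 from (QuotientGroup.eq_one_iff g).2 h, map_one]

section Main

variable {V : Type*} [AddCommGroup V] [Module (ZMod p) V] [Finite V] {Γ : Type*} [Group Γ]
  [Finite Γ]

/-- `S` is invariant. -/
def InvSub (σ : Γ →* Module.End (ZMod p) V) (S : Submodule (ZMod p) V) : Prop :=
  ∀ g, ∀ v ∈ S, σ g v ∈ S

/-- A 2-element fixing its own displacement of `v` fixes `v`. -/
theorem eq_of_apply_sub (hp : p ≠ 2) (σ : Γ →* Module.End (ZMod p) V) {g : Γ} {e : ℕ}
    (hg : g ^ 2 ^ e = 1) {v : V} (hd : σ g (σ g v - v) = σ g v - v) : σ g v = v := by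
  have key : ∀ m : ℕ, σ (g ^ m) v = v + (m : ZMod p) • (σ g v - v) := by
    intro m
    induction m with
    | zero => simp
    | succ m ih =>
      rw [pow_succ', map_mul, Module.End.mul_apply, ih, map_add, map_smul, hd, Nat.cast_succ,
        add_smul, one_smul]
      abel
  have h := key (2 ^ e)
  rw [hg, map_one, Module.End.one_apply, left_eq_add, smul_eq_zero, Nat.cast_pow] at h
  refine sub_eq_zero.1 (h.resolve_left (pow_ne_zero _ ?_))
  exact_mod_cast two_ne_zero_zmod hp

/-- What holds on every constituent lifts to the module: the relations, and the fixed vectors. -/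
theorem relations (hp : p ≠ 2) (σ : Γ →* Module.End (ZMod p) V) {x y : Γ}
    (hgen : Subgroup.closure {x, y} = ⊤) (hx : (σ x - 1) * (σ x - 1) = 0)
    (hy : (σ y - 1) * (σ y - 1) = 0) {T : Subgroup Γ} (hT : IsPGroup 2 T) {t : Γ} {n : ℕ}
    (hn : Odd n) (htn : t ^ n = 1) (htT : ∀ s ∈ T, t * s * t⁻¹ ∈ T) {s a b : Γ} (hs : s ∈ T)
    (ha : a = s⁻¹ * (t * s * t⁻¹)) (hb : b = t * a * t⁻¹) :
    ∀ S : Submodule (ZMod p) V, InvSub σ S → ∀ v ∈ S,
      σ ((a * a)⁻¹ * (b * b)) v = v ∧ σ (⁅a, b⁆ * (a * a)⁻¹) v = v ∧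
        (σ (a * a) v = v → σ a v = v ∧ σ b v = v) := by
  have haT : a ∈ T := ha ▸ T.mul_mem (T.inv_mem hs) (htT s hs)
  have hbT : b ∈ T := hb ▸ htT a haT
  have horder : ∀ g ∈ T, ∃ e : ℕ, g ^ 2 ^ e = 1 := fun g hg => by
    obtain ⟨e, he⟩ := hT ⟨g, hg⟩
    exact ⟨e, congrArg Subtype.val he⟩
  intro S
  induction S using WellFoundedLT.induction with
  | _ S ih =>
    intro hS v hv
    by_cases hS0 : S = ⊥
    · rw [hS0, Submodule.mem_bot] at hv
      subst hv
      simp
    haveI : Finite (Submodule (ZMod p) V) := Finite.of_injective _ SetLike.coe_injective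
    obtain ⟨S', ⟨hS', hS'lt⟩, hmax⟩ := wellFounded_gt.has_min
      {S' : Submodule (ZMod p) V | InvSub σ S' ∧ S' < S}
      ⟨⊥, fun g w hw => by simp [(Submodule.mem_bot (ZMod p)).1 hw], bot_lt_iff_ne_bot.2 hS0⟩
    -- the constituent
    let N : Submodule (ZMod p) S := S'.comap S.subtype
    let σS : Γ →* Module.End (ZMod p) (S ⧸ N) :=
      { toFun := fun g => N.mapQ N ((σ g).restrict fun w hw => hS g w hw)
          (fun w hw => hS' g _ hw)
        map_one' := by
          refine LinearMap.ext fun q => ?_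
          obtain ⟨w, rfl⟩ := Submodule.Quotient.mk_surjective N q
          show Submodule.Quotient.mk (⟨σ 1 w, hS 1 w w.2⟩ : S) = Submodule.Quotient.mk w
          exact congrArg _ (Subtype.ext (show σ 1 (w : V) = w by rw [map_one]; rfl))
        map_mul' := fun g g' => by
          refine LinearMap.ext fun q => ?_
          obtain ⟨w, rfl⟩ := Submodule.Quotient.mk_surjective N q
          show Submodule.Quotient.mk (⟨σ (g * g') w, hS (g * g') w w.2⟩ : S) =
            Submodule.Quotient.mk (⟨σ g (σ g' w), hS g _ (hS g' w w.2)⟩ : S)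
          exact congrArg _ (Subtype.ext (show σ (g * g') (w : V) = σ g (σ g' w) by rw [map_mul]; rfl)) }
    haveI : Finite (S ⧸ N) := Finite.of_surjective _ (Submodule.Quotient.mk_surjective N)
    have hσS : ∀ g (w : S), σS g (Submodule.Quotient.mk w) =
        Submodule.Quotient.mk ⟨σ g w, hS g w w.2⟩ := fun g w => rfl
    have hmk : ∀ (g : Γ) (w : S), σS g (Submodule.Quotient.mk w) = Submodule.Quotient.mk w →
        σ g (w : V) - w ∈ S' := by
      intro g w h
      rw [hσS, Submodule.Quotient.eq] at h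
      exact h
    have hquad : ∀ z, (σ z - 1) * (σ z - 1) = 0 → (σS z - 1) * (σS z - 1) = 0 := by
      intro z hz
      refine Submodule.linearMap_qext _ (LinearMap.ext fun w => ?_)
      simp only [LinearMap.comp_apply, Submodule.mkQ_apply, Module.End.mul_apply,
        LinearMap.sub_apply, Module.End.one_apply, LinearMap.zero_comp, LinearMap.zero_apply]
      rw [hσS, ← Submodule.Quotient.mk_sub, hσS, ← Submodule.Quotient.mk_sub,
        Submodule.Quotient.mk_eq_zero]
      show σ z (σ z w - w) - (σ z w - w) ∈ S'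
      have h0 := LinearMap.congr_fun hz (w : V)
      simp only [Module.End.mul_apply, LinearMap.sub_apply, Module.End.one_apply,
        LinearMap.zero_apply] at h0
      rw [h0]
      exact S'.zero_mem
    have hirr : ∀ U : Submodule (ZMod p) (S ⧸ N), U ≠ ⊥ → (∀ g, ∀ w ∈ U, σS g w ∈ U) → U = ⊤ := by
      intro U hU0 hU
      let S'' : Submodule (ZMod p) V := (U.comap N.mkQ).map S.subtype
      have hinv : InvSub σ S'' := by
        rintro g _ ⟨w, hw, rfl⟩
        exact ⟨⟨σ g w, hS g w w.2⟩, hU g _ hw, rfl⟩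
      have hle : S' ≤ S'' := fun w hw => ⟨⟨w, hS'lt.le hw⟩, by
        show Submodule.Quotient.mk _ ∈ U
        rw [(Submodule.Quotient.mk_eq_zero N).2 (show (⟨w, hS'lt.le hw⟩ : S) ∈ N from hw)]
        exact U.zero_mem, rfl⟩
      by_contra hUtop
      have hlt : S'' < S := by
        refine lt_of_le_of_ne (Submodule.map_subtype_le S _) fun h => hUtop ?_
        rw [eq_top_iff]
        intro q _
        obtain ⟨w, rfl⟩ := Submodule.Quotient.mk_surjective N q
        obtain ⟨w', hw', hww⟩ := (h.symm ▸ w.2 : (w : V) ∈ S'')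
        rwa [show w' = w from Subtype.ext hww] at hw'
      apply hU0
      rw [Submodule.eq_bot_iff]
      intro q hq
      obtain ⟨w, rfl⟩ := Submodule.Quotient.mk_surjective N q
      rw [Submodule.Quotient.mk_eq_zero]
      have hw : (w : V) ∈ S'' := ⟨w, hq, rfl⟩
      have heq : S'' = S' := by
        by_contra hne
        exact hmax S'' ⟨hinv, hlt⟩ (lt_of_le_of_ne hle (Ne.symm hne))
      rw [heq] at hw
      exact hw
    -- the facts on the constituent
    have hcon : σS ((a * a)⁻¹ * (b * b)) = 1 ∧ σS (⁅a, b⁆ * (a * a)⁻¹) = 1 ∧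
        ∀ q, σS (a * a) q = q → σS a q = q ∧ σS b q = q := by
      rcases exists_sl2_embedding hp σS hgen (hquad x hx) (hquad y hy) hirr with
        h | ⟨L, hLf, hLfin, h2, φ, hφ⟩
      · exact ⟨h _, h _, fun q _ => ⟨by rw [h]; rfl, by rw [h]; rfl⟩⟩
      rcases sl_coord h2 (hT.map φ) hn (t := φ t) (by rw [← map_pow, htn, map_one])
        (by rintro _ ⟨r, hr, rfl⟩; exact ⟨_, htT r hr, by simp⟩)
        (Subgroup.mem_map_of_mem φ hs) (a := φ a) (b := φ b) (by rw [ha]; simp)
        (by rw [hb]; simp) with ⟨ha1, hb1⟩ | ⟨hab, hcomm, hneg⟩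
      · have ha' := (hφ a).1 ha1
        have hb' := (hφ b).1 hb1
        refine ⟨(hφ _).1 ?_, (hφ _).1 ?_, fun q _ => ⟨by rw [ha']; rfl, by rw [hb']; rfl⟩⟩
        · simp [ha1, hb1]
        · simp [map_commutatorElement, ha1, hb1]
      · refine ⟨(hφ _).1 ?_, (hφ _).1 ?_, fun q hq => ?_⟩
        · rw [map_mul, map_inv, map_mul, map_mul, ← hab, inv_mul_cancel]
        · rw [map_mul, map_inv, map_commutatorElement, hcomm, map_mul, mul_inv_cancel]
        · have hq0 : q = 0 := by
            by_contra hne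
            let F : Submodule (ZMod p) (S ⧸ N) := LinearMap.ker (σS (a * a) - 1)
            have hF : ∀ g, ∀ w ∈ F, σS g w ∈ F := by
              intro g w hw
              have hc : σS (g⁻¹ * (a * a)⁻¹ * g * (a * a)) = 1 := by
                refine (hφ _).1 ?_
                have hcen : φ (a * a) * φ g = φ g * φ (a * a) := by
                  apply Subtype.ext
                  rw [Matrix.SpecialLinearGroup.coe_mul, Matrix.SpecialLinearGroup.coe_mul, map_mul,
                    hneg, neg_mul, one_mul, mul_neg, mul_one]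
                rw [map_mul, map_mul, map_mul, map_inv, map_inv,
                  mul_assoc ((φ g)⁻¹ * (φ (a * a))⁻¹), ← hcen]
                group
              have hw' : σS (a * a) w = w := sub_eq_zero.1 (by simpa [F] using hw)
              refine LinearMap.mem_ker.2 (sub_eq_zero.2 ?_)
              show σS (a * a) (σS g w) = σS g w
              have h1 : σS (a * a * g) = σS (g * (a * a)) := by
                rw [show g * (a * a) = a * a * g * (g⁻¹ * (a * a)⁻¹ * g * (a * a)) by group,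
                  map_mul _ (a * a * g) _, hc, mul_one]
              rw [← Module.End.mul_apply, ← map_mul, h1, map_mul, Module.End.mul_apply, hw']
            have htop := hirr F (fun h => hne (by
              have : q ∈ F := LinearMap.mem_ker.2 (sub_eq_zero.2 hq)
              rwa [h, Submodule.mem_bot] at this)) hF
            have h1 : σS (a * a) = 1 := LinearMap.ext fun w =>
              sub_eq_zero.1 (LinearMap.mem_ker.1 (show w ∈ F from htop ▸ Submodule.mem_top))
            have h11 : ((1 : Matrix.SpecialLinearGroup (Fin 2) L) : Matrix (Fin 2) (Fin 2) L) =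
                -1 := by rw [← (hφ _).2 h1, map_mul]; exact hneg
            have h00 := congrFun (congrFun h11 0) 0
            simp only [Matrix.SpecialLinearGroup.coe_one, Matrix.one_apply_eq,
              Matrix.neg_apply] at h00
            exact h2 (by linear_combination h00)
          subst hq0
          simp
    obtain ⟨hc1, hc2, hc3⟩ := hcon
    have lift : ∀ g ∈ T, σS g = 1 → (∀ w ∈ S', σ g w = w) → σ g v = v := by
      intro g hg h1 h2
      obtain ⟨e, he⟩ := horder g hg
      exact eq_of_apply_sub hp σ he (h2 _ (hmk g ⟨v, hv⟩ (by rw [h1]; rfl)))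
    have h1 : ∀ w ∈ S, σ ((a * a)⁻¹ * (b * b)) w = w := by
      intro w hw
      obtain ⟨e, he⟩ := horder _ (T.mul_mem (T.inv_mem (T.mul_mem haT haT)) (T.mul_mem hbT hbT))
      exact eq_of_apply_sub hp σ he
        ((ih S' hS'lt hS' _ (hmk _ ⟨w, hw⟩ (by rw [hc1]; rfl))).1)
    refine ⟨h1 v hv, lift _ ?_ hc2 fun w hw => (ih S' hS'lt hS' w hw).2.1, fun hfix => ?_⟩
    · rw [commutatorElement_def]
      exact T.mul_mem (T.mul_mem (T.mul_mem (T.mul_mem haT hbT) (T.inv_mem haT)) (T.inv_mem hbT))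
        (T.inv_mem (T.mul_mem haT haT))
    have hbb : ∀ w ∈ S, σ (b * b) w = σ (a * a) w := by
      intro w hw
      have := congrArg (σ (a * a)) (h1 w hw)
      rwa [← Module.End.mul_apply, ← map_mul, mul_inv_cancel_left] at this
    have hbbv : σ (b * b) v = v := (hbb v hv).trans hfix
    have hfixS : σS (a * a) (Submodule.Quotient.mk ⟨v, hv⟩) = Submodule.Quotient.mk ⟨v, hv⟩ := by
      rw [hσS]
      exact congrArg _ (Subtype.ext hfix)
    obtain ⟨hqa, hqb⟩ := hc3 _ hfixS
    have hda : σ a v - v ∈ S' := hmk a ⟨v, hv⟩ hqa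
    have hdb : σ b v - v ∈ S' := hmk b ⟨v, hv⟩ hqb
    have hcom : ∀ g w, σ (g * g) w = w → σ (g * g) (σ g w) = σ g w := fun g w hw => by
      rw [← Module.End.mul_apply, ← map_mul, show g * g * g = g * (g * g) by group, map_mul σ g,
        Module.End.mul_apply, hw]
    have hdafix : σ (a * a) (σ a v - v) = σ a v - v := by rw [map_sub, hcom a v hfix, hfix]
    have hdbfix : σ (a * a) (σ b v - v) = σ b v - v := by
      rw [← hbb _ (hS'lt.le hdb), map_sub, hcom b v hbbv, hbbv]
    obtain ⟨ea, hea⟩ := horder a haT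
    obtain ⟨eb, heb⟩ := horder b hbT
    exact ⟨eq_of_apply_sub hp σ hea ((ih S' hS'lt hS' _ hda).2.2 hdafix).1,
      eq_of_apply_sub hp σ heb ((ih S' hS'lt hS' _ hdb).2.2 hdbfix).2⟩

/-- In a group of operators generated by two quadratic elements which is not a `p`-group some
element of odd order acts non-trivially on a 2-subgroup it normalises. -/
theorem exists_odd_moving (hp : p ≠ 2) (σ : Γ →* Module.End (ZMod p) V)
    (hσ : Function.Injective σ) {x y : Γ} (hgen : Subgroup.closure {x, y} = ⊤)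
    (hx : (σ x - 1) * (σ x - 1) = 0) (hy : (σ y - 1) * (σ y - 1) = 0) (hnp : ¬ IsPGroup p Γ) :
    ∃ (T : Subgroup Γ) (t s : Γ), IsPGroup 2 T ∧ (∀ r ∈ T, t * r * t⁻¹ ∈ T) ∧ Odd (orderOf t) ∧
      s ∈ T ∧ t * s * t⁻¹ ≠ s := by
  classical
  haveI : Fact (Nat.Prime 2) := ⟨Nat.prime_two⟩
  by_contra hall
  push Not at hall
  have hodd : ∀ g : Γ, (σ g - 1) * (σ g - 1) = 0 → ¬ 2 ∣ orderOf g := by
    intro g hg h
    have hpow : σ (g ^ p) = 1 := by
      have key : ∀ m : ℕ, σ (g ^ m) = 1 + m • (σ g - 1) := by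
        intro m
        induction m with
        | zero => simp
        | succ m ih =>
          rw [pow_succ, map_mul, ih, succ_nsmul]
          calc (1 + m • (σ g - 1)) * σ g
              = (1 + m • (σ g - 1)) * (1 + (σ g - 1)) := by rw [add_sub_cancel]
            _ = 1 + m • (σ g - 1) + (σ g - 1) + m • ((σ g - 1) * (σ g - 1)) := by
              rw [add_mul, one_mul, mul_add, mul_one, smul_mul_assoc]; abel
            _ = _ := by rw [hg, smul_zero, add_zero, add_assoc]
      rw [key, ← Nat.cast_smul_eq_nsmul (ZMod p), ZMod.natCast_self, zero_smul, add_zero]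
    have hgp : orderOf g ∣ p := orderOf_dvd_of_pow_eq_one (hσ (hpow.trans (map_one σ).symm))
    exact hp ((Nat.prime_dvd_prime_iff_eq Nat.prime_two Fact.out).1 (h.trans hgp)).symm
  obtain ⟨P, N, hN, hc⟩ := Transfer.Frobenius.hasNormalPComplement_of_forall_centralizes
    (p := 2) (G := Γ) fun Q hQ _ g hg hgo => by
      rw [Subgroup.mem_centralizer_iff]
      intro r hr
      have := hall Q g r hQ (fun r' hr' => (Subgroup.mem_normalizer_iff.1 hg r').1 hr')
        (Nat.coprime_two_right.1 hgo) hr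
      exact (mul_inv_eq_iff_eq_mul.1 this).symm
  have hmem : ∀ g : Γ, ¬ 2 ∣ orderOf g → g ∈ N := by
    intro g hg
    obtain ⟨k, hk⟩ := IsPGroup.iff_card.1 P.isPGroup'
    have hindex : N.index = 2 ^ k := by rw [hc.symm.index_eq_card, hk]
    rw [← QuotientGroup.eq_one_iff, ← orderOf_eq_one_iff]
    have h1 : orderOf (g : Γ ⧸ N) ∣ 2 ^ k := hindex ▸ orderOf_dvd_natCard (g : Γ ⧸ N)
    have h2 : orderOf (g : Γ ⧸ N) ∣ orderOf g := orderOf_map_dvd (QuotientGroup.mk' N) g
    exact Nat.eq_one_of_dvd_coprimes (Nat.Coprime.pow_right k (Nat.coprime_two_right.2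
      (Nat.odd_iff.2 (Nat.two_dvd_ne_zero.1 hg)))) h2 h1
  have htop : N = ⊤ := top_le_iff.1 (hgen ▸ (Subgroup.closure_le N).2 (by
    rintro g (rfl | rfl)
    exacts [hmem _ (hodd _ hx), hmem _ (hodd _ hy)]))
  have hΓodd : ¬ 2 ∣ Nat.card Γ := by
    have hP1 : Nat.card (P : Subgroup Γ) = 1 := by
      rw [← hc.symm.index_eq_card, htop, Subgroup.index_top]
    intro h
    apply P.not_dvd_index
    have := (P : Subgroup Γ).card_mul_index
    rw [hP1, one_mul] at this
    rwa [this]
  -- but `SL(2,p)` is involved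
  haveI : Module.Finite (ZMod p) V := Module.Finite.of_finite
  let bas := Module.finBasis (ZMod p) V
  let M := LinearMap.toMatrixAlgEquiv bas
  let ρ : Γ →* Matrix (Fin (Module.finrank (ZMod p) V)) (Fin (Module.finrank (ZMod p) V))
      (ZMod p) := M.toMonoidHom.comp σ
  have hn0 : Nonempty (Fin (Module.finrank (ZMod p) V)) := by
    rw [← Fin.pos_iff_nonempty, Module.finrank_pos_iff]
    by_contra hnt
    haveI := not_nontrivial_iff_subsingleton.1 hnt
    exact hnp fun g => ⟨0, by
      rw [pow_zero, pow_one]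
      exact hσ ((LinearMap.ext fun v => Subsingleton.elim _ _).trans (map_one σ).symm)⟩
  have hquad : ∀ z : Γ, (σ z - 1) * (σ z - 1) = 0 → (ρ z - 1) * (ρ z - 1) = 0 := by
    intro z hz
    show (M (σ z) - 1) * (M (σ z) - 1) = 0
    rw [← map_one M, ← map_sub, ← map_mul, hz, map_zero]
  obtain ⟨K, f, hf⟩ := exists_surjection hp ρ (M.injective.comp hσ) hgen (hquad x hx) (hquad y hy)
    hnp
  apply hΓodd
  refine dvd_trans ?_ ((Subgroup.card_dvd_of_surjective f hf).trans
    (Subgroup.card_subgroup_dvd_card K))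
  refine dvd_trans (dvd_of_eq ?_)
    (orderOf_dvd_natCard (Dickson.negI : Matrix.SpecialLinearGroup (Fin 2) (ZMod p)))
  refine (orderOf_eq_prime (by rw [pow_two, Dickson.negI_mul_self]) fun h => ?_).symm
  have h00 := congrArg (fun z : Matrix.SpecialLinearGroup (Fin 2) (ZMod p) =>
    (z : Matrix (Fin 2) (Fin 2) (ZMod p)) 0 0) h
  simp [Dickson.negI] at h00
  exact two_ne_zero_zmod hp (by linear_combination (-1) * h00)

/-- **Lemma Q.** -/
theorem exists_quaternion (hp : p ≠ 2) (σ : Γ →* Module.End (ZMod p) V)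
    (hσ : Function.Injective σ) {x : Γ} (hx : (σ x - 1) * (σ x - 1) = 0)
    (hcore : x ∉ Cfsg.pCore p Γ) :
    ∃ f ∈ Subgroup.normalClosure ({x} : Set Γ), ∃ g ∈ Subgroup.normalClosure ({x} : Set Γ),
      orderOf (f * f) = 2 ∧ g * g = f * f ∧ ⁅f, g⁆ = f * f ∧
        (∀ v : V, σ (f * f) v = v → σ f v = v ∧ σ g v = v) := by
  classical
  have hxp : IsPGroup p (Subgroup.zpowers x) := by
    refine IsPGroup.of_card_dvd_pow (n := 1) ?_
    rw [Nat.card_zpowers, pow_one]
    refine orderOf_dvd_of_pow_eq_one (hσ ?_)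
    have key : ∀ m : ℕ, σ (x ^ m) = 1 + m • (σ x - 1) := by
      intro m
      induction m with
      | zero => simp
      | succ m ih =>
        rw [pow_succ, map_mul, ih, succ_nsmul]
        calc (1 + m • (σ x - 1)) * σ x
            = (1 + m • (σ x - 1)) * (1 + (σ x - 1)) := by rw [add_sub_cancel]
          _ = 1 + m • (σ x - 1) + (σ x - 1) + m • ((σ x - 1) * (σ x - 1)) := by
            rw [add_mul, one_mul, mul_add, mul_one, smul_mul_assoc]; abel
          _ = _ := by rw [hx, smul_zero, add_zero, add_assoc]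
    rw [key, ← Nat.cast_smul_eq_nsmul (ZMod p), ZMod.natCast_self, zero_smul, add_zero, map_one]
  obtain ⟨c, hc⟩ : ∃ c : Γ, ¬ IsPGroup p (Subgroup.closure ({x, c * x * c⁻¹} : Set Γ)) := by
    by_contra hall
    push Not at hall
    obtain ⟨N, hN, hNp, hxN⟩ := Cfsg.Agent.Lib.Involutions.BaerSuzuki.baer_suzuki_elem hxp hall
    exact hcore (Cores.le_pCore hNp hxN)
  set y := c * x * c⁻¹ with hyc
  set W := Subgroup.closure ({x, y} : Set Γ) with hW
  have hy : (σ y - 1) * (σ y - 1) = 0 := by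
    have e1 : σ c * σ c⁻¹ = 1 := by rw [← map_mul, mul_inv_cancel, map_one]
    have e2 : σ c⁻¹ * σ c = 1 := by rw [← map_mul, inv_mul_cancel, map_one]
    have e3 : σ y - 1 = σ c * (σ x - 1) * σ c⁻¹ := by
      rw [hyc, map_mul, map_mul, mul_sub, sub_mul, mul_one, e1]
    rw [e3, show σ c * (σ x - 1) * σ c⁻¹ * (σ c * (σ x - 1) * σ c⁻¹) =
      σ c * ((σ x - 1) * (σ c⁻¹ * σ c) * (σ x - 1)) * σ c⁻¹ by noncomm_ring, e2, mul_one, hx,
      mul_zero, zero_mul]
  have hWn : W ≤ Subgroup.normalClosure ({x} : Set Γ) := by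
    rw [hW, Subgroup.closure_le]
    have hxn : x ∈ Subgroup.normalClosure ({x} : Set Γ) :=
      Subgroup.subset_normalClosure (Set.mem_singleton x)
    rintro z (rfl | rfl)
    exacts [hxn, Subgroup.normalClosure_normal.conj_mem x hxn c]
  have hgen : Subgroup.closure ({⟨x, Subgroup.subset_closure (Or.inl rfl)⟩,
      ⟨y, Subgroup.subset_closure (Or.inr rfl)⟩} : Set W) = ⊤ := by
    apply Subgroup.map_injective W.subtype_injective
    rw [MonoidHom.map_closure, Set.image_pair, ← MonoidHom.range_eq_map, Subgroup.range_subtype]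
    rfl
  set τ : W →* Module.End (ZMod p) V := σ.comp W.subtype with hτdef
  have hτ : Function.Injective τ := hσ.comp W.subtype_injective
  obtain ⟨T, t, s, hT, htT, ht, hs, hts⟩ := exists_odd_moving hp τ hτ hgen hx hy hc
  have htn : t ^ orderOf t = 1 := pow_orderOf_eq_one t
  set a := s⁻¹ * (t * s * t⁻¹) with ha
  set b := t * a * t⁻¹ with hb
  have hrel := relations hp τ hgen hx hy hT ht htn htT hs ha hb ⊤ (fun g v _ => Submodule.mem_top)
  have hbb : (a * a)⁻¹ * (b * b) = 1 := hτ (by
    rw [map_one]; exact LinearMap.ext fun v => (hrel v Submodule.mem_top).1)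
  have hcomm : ⁅a, b⁆ * (a * a)⁻¹ = 1 := hτ (by
    rw [map_one]; exact LinearMap.ext fun v => (hrel v Submodule.mem_top).2.1)
  rw [inv_mul_eq_one] at hbb
  rw [mul_inv_eq_one] at hcomm
  have hne : a * a ≠ 1 := by
    intro h
    have ha1 : a = 1 := hτ (by
      rw [map_one]
      refine LinearMap.ext fun v => ((hrel v Submodule.mem_top).2.2 ?_).1
      rw [h, map_one]; rfl)
    apply hts
    rw [ha, inv_mul_eq_one] at ha1
    exact ha1.symm
  have hsq : (a * a) * (a * a) = 1 := by
    -- conjugating `b` by `a` multiplies it by the central element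
    have e1 : a * b * a⁻¹ = a * a * b := by
      rw [← hcomm, commutatorElement_def]; group
    have e2 : Commute (a * a) b := by
      rw [hbb]; exact (Commute.refl b).mul_left (Commute.refl b)
    have e3 : a * (b * b) * a⁻¹ = b * b := by rw [← hbb]; group
    have e4 : a * (b * b) * a⁻¹ = (a * a) * (a * a) * (b * b) := by
      calc a * (b * b) * a⁻¹ = (a * b * a⁻¹) * (a * b * a⁻¹) := by group
        _ = (a * a * b) * (a * a * b) := by rw [e1]
        _ = (a * a) * (a * a) * (b * b) := e2.symm.mul_mul_mul_comm _ _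
    exact mul_right_cancel (b := b * b) (by rw [← e4, e3, one_mul])
  refine ⟨a, hWn a.2, b, hWn b.2, ?_, congrArg Subtype.val hbb.symm,
    congrArg Subtype.val hcomm, fun v hv => (hrel v Submodule.mem_top).2.2 hv⟩
  refine orderOf_eq_prime ?_ ?_
  · rw [pow_two, ← Subgroup.coe_mul, ← Subgroup.coe_mul, hsq, Subgroup.coe_one]
  · rw [← Subgroup.coe_mul]
    exact fun h => hne (Subtype.ext h)

end Main

end Cfsg.Agent.Lib.BenderOne.NodeA.Quaternion
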