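import Cfsg.Agent.Lib.Quadratic.PStable
import Cfsg.Agent.Lib.Quadratic.QdProps
import Cfsg.Agent.Lib.Cores.Pi

/-!
# Stability for node A: basic lemmas

Lifting `p`-radical elements from a normal subgroup, and stability of groups of odd order.
-/

set_option autoImplicit false
set_option linter.style.haveILetI false
set_option linter.unusedSectionVars false

namespace Cfsg.Agent.Lib.BenderOne.NodeA.Stab

open Subgroup
open Cfsg.Agent.Lib.Quadratic (InPRad Quad inPRad_iff)

universe u v

variable {Γ : Type u} [Group Γ] [Finite Γ]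

/-- A finite group without involutions has odd order. -/
theorem odd_card_of_no_involution {H : Subgroup Γ} (h : ∀ s ∈ H, orderOf s ≠ 2) :
    Odd (Nat.card H) := by
  rw [← Nat.not_even_iff_odd, even_iff_two_dvd]
  intro h2
  haveI : Fact (Nat.Prime 2) := ⟨Nat.prime_two⟩
  obtain ⟨s, hs⟩ := exists_prime_orderOf_dvd_card' 2 h2
  exact h s s.2 (by rw [Subgroup.orderOf_coe, hs])

/-- An element of odd order generates the same subgroup as its square. -/
theorem mem_zpowers_sq {g : Γ} (h : Odd (orderOf g)) : g ∈ zpowers (g * g) := by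
  obtain ⟨k, hk⟩ := h
  refine ⟨((k : ℤ) + 1), ?_⟩
  show (g * g) ^ ((k : ℤ) + 1) = g
  rw [← pow_two, ← zpow_natCast g 2, ← zpow_mul,
    show ((2 : ℕ) : ℤ) * ((k : ℤ) + 1) = ((orderOf g : ℕ) : ℤ) + 1 by rw [hk]; push_cast; ring,
    zpow_add, zpow_natCast, pow_orderOf_eq_one, one_mul, zpow_one]

theorem odd_orderOf_of_mem {H : Subgroup Γ} (hH : Odd (Nat.card H)) {g : Γ} (hg : g ∈ H) :
    Odd (orderOf g) :=
  hH.of_dvd_nat ((Subgroup.orderOf_mk g hg) ▸ orderOf_dvd_natCard (⟨g, hg⟩ : H))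

variable {p : ℕ} [Fact p.Prime]

/-- Elements of a normal subgroup all of whose conjugates are `p`-radical in it are `p`-radical. -/
theorem inPRad_lift (R : Subgroup Γ) (hR : R.Normal) (K : Subgroup Γ) [(K.subgroupOf R).Normal]
    {y : Γ} (hy : y ∈ R)
    (h : ∀ g : Γ, InPRad p (K.subgroupOf R) (⟨g * y * g⁻¹, hR.conj_mem y hy g⟩ : R)) :
    InPRad p K y := by
  set P0 : Subgroup R :=
    (Cfsg.pCore p (R ⧸ K.subgroupOf R)).comap (QuotientGroup.mk' (K.subgroupOf R))
  have hle : Subgroup.normalClosure {y} ≤ P0.map R.subtype := by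
    refine (closure_le _).2 fun z hz => ?_
    obtain ⟨a, ha, haz⟩ := Group.mem_conjugatesOfSet_iff.1 hz
    rw [Set.mem_singleton_iff] at ha
    subst ha
    obtain ⟨g, rfl⟩ := isConj_iff.1 haz
    exact ⟨⟨g * a * g⁻¹, hR.conj_mem a hy g⟩, (inPRad_iff _ _).1 (h g), rfl⟩
  refine ⟨Subgroup.normalClosure {y}, inferInstance, subset_normalClosure rfl, fun d hd => ?_⟩
  obtain ⟨d', hd', rfl⟩ := hle hd
  obtain ⟨k, hk⟩ := Cores.pCore_isPGroup (G := R ⧸ K.subgroupOf R) p ⟨_, hd'⟩
  refine ⟨k, ?_⟩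
  have h1 := congrArg Subtype.val hk
  rw [SubmonoidClass.coe_pow, OneMemClass.coe_one] at h1
  have h2 : d' ^ p ^ k ∈ K.subgroupOf R := (QuotientGroup.eq_one_iff _).1 h1
  simpa [mem_subgroupOf] using h2

/-- A group with an image `SL(2,p)` of a subgroup has even order. -/
theorem not_odd_of_sl2 (hp : p ≠ 2) {K : Subgroup Γ}
    (f : K →* Matrix.SpecialLinearGroup (Fin 2) (ZMod p)) (hf : Function.Surjective f) :
    ¬ Odd (Nat.card Γ) := by
  intro hodd
  have hp2 : (2 : ZMod p) ≠ 0 := by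
    intro h
    apply hp
    have : ((2 : ℕ) : ZMod p) = 0 := by exact_mod_cast h
    rw [ZMod.natCast_eq_zero_iff] at this
    exact (Nat.prime_dvd_prime_iff_eq Fact.out Nat.prime_two).1 this
  let m : Matrix.SpecialLinearGroup (Fin 2) (ZMod p) :=
    ⟨-1, by simp [Matrix.det_neg]⟩
  have hm1 : m ≠ 1 := by
    intro h
    have h' := congrFun (congrFun (congrArg Subtype.val h) 0) 0
    simp [m] at h'
    exact hp2 (by linear_combination (-1 : ZMod p) * h')
  have hm2 : orderOf m = 2 := by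
    haveI : Fact (Nat.Prime 2) := ⟨Nat.prime_two⟩
    exact orderOf_eq_prime (Subtype.ext (by rw [Matrix.SpecialLinearGroup.coe_pow]; simp [m])) hm1
  obtain ⟨k, hk⟩ := hf m
  have h2 : 2 ∣ Nat.card K := by
    rw [← hm2, ← hk]
    exact (orderOf_map_dvd f k).trans (orderOf_dvd_natCard k)
  exact (Nat.not_even_iff_odd.2 hodd) (even_iff_two_dvd.2 (h2.trans (Subgroup.card_subgroup_dvd_card K)))

/-- A quadratic element of a normal subgroup of odd order is `p`-radical on a normal `p`-subgroup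
inside it. -/
theorem inPRad_of_mem_odd (hp : p ≠ 2) (R : Subgroup Γ) (hR : R.Normal) (hRodd : Odd (Nat.card R))
    {V : Subgroup Γ} (hV : V.Normal) (hVR : V ≤ R) (hVp : IsPGroup p V) {x : Γ} (hxR : x ∈ R)
    (hq : Quad V x) : InPRad p (centralizer (V : Set Γ)) x := by
  haveI := hV
  refine inPRad_lift R hR _ hxR fun g => ?_
  have hq' : Quad (V.subgroupOf R) (⟨g * x * g⁻¹, hR.conj_mem x hxR g⟩ : R) := by
    intro v hv
    apply Subtype.ext
    have h := hq _ (hV.conj_mem' _ (mem_subgroupOf.1 hv) g)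
    have h' := congrArg (fun z => g * z * g⁻¹) h
    simp only [commutatorElement_def] at h' ⊢
    simpa [mul_assoc] using h'
  have hCeq : centralizer ((V.subgroupOf R : Subgroup R) : Set R) =
      (centralizer (V : Set Γ)).subgroupOf R := by
    ext z
    simp only [mem_centralizer_iff, mem_subgroupOf, SetLike.mem_coe]
    constructor
    · intro h v hv
      exact congrArg Subtype.val (h ⟨v, hVR hv⟩ hv)
    · intro h v hv
      exact Subtype.ext (h _ hv)
  rcases Quadratic.inPRad_or_involves hp _ R le_rfl (V.subgroupOf R) inferInstance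
      (hVp.of_equiv (subgroupOfEquivOfLe hVR).symm) _ hq' with h | h
  · rwa [hCeq] at h
  · exfalso
    obtain ⟨K, N, hN, ⟨e⟩⟩ := h
    exact not_odd_of_sl2 hp
      ((Quadratic.linPart p).comp (e.toMonoidHom.comp (QuotientGroup.mk' (N.subgroupOf K))))
      (Quadratic.linPart_surjective.comp (e.surjective.comp (QuotientGroup.mk'_surjective _))) hRodd

end Cfsg.Agent.Lib.BenderOne.NodeA.Stab
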