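import Cfsg.Agent.Lib.BenderOne.NodeA.StabBase
import Cfsg.Agent.Lib.BenderOne.NodeA.Quaternion

/-!
# Stability for node A: the representation

Involutions commute modulo the odd core, are conjugate and two commute: in a representation where
they act non-trivially and whose image has no `p`-core, a quadratic element lies in the odd core.
-/

set_option autoImplicit false
set_option linter.style.haveILetI false
set_option linter.unusedSectionVars false

namespace Cfsg.Agent.Lib.BenderOne.NodeA.Stab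

open Subgroup
open Cfsg.Agent.Lib.Quadratic (InPRad inPRad_iff)
open scoped commutatorElement

universe u v

variable {p : ℕ} [Fact p.Prime] {V : Type v} [AddCommGroup V] [Module (ZMod p) V] [Finite V]
  {Γ : Type u} [Group Γ] [Finite Γ]

variable (σ : Γ →* Module.End (ZMod p) V)

theorem two_ne_zero_mod (hp : p ≠ 2) : (2 : ZMod p) ≠ 0 := by
  intro h
  apply hp
  have : ((2 : ℕ) : ZMod p) = 0 := by exact_mod_cast h
  rw [ZMod.natCast_eq_zero_iff] at this
  exact (Nat.prime_dvd_prime_iff_eq Fact.out Nat.prime_two).1 this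

theorem apply_mul (g h : Γ) (w : V) : σ (g * h) w = σ g (σ h w) := by
  rw [map_mul, Module.End.mul_apply]

theorem map_mul_inv (g : Γ) : σ g * σ g⁻¹ = 1 := by rw [← map_mul, mul_inv_cancel, map_one]

theorem map_inv_mul (g : Γ) : σ g⁻¹ * σ g = 1 := by rw [← map_mul, inv_mul_cancel, map_one]

theorem inv_apply_of_fixed {g : Γ} {w : V} (h : σ g w = w) : σ g⁻¹ w = w := by
  conv_lhs => rw [← h]
  rw [← Module.End.mul_apply, map_inv_mul, Module.End.one_apply]

theorem apply_apply_inv (g : Γ) (w : V) : σ g (σ g⁻¹ w) = w := by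
  rw [← Module.End.mul_apply, map_mul_inv, Module.End.one_apply]

/-- The elements whose image commutes with the images of `S`. -/
def commSub (S : Set Γ) : Subgroup Γ where
  carrier := {g | ∀ r ∈ S, σ g * σ r = σ r * σ g}
  one_mem' r _ := by rw [map_one, one_mul, mul_one]
  mul_mem' {a b} ha hb r hr := by
    rw [map_mul, mul_assoc, hb r hr, ← mul_assoc, ha r hr, mul_assoc]
  inv_mem' {a} ha r hr := by
    calc σ a⁻¹ * σ r = σ a⁻¹ * (σ r * σ a) * σ a⁻¹ := by
          rw [mul_assoc, mul_assoc, map_mul_inv, mul_one]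
      _ = σ r * σ a⁻¹ := by rw [← ha r hr, ← mul_assoc, map_inv_mul, one_mul]

theorem commSub_normal {S : Set Γ} (hS : ∀ g : Γ, ∀ r ∈ S, g * r * g⁻¹ ∈ S) :
    (commSub σ S).Normal := by
  refine ⟨fun a ha g r hr => ?_⟩
  have h := ha (g⁻¹ * r * g) (by simpa using hS g⁻¹ r hr)
  have key := congrArg (fun z => σ g * z * σ g⁻¹) h
  simp only [← map_mul] at key ⊢
  simpa [mul_assoc] using key

theorem comm_of_quadratic (hp : p ≠ 2) {d e : Module.End (ZMod p) V} (hd : d * d = 0)
    (he : e * e = 1)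
    (h1 : e * ((1 + d) * e * (1 - d)) = (1 + d) * e * (1 - d) * e)
    (h2 : e * ((1 + (d + d)) * e * (1 - (d + d))) = (1 + (d + d)) * e * (1 - (d + d)) * e) :
    d * e = e * d := by
  have a1 := sub_eq_zero.2 h1
  have a2 := sub_eq_zero.2 h2
  have he' : ∀ z, e * (e * z) = z := fun z => by rw [← mul_assoc, he, one_mul]
  have key : (e * ((1 + d) * e * (1 - d)) - (1 + d) * e * (1 - d) * e) * 4 -
      (e * ((1 + (d + d)) * e * (1 - (d + d))) - (1 + (d + d)) * e * (1 - (d + d)) * e) =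
      (e * d * e + e * d * e - d * (e * e) - e * (e * d)) * 2 := by noncomm_ring
  rw [a1, a2, zero_mul, sub_zero, he, he', mul_one] at key
  have h4 : (e * d * e - d) * 4 = 0 := by rw [key]; noncomm_ring
  have h4' : ((2 : ZMod p) * 2) • (e * d * e - d) = 0 := by
    rw [mul_smul, two_smul, two_smul, ← h4]
    noncomm_ring
  have h0 := (smul_eq_zero.1 h4').resolve_left (mul_ne_zero (two_ne_zero_mod hp) (two_ne_zero_mod hp))
  calc d * e = e * d * e * e := by rw [sub_eq_zero.1 h0]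
    _ = e * d := by rw [mul_assoc, he, mul_one]

variable {σ}

/-- Standing hypotheses. -/
structure Hyp (σ : Γ →* Module.End (ZMod p) V) : Prop where
  ne_two : p ≠ 2
  four : ∃ s t : Γ, orderOf s = 2 ∧ orderOf t = 2 ∧ s ≠ t ∧ s * t = t * s
  comm : ∀ s t : Γ, orderOf s = 2 → orderOf t = 2 → ⁅s, t⁆ ∈ Cfsg.oddCore Γ
  conj : ∀ s t : Γ, orderOf s = 2 → orderOf t = 2 → ∃ g, g * s * g⁻¹ = t
  moves : ∀ s : Γ, orderOf s = 2 → σ s ≠ 1
  core : ∀ N : Subgroup Γ, N.Normal → (∀ n ∈ N, ∃ k : ℕ, σ (n ^ p ^ k) = 1) → N ≤ σ.ker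

theorem Hyp.odd_ker (H : Hyp σ) : Odd (Nat.card σ.ker) :=
  odd_card_of_no_involution fun s hs h2 => H.moves s h2 hs

theorem map_eq_one_of_sq (hker : Odd (Nat.card σ.ker)) {g : Γ} (hg : Odd (orderOf g))
    (h : σ (g * g) = 1) : σ g = 1 :=
  (zpowers_le.2 (show g * g ∈ σ.ker from h)) (mem_zpowers_sq hg)

theorem exists_involution (H : Hyp σ) {g : Γ} (h2 : σ (g * g) = 1) (h1 : σ g ≠ 1) :
    ∃ s, orderOf s = 2 ∧ σ s = σ g := by
  obtain ⟨k, hk⟩ := odd_orderOf_of_mem H.odd_ker (show g * g ∈ σ.ker from h2)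
  haveI : Fact (Nat.Prime 2) := ⟨Nat.prime_two⟩
  have hσ : σ (g ^ (2 * k + 1)) = σ g := by
    rw [pow_succ, map_mul, pow_mul, map_pow, pow_two, h2, one_pow, one_mul]
  refine ⟨g ^ (2 * k + 1), orderOf_eq_prime ?_ ?_, hσ⟩
  · rw [← pow_mul, mul_comm, pow_mul, pow_two, ← hk, pow_orderOf_eq_one]
  · intro h
    rw [h, map_one] at hσ
    exact h1 hσ.symm

theorem involution_comm_mem {s t : Γ} (hs : s * s = 1) (ht : t * t = 1) :
    s * ⁅s, t⁆ * s = ⁅s, t⁆⁻¹ := by
  have hs' : s⁻¹ = s := inv_eq_of_mul_eq_one_right hs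
  have ht' : t⁻¹ = t := inv_eq_of_mul_eq_one_right ht
  rw [commutatorElement_def, mul_inv_rev, mul_inv_rev, mul_inv_rev, inv_inv, inv_inv, hs', ht']
  simp only [mul_assoc]
  rw [← mul_assoc s s, hs, one_mul]

theorem sq_of_orderOf_two {s : Γ} (hs : orderOf s = 2) : s * s = 1 := by
  rw [← pow_two, ← hs, pow_orderOf_eq_one]

theorem orderOf_conj' (g : Γ) {s : Γ} (hs : orderOf s = 2) : orderOf (g * s * g⁻¹) = 2 := by
  rw [show g * s * g⁻¹ = MulAut.conj g s from rfl, MulEquiv.orderOf_eq, hs]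

/-- The images of involutions commute once they commute with the odd core. -/
theorem involutions_comm (H : Hyp σ)
    (hcen : ∀ s : Γ, orderOf s = 2 → s ∈ commSub σ (Cfsg.oddCore Γ : Set Γ))
    {s t : Γ} (hs : orderOf s = 2) (ht : orderOf t = 2) : σ s * σ t = σ t * σ s := by
  have hcR : ⁅s, t⁆ ∈ Cfsg.oddCore Γ := H.comm s t hs ht
  have h1 : σ (s * ⁅s, t⁆ * s) = σ ⁅s, t⁆ := by
    rw [map_mul, map_mul, hcen s hs _ hcR, mul_assoc, ← map_mul σ s s, sq_of_orderOf_two hs,
      map_one, mul_one]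
  rw [involution_comm_mem (sq_of_orderOf_two hs) (sq_of_orderOf_two ht)] at h1
  have h2 : σ (⁅s, t⁆ * ⁅s, t⁆) = 1 := by
    rw [map_mul]; nth_rewrite 1 [← h1]; exact map_inv_mul σ _
  have hc1 : σ ⁅s, t⁆ = 1 :=
    map_eq_one_of_sq H.odd_ker (odd_orderOf_of_mem Cores.oddCore_odd hcR) h2
  rw [← map_mul, ← map_mul, show s * t = ⁅s, t⁆ * (t * s) by
    rw [commutatorElement_def]; simp [mul_assoc], map_mul, hc1, one_mul]

/-- A quadratic element centralises the odd core in the image. -/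
theorem quad_comm_core (H : Hyp σ) {x : Γ} (hxodd : Odd (orderOf x))
    (hx : (σ x - 1) * (σ x - 1) = 0) {r : Γ} (hr : r ∈ Cfsg.oddCore Γ) :
    σ ⁅x, r⁆ = 1 := by
  set R := Cfsg.oddCore Γ with hRdef
  have hR : R.Normal := inferInstance
  have hc : ⁅x, r⁆ ∈ R := by
    rw [commutatorElement_def]
    exact R.mul_mem (hR.conj_mem r hr x) (R.inv_mem hr)
  suffices h : InPRad p σ.ker ⁅x, r⁆ by
    obtain ⟨D, hD, hcD, hpow⟩ := h
    exact H.core D hD hpow hcD
  refine inPRad_lift R hR σ.ker hc fun g => ?_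
  set y := g * x * g⁻¹ with hy
  set r' := g * r * g⁻¹ with hr'
  have hr'R : r' ∈ R := hR.conj_mem r hr g
  have hgc : g * ⁅x, r⁆ * g⁻¹ = ⁅y, r'⁆ := by
    simp only [hy, hr', commutatorElement_def, mul_inv_rev, inv_inv, mul_assoc, inv_mul_cancel_left]
  have hyq : (σ y - 1) * (σ y - 1) = 0 := by
    have e3 : σ y - 1 = σ g * (σ x - 1) * σ g⁻¹ := by
      rw [hy, map_mul, map_mul, mul_sub, sub_mul, mul_one, map_mul_inv]
    rw [e3, show σ g * (σ x - 1) * σ g⁻¹ * (σ g * (σ x - 1) * σ g⁻¹) =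
      σ g * ((σ x - 1) * (σ g⁻¹ * σ g) * (σ x - 1)) * σ g⁻¹ by noncomm_ring, map_inv_mul, mul_one,
      hx, mul_zero, zero_mul]
  have hyodd : Odd (orderOf y) := by
    rw [hy, show g * x * g⁻¹ = MulAut.conj g x from rfl, MulEquiv.orderOf_eq]; exact hxodd
  -- the odd group generated by `R` and `y`
  set L := (zpowers (y : Γ ⧸ R)).comap (QuotientGroup.mk' R) with hL
  have hRL : R ≤ L := fun z hz => by
    show (z : Γ ⧸ R) ∈ zpowers (y : Γ ⧸ R)
    rw [(QuotientGroup.eq_one_iff z).2 hz]; exact one_mem _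
  have hyL : y ∈ L := mem_zpowers (y : Γ ⧸ R)
  have hLodd : Odd (Nat.card L) := by
    refine odd_card_of_no_involution fun s hs h2 => ?_
    have h3 : orderOf (s : Γ ⧸ R) ∣ orderOf y :=
      (orderOf_dvd_of_mem_zpowers hs).trans (orderOf_map_dvd (QuotientGroup.mk' R) y)
    have h4 : orderOf (s : Γ ⧸ R) ∣ 2 := h2 ▸ orderOf_map_dvd (QuotientGroup.mk' R) s
    have h5 := Nat.dvd_gcd h3 h4
    rw [(Nat.coprime_two_right.2 hyodd).gcd_eq_one, Nat.dvd_one, orderOf_eq_one_iff,
      QuotientGroup.eq_one_iff] at h5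
    have h6 := odd_orderOf_of_mem Cores.oddCore_odd h5
    rw [h2] at h6
    exact Nat.not_odd_iff_even.2 even_two h6
  have hyrad : InPRad p (σ.comp L.subtype).ker (⟨y, hyL⟩ : L) := by
    haveI : Module.Finite (ZMod p) V := Module.Finite.of_finite
    let M := LinearMap.toMatrixAlgEquiv (Module.finBasis (ZMod p) V)
    let ρ : L →* Matrix (Fin (Module.finrank (ZMod p) V)) (Fin (Module.finrank (ZMod p) V))
        (ZMod p) := M.toMonoidHom.comp (σ.comp L.subtype)
    have hker : ρ.ker = (σ.comp L.subtype).ker := by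
      ext z
      simp only [MonoidHom.mem_ker]
      exact ⟨fun h => M.injective (h.trans (map_one M).symm), fun h =>
        (congrArg M h).trans (map_one M)⟩
    rw [← hker]
    by_contra hnot
    have hρy : (ρ ⟨y, hyL⟩ - 1) * (ρ ⟨y, hyL⟩ - 1) = 0 := by
      show (M (σ y) - 1) * (M (σ y) - 1) = 0
      rw [← map_one M, ← map_sub, ← map_mul, hyq, map_zero]
    obtain ⟨K, f, -, hf, -, -⟩ := Quadratic.exists_natural_of_notInPRad H.ne_two ρ hρy hnot
    exact not_odd_of_sl2 H.ne_two f hf hLodd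
  obtain ⟨D, hD, hyD, hpow⟩ := hyrad
  have hLr : ∀ z : R, (z : Γ) ∈ L := fun z => hRL z.2
  let ι : R →* L := Subgroup.inclusion hRL
  haveI := hD
  refine ⟨D.comap ι, inferInstance, ?_, fun d hd => ?_⟩
  · show (⟨g * ⁅x, r⁆ * g⁻¹, hLr ⟨_, hR.conj_mem _ hc g⟩⟩ : L) ∈ D
    have : (⟨g * ⁅x, r⁆ * g⁻¹, hLr ⟨_, hR.conj_mem _ hc g⟩⟩ : L) =
        (⟨y, hyL⟩ : L) * ((⟨r', hRL hr'R⟩ : L) * (⟨y, hyL⟩ : L)⁻¹ * (⟨r', hRL hr'R⟩ : L)⁻¹) :=
      Subtype.ext (by
        show g * ⁅x, r⁆ * g⁻¹ = _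
        rw [hgc, commutatorElement_def]; simp [mul_assoc])
    rw [this]
    exact D.mul_mem hyD (hD.conj_mem _ (D.inv_mem hyD) _)
  · obtain ⟨k, hk⟩ := hpow (ι d) hd
    exact ⟨k, by simpa [mem_subgroupOf, MonoidHom.mem_ker, ι] using hk⟩

/-- A quaternion pair with central involution acting as `t`. -/
structure Pair (σ : Γ →* Module.End (ZMod p) V) (C : Subgroup Γ) (t f g : Γ) : Prop where
  fmem : f ∈ C
  gmem : g ∈ C
  fsq : σ (f * f) = σ t
  gsq : σ (g * g) = σ t
  comm : σ (f * g) = σ (t * (g * f))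
  ffix : ∀ w, σ t w = w → σ f w = w
  gfix : ∀ w, σ t w = w → σ g w = w

theorem Pair.conj {C : Subgroup Γ} (hC : C.Normal) {t f g : Γ} (P : Pair σ C t f g) (h : Γ) :
    Pair σ C (h * t * h⁻¹) (h * f * h⁻¹) (h * g * h⁻¹) := by
  have hfix : ∀ a : Γ, (∀ w, σ t w = w → σ a w = w) → ∀ w, σ (h * t * h⁻¹) w = w →
      σ (h * a * h⁻¹) w = w := by
    intro a ha w hw
    rw [apply_mul, apply_mul] at hw
    have h1 : σ t (σ h⁻¹ w) = σ h⁻¹ w := by
      have := congrArg (σ h⁻¹) hw
      rwa [← Module.End.mul_apply (σ h⁻¹) (σ h), map_inv_mul, Module.End.one_apply] at this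
    rw [apply_mul, apply_mul, ha _ h1, apply_apply_inv]
  refine ⟨hC.conj_mem f P.fmem h, hC.conj_mem g P.gmem h, ?_, ?_, ?_, hfix f P.ffix, hfix g P.gfix⟩
  · rw [show h * f * h⁻¹ * (h * f * h⁻¹) = h * (f * f) * h⁻¹ by group, map_mul, map_mul, P.fsq,
      ← map_mul, ← map_mul]
  · rw [show h * g * h⁻¹ * (h * g * h⁻¹) = h * (g * g) * h⁻¹ by group, map_mul, map_mul, P.gsq,
      ← map_mul, ← map_mul]
  · rw [show h * f * h⁻¹ * (h * g * h⁻¹) = h * (f * g) * h⁻¹ by group,
      show h * t * h⁻¹ * (h * g * h⁻¹ * (h * f * h⁻¹)) = h * (t * (g * f)) * h⁻¹ by group,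
      map_mul, map_mul, P.comm, ← map_mul, ← map_mul]

/-- The fixed vectors of `g`. -/
abbrev fixed (σ : Γ →* Module.End (ZMod p) V) (g : Γ) : Submodule (ZMod p) V :=
  LinearMap.ker (σ g - 1)

theorem mem_fixed {g : Γ} {w : V} : w ∈ fixed σ g ↔ σ g w = w := by
  rw [LinearMap.mem_ker, LinearMap.sub_apply, Module.End.one_apply, sub_eq_zero]

theorem card_fixed_conj (g h : Γ) :
    Nat.card (fixed σ (h * g * h⁻¹)) = Nat.card (fixed σ g) := by
  refine Nat.card_congr
    { toFun := fun w => ⟨σ h⁻¹ w.1, mem_fixed.2 ?_⟩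
      invFun := fun w => ⟨σ h w.1, mem_fixed.2 ?_⟩
      left_inv := fun w => Subtype.ext (apply_apply_inv σ h _)
      right_inv := fun w => Subtype.ext (by
        show σ h⁻¹ (σ h w.1) = w.1
        rw [← Module.End.mul_apply, map_inv_mul, Module.End.one_apply]) }
  · have hw := congrArg (σ h⁻¹) (mem_fixed.1 w.2)
    rw [← apply_mul] at hw
    rw [← apply_mul, show g * h⁻¹ = h⁻¹ * (h * g * h⁻¹) by group]
    exact hw
  · rw [← apply_mul, show h * g * h⁻¹ * h = h * g by group, apply_mul, mem_fixed.1 w.2]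

/-- Elements of the two supports commute in the image. -/
theorem pair_comm (H : Hyp σ) {C : Subgroup Γ} (hC : C.Normal)
    (hCR : C ≤ commSub σ (Cfsg.oddCore Γ : Set Γ))
    (hCI : C ≤ commSub σ {s : Γ | orderOf s = 2})
    (hII : ∀ a b : Γ, orderOf a = 2 → orderOf b = 2 → σ a * σ b = σ b * σ a)
    {s t f g : Γ} (hs : orderOf s = 2) (ht : orderOf t = 2) (hst : σ (s * t) ≠ 1)
    (hf : f ∈ C) (hg : g ∈ C) (hfs : σ (f * f) = σ s)
    (hffix : ∀ w, σ s w = w → σ f w = w) (hgfix : ∀ w, σ t w = w → σ g w = w) :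
    σ f * σ g = σ g * σ f := by
  classical
  set z := ⁅f, g⁆ with hz
  have hpres : ∀ a ∈ C, ∀ u : Γ, orderOf u = 2 → ∀ w, σ u w = w → σ u (σ a w) = σ a w := by
    intro a ha u hu w hw
    rw [← Module.End.mul_apply, ← hCI ha u hu, Module.End.mul_apply, hw]
  let N : Subgroup Γ :=
    { carrier := {a | a ∈ C ∧ ∀ w, σ s w = w ∨ σ t w = w → σ a w = w}
      one_mem' := ⟨C.one_mem, fun w _ => by rw [map_one]; rfl⟩
      mul_mem' := fun {a b} ha hb => ⟨C.mul_mem ha.1 hb.1, fun w hw => by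
        rw [apply_mul, hb.2 w hw, ha.2 w hw]⟩
      inv_mem' := fun {a} ha => ⟨C.inv_mem ha.1, fun w hw =>
        inv_apply_of_fixed σ (ha.2 w hw)⟩ }
  have hNmem : ∀ a, a ∈ N ↔ a ∈ C ∧ ∀ w, σ s w = w ∨ σ t w = w → σ a w = w := fun _ => Iff.rfl
  have hNodd : Odd (Nat.card N) := by
    refine odd_card_of_no_involution fun w hw h2 => ?_
    rw [hNmem] at hw
    have hle : fixed σ s ⊔ fixed σ t ≤ fixed σ w :=
      sup_le (fun v hv => mem_fixed.2 (hw.2 v (Or.inl (mem_fixed.1 hv))))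
        (fun v hv => mem_fixed.2 (hw.2 v (Or.inr (mem_fixed.1 hv))))
    have hcard : ∀ a b : Γ, orderOf a = 2 → orderOf b = 2 →
        Nat.card (fixed σ a) = Nat.card (fixed σ b) := by
      intro a b ha hb
      obtain ⟨h, rfl⟩ := H.conj a b ha hb
      exact (card_fixed_conj a h).symm
    have hsw : fixed σ s = fixed σ w :=
      SetLike.coe_injective (Set.eq_of_subset_of_ncard_le
        (SetLike.coe_subset_coe.2 (((le_sup_left : fixed σ s ≤ fixed σ s ⊔ fixed σ t)).trans hle))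
        (by rw [← Nat.card_coe_set_eq, ← Nat.card_coe_set_eq]; exact (hcard w s h2 hs).le)
        (Set.toFinite _))
    have htw : fixed σ t = fixed σ w :=
      SetLike.coe_injective (Set.eq_of_subset_of_ncard_le
        (SetLike.coe_subset_coe.2 (((le_sup_right : fixed σ t ≤ fixed σ s ⊔ fixed σ t)).trans hle))
        (by rw [← Nat.card_coe_set_eq, ← Nat.card_coe_set_eq]; exact (hcard w t h2 ht).le)
        (Set.toFinite _))
    have hfix : ∀ v, σ s v = v ↔ σ t v = v := fun v => by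
      rw [← mem_fixed, ← mem_fixed, hsw, htw]
    apply hst
    refine LinearMap.ext fun v => ?_
    have e1 : σ s (v + σ s v) = v + σ s v := by
      rw [map_add, ← apply_mul, sq_of_orderOf_two hs, map_one, Module.End.one_apply, add_comm]
    have e2 : σ t (v + σ t v) = v + σ t v := by
      rw [map_add, ← apply_mul, sq_of_orderOf_two ht, map_one, Module.End.one_apply, add_comm]
    replace e1 := (hfix _).1 e1
    replace e2 := (hfix _).2 e2
    rw [map_add] at e1 e2
    rw [apply_mul, Module.End.one_apply]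
    have hts : σ t (σ s v) = σ s (σ t v) := by
      rw [← Module.End.mul_apply, ← hII s t hs ht, Module.End.mul_apply]
    rw [hts] at e1
    -- `t v + s t v = v + s v` and `s v + s t v = v + t v`
    have e3 : (2 : ZMod p) • (σ s (σ t v) - v) = 0 := by
      rw [two_smul]
      calc σ s (σ t v) - v + (σ s (σ t v) - v)
          = (σ t v + σ s (σ t v)) + (σ s v + σ s (σ t v)) - (v + σ s v) - (v + σ t v) := by abel
        _ = 0 := by rw [e1, e2]; abel
    exact sub_eq_zero.1 ((smul_eq_zero.1 e3).resolve_left (two_ne_zero_mod H.ne_two))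
  have hzN : z ∈ N := by
    rw [hNmem]
    refine ⟨?_, ?_⟩
    · rw [hz, commutatorElement_def]
      exact C.mul_mem (C.mul_mem (C.mul_mem hf hg) (C.inv_mem hf)) (C.inv_mem hg)
    · intro w hw
      rw [hz, commutatorElement_def, apply_mul, apply_mul, apply_mul]
      rcases hw with hw | hw
      · rw [inv_apply_of_fixed σ (hffix _ (hpres _ (C.inv_mem hg) s hs w hw)), apply_apply_inv,
          hffix w hw]
      · rw [inv_apply_of_fixed σ (hgfix w hw),
          hgfix _ (hpres _ (C.inv_mem hf) t ht w hw), apply_apply_inv]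
  have hzR : z ∈ Cfsg.oddCore Γ := by
    haveI := hC
    haveI hn : (N.subgroupOf C).Normal := by
      refine ⟨fun a ha b => ?_⟩
      rw [mem_subgroupOf, hNmem] at ha ⊢
      refine ⟨C.mul_mem (C.mul_mem b.2 ha.1) (C.inv_mem b.2), fun w hw => ?_⟩
      show σ ((b : Γ) * (a : Γ) * (b : Γ)⁻¹) w = w
      rw [apply_mul, apply_mul, ha.2 _ (hw.imp (hpres _ (C.inv_mem b.2) s hs w)
        (hpres _ (C.inv_mem b.2) t ht w)), apply_apply_inv]
    have h1 : N.subgroupOf C ≤ Cfsg.oddCore C := Cores.le_oddCore (by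
      rw [Nat.card_congr (subgroupOfEquivOfLe (H := N) (K := C) fun a ha => ha.1).toEquiv]
      exact hNodd)
    haveI : (Cfsg.oddCore C).Characteristic := Cores.pPrimeCore_characteristic 2
    haveI := Cores.normal_map_subtype C (Cfsg.oddCore C)
    have h2 : (Cfsg.oddCore C).map C.subtype ≤ Cfsg.oddCore Γ := Cores.le_oddCore (by
      rw [Subgroup.card_map_of_injective C.subtype_injective]
      exact Cores.oddCore_odd)
    exact h2 ⟨⟨z, hzN.1⟩, h1 (mem_subgroupOf.2 hzN), rfl⟩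
  have hzc : ∀ a ∈ C, σ a * σ z = σ z * σ a := fun a ha => hCR ha z hzR
  have hfg : σ f * σ g = σ z * (σ g * σ f) := by
    rw [← map_mul, ← map_mul, ← map_mul, hz, commutatorElement_def]
    congr 1
    group
  have hz1 : σ z = 1 := by
    refine map_eq_one_of_sq H.odd_ker (odd_orderOf_of_mem Cores.oddCore_odd hzR) ?_
    have h := hCI hg s hs
    rw [← hfs, map_mul] at h
    have h' : σ f * σ f * σ g = σ z * σ z * (σ g * (σ f * σ f)) := by
      calc σ f * σ f * σ g = σ f * (σ z * (σ g * σ f)) := by rw [mul_assoc, hfg]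
        _ = σ z * (σ f * σ g) * σ f := by
            rw [← mul_assoc (σ f), hzc f hf]; simp only [mul_assoc]
        _ = _ := by rw [hfg]; simp only [mul_assoc]
    rw [← h] at h'
    have hu : IsUnit (σ g * (σ f * σ f)) := by
      rw [← map_mul, ← map_mul]; exact (Group.isUnit _).map σ
    rw [map_mul]
    exact hu.mul_eq_right.1 h'.symm
  rw [hfg, hz1, one_mul]

theorem odd_orderOf_quad (H : Hyp σ) {x : Γ} (hx : (σ x - 1) * (σ x - 1) = 0) :
    Odd (orderOf x) := by
  haveI : Nontrivial (Module.End (ZMod p) V) := by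
    obtain ⟨s, -, hs, -⟩ := H.four
    exact ⟨σ s, 1, H.moves s hs⟩
  haveI : CharP (Module.End (ZMod p) V) p :=
    charP_of_injective_algebraMap (RingHom.injective (algebraMap (ZMod p) _)) p
  have h := sub_pow_char_of_commute (p := p) (Commute.one_right (σ x))
  have hz : (σ x - 1) ^ p = 0 :=
    pow_eq_zero_of_le (Fact.out : p.Prime).two_le ((sq _).trans hx)
  rw [one_pow, hz, ← map_pow] at h
  have h1 : x ^ p ∈ σ.ker := sub_eq_zero.1 h.symm
  obtain ⟨k, hk⟩ : Odd (orderOf (x ^ p)) := odd_orderOf_of_mem H.odd_ker h1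
  refine Odd.of_dvd_nat (((Fact.out : p.Prime).odd_of_ne_two H.ne_two).mul ⟨k, hk⟩) ?_
  exact orderOf_dvd_of_pow_eq_one (by rw [pow_mul, pow_orderOf_eq_one])

/-- A quadratic element lies in the odd core. -/
theorem stab_rep (H : Hyp σ) {x : Γ}
    (hx : (σ x - 1) * (σ x - 1) = 0) : x ∈ Cfsg.oddCore Γ := by
  classical
  set R := Cfsg.oddCore Γ with hRdef
  by_contra hxR
  have hxodd := odd_orderOf_quad H hx
  have hkerR : σ.ker ≤ R := Cores.le_oddCore H.odd_ker
  set C0 := commSub σ (R : Set Γ) with hC0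
  haveI hC0n : C0.Normal := commSub_normal σ fun g r hr =>
    (inferInstance : R.Normal).conj_mem r hr g
  have hxC0 : x ∈ C0 := by
    intro r hr
    have h := quad_comm_core H hxodd hx hr
    rw [← map_mul, ← map_mul, show x * r = ⁅x, r⁆ * (r * x) by
      rw [commutatorElement_def]; simp [mul_assoc], map_mul, h, one_mul]
  -- some, hence every, involution centralises the core
  have hinv : ∀ t : Γ, orderOf t = 2 → t ∈ C0 := by
    by_contra hall
    push Not at hall
    obtain ⟨t, ht, htC⟩ := hall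
    refine hxR (Cores.le_oddCore (odd_card_of_no_involution fun s hs h2 => htC ?_) hxC0)
    obtain ⟨h, rfl⟩ := H.conj s t h2 ht
    exact hC0n.conj_mem s hs h
  have hII : ∀ a b : Γ, orderOf a = 2 → orderOf b = 2 → σ a * σ b = σ b * σ a :=
    fun a b ha hb => involutions_comm H hinv ha hb
  haveI hI : (commSub σ {s : Γ | orderOf s = 2}).Normal :=
    commSub_normal σ fun g r hr => orderOf_conj' g hr
  set C := C0 ⊓ commSub σ {s : Γ | orderOf s = 2} with hC
  have hCn : C.Normal := inferInstance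
  have hCI : C ≤ commSub σ {s : Γ | orderOf s = 2} := inf_le_right
  have hinvC : ∀ t : Γ, orderOf t = 2 → t ∈ C := fun t ht => ⟨hinv t ht, fun r hr => hII t r ht hr⟩
  -- a quadratic element commutes with the images of the involutions
  have hxC : x ∈ C := by
    refine ⟨hxC0, fun e he => ?_⟩
    set d := σ x - 1 with hd
    have hinv' : ∀ (y : Γ) (n : Module.End (ZMod p) V), σ y = 1 + n → n * n = 0 →
        σ e * ((1 + n) * σ e * (1 - n)) = (1 + n) * σ e * (1 - n) * σ e := by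
      intro y n hy hn
      have hy' : σ y⁻¹ = 1 - n := by
        calc σ y⁻¹ = σ y⁻¹ * ((1 + n) * (1 - n)) := by
              rw [show (1 + n) * (1 - n) = 1 by
                rw [show (1 + n) * (1 - n) = 1 - n * n by noncomm_ring, hn, sub_zero], mul_one]
          _ = 1 - n := by rw [← mul_assoc, ← hy, map_inv_mul, one_mul]
      have h := hII e (y * e * y⁻¹) he (orderOf_conj' y he)
      rw [map_mul, map_mul, hy, hy'] at h
      exact h
    have hσx : σ x = 1 + d := by rw [hd, add_sub_cancel]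
    have hσx2 : σ (x * x) = 1 + (d + d) := by
      rw [map_mul, hσx, show (1 + d) * (1 + d) = 1 + (d + d) + d * d by noncomm_ring, hx, add_zero]
    have h := comm_of_quadratic H.ne_two hx
      (show σ e * σ e = 1 by rw [← map_mul, sq_of_orderOf_two he, map_one])
      (hinv' x d hσx hx) (hinv' (x * x) (d + d) hσx2 (by
        rw [show (d + d) * (d + d) = d * d + d * d + d * d + d * d by noncomm_ring, hx]
        simp))
    rw [hσx, add_mul, mul_add, one_mul, mul_one, h]
  -- some conjugate is not radical in `C`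
  obtain ⟨g0, hg0⟩ : ∃ g : Γ, ¬ InPRad p (σ.ker.subgroupOf C)
      (⟨g * x * g⁻¹, hCn.conj_mem x hxC g⟩ : C) := by
    by_contra hall
    push Not at hall
    obtain ⟨D, hD, hxD, hpow⟩ := inPRad_lift C hCn σ.ker hxC hall
    exact hxR (hkerR (H.core D hD hpow hxD))
  set N := σ.ker.subgroupOf C with hN
  let σb : C ⧸ N →* Module.End (ZMod p) V :=
    QuotientGroup.lift N (σ.comp C.subtype) fun c hc => mem_subgroupOf.1 hc
  have hσb : ∀ c : C, σb c = σ c := fun c => rfl
  have hinj : Function.Injective σb := by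
    refine (injective_iff_map_eq_one σb).2 fun a ha => ?_
    obtain ⟨c, rfl⟩ := QuotientGroup.mk_surjective a
    exact (QuotientGroup.eq_one_iff c).2 (mem_subgroupOf.2 ha)
  set y : C := ⟨g0 * x * g0⁻¹, hCn.conj_mem x hxC g0⟩ with hy
  have hyq : (σb (y : C ⧸ N) - 1) * (σb (y : C ⧸ N) - 1) = 0 := by
    have e3 : σb (y : C ⧸ N) - 1 = σ g0 * (σ x - 1) * σ g0⁻¹ := by
      show σ (g0 * x * g0⁻¹) - 1 = _
      rw [map_mul, map_mul, mul_sub, sub_mul, mul_one, map_mul_inv]
    rw [e3, show σ g0 * (σ x - 1) * σ g0⁻¹ * (σ g0 * (σ x - 1) * σ g0⁻¹) =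
      σ g0 * ((σ x - 1) * (σ g0⁻¹ * σ g0) * (σ x - 1)) * σ g0⁻¹ by noncomm_ring, map_inv_mul,
      mul_one, hx, mul_zero, zero_mul]
  obtain ⟨fb, -, gb, -, hord, hgsq, hfg, hfix⟩ :=
    Quaternion.exists_quaternion H.ne_two σb hinj hyq fun hm => hg0 ((inPRad_iff _ _).2 hm)
  obtain ⟨f, rfl⟩ := QuotientGroup.mk_surjective fb
  obtain ⟨g, rfl⟩ := QuotientGroup.mk_surjective gb
  obtain ⟨s0, hs0, hs0σ⟩ : ∃ s, orderOf s = 2 ∧ σ s = σ ((f : Γ) * f) := by
    refine exists_involution H ?_ ?_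
    · have h := congrArg σb (sq_of_orderOf_two hord)
      rw [map_one] at h
      exact h
    · intro h
      have h1 : ((f : C ⧸ N) * (f : C ⧸ N)) = 1 := hinj (h.trans (map_one σb).symm)
      rw [h1, orderOf_one] at hord
      exact absurd hord (by norm_num)
  have hP0 : Pair σ C s0 f g := by
    refine ⟨f.2, g.2, hs0σ.symm, ?_, ?_, ?_, ?_⟩
    · rw [hs0σ]
      exact congrArg σb hgsq
    · rw [map_mul σ s0, hs0σ, ← map_mul]
      have h : (f : C ⧸ N) * g = f * f * (g * f) := by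
        rw [← hfg, commutatorElement_def]; simp [mul_assoc]
      exact congrArg σb h
    · intro w hw
      rw [hs0σ] at hw
      exact (hfix w hw).1
    · intro w hw
      rw [hs0σ] at hw
      exact (hfix w hw).2
  have hpair : ∀ t : Γ, orderOf t = 2 → ∃ f g, Pair σ C t f g := by
    intro t ht
    obtain ⟨h, rfl⟩ := H.conj s0 t hs0 ht
    exact ⟨_, _, hP0.conj hCn h⟩
  obtain ⟨s, t, hs, ht, hne, hst⟩ := H.four
  have hu : orderOf (s * t) = 2 := by
    haveI : Fact (Nat.Prime 2) := ⟨Nat.prime_two⟩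
    refine orderOf_eq_prime ?_ fun h => hne ?_
    · rw [pow_two]
      nth_rewrite 2 [hst]
      rw [mul_assoc, ← mul_assoc t, sq_of_orderOf_two ht, one_mul]
      exact sq_of_orderOf_two hs
    · rw [mul_eq_one_iff_eq_inv.1 h]
      exact inv_eq_of_mul_eq_one_right (sq_of_orderOf_two ht)
  obtain ⟨f1, g1, P1⟩ := hpair s hs
  obtain ⟨f2, g2, P2⟩ := hpair t ht
  obtain ⟨f3, g3, P3⟩ := hpair (s * t) hu
  have hCR : C ≤ commSub σ (R : Set Γ) := inf_le_left
  have hne12 : σ (s * t) ≠ 1 := H.moves _ hu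
  have hne13 : σ (s * (s * t)) ≠ 1 := by
    rw [← mul_assoc, sq_of_orderOf_two hs, one_mul]; exact H.moves _ ht
  have hne23 : σ (t * (s * t)) ≠ 1 := by
    rw [hst, ← mul_assoc, sq_of_orderOf_two ht, one_mul]; exact H.moves _ hs
  have c12 := pair_comm H hCn hCR hCI hII hs ht hne12 P1.fmem P2.fmem P1.fsq P1.ffix P2.ffix
  have c13 := pair_comm H hCn hCR hCI hII hs hu hne13 P1.fmem P3.fmem P1.fsq P1.ffix P3.ffix
  have c23 := pair_comm H hCn hCR hCI hII ht hu hne23 P2.fmem P3.fmem P2.fsq P2.ffix P3.ffix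
  have d12 := pair_comm H hCn hCR hCI hII hs ht hne12 P1.gmem P2.fmem P1.gsq P1.gfix P2.ffix
  have d13 := pair_comm H hCn hCR hCI hII hs hu hne13 P1.gmem P3.fmem P1.gsq P1.gfix P3.ffix
  -- `f1 f2 f3` squares to one
  set h := f1 * f2 * f3 with hh
  have h2 : σ (h * h) = 1 := by
    have e : σ (h * h) = σ (f1 * f1) * σ (f2 * f2) * σ (f3 * f3) := by
      simp only [hh, map_mul]
      calc σ f1 * σ f2 * σ f3 * (σ f1 * σ f2 * σ f3)
          = σ f1 * σ f2 * (σ f3 * σ f1) * σ f2 * σ f3 := by simp only [mul_assoc]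
        _ = σ f1 * σ f2 * σ f1 * (σ f3 * σ f2) * σ f3 := by rw [← c13]; simp only [mul_assoc]
        _ = σ f1 * (σ f2 * σ f1) * σ f2 * σ f3 * σ f3 := by rw [← c23]; simp only [mul_assoc]
        _ = _ := by rw [← c12]; simp only [mul_assoc]
    rw [e, P1.fsq, P2.fsq, P3.fsq, ← map_mul, ← map_mul, ← pow_two (s * t)]
    have := pow_orderOf_eq_one (s * t)
    rw [hu] at this
    rw [this, map_one]
  have hh1 : σ g1 * σ h = σ h * σ g1 := by
    by_cases h1 : σ h = 1
    · rw [h1, mul_one, one_mul]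
    · obtain ⟨w, hw, hwσ⟩ := exists_involution H h2 h1
      rw [← hwσ]
      exact hCI P1.gmem w hw
  have hfin : σ g1 * σ f1 = σ f1 * σ g1 := by
    have hU : IsUnit (σ f2 * σ f3) := by
      rw [← map_mul]; exact (Group.isUnit _).map σ
    refine hU.mul_right_cancel ?_
    calc σ g1 * σ f1 * (σ f2 * σ f3) = σ g1 * σ h := by simp only [hh, map_mul, mul_assoc]
      _ = σ f1 * σ f2 * σ f3 * σ g1 := by rw [hh1, hh, map_mul, map_mul]
      _ = σ f1 * σ g1 * (σ f2 * σ f3) := by
          simp only [mul_assoc]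
          rw [← d13, ← mul_assoc (σ f2), ← d12]
          simp only [mul_assoc]
  apply H.moves s hs
  have h := P1.comm
  rw [map_mul σ s, map_mul, map_mul, hfin] at h
  have hU : IsUnit (σ f1 * σ g1) := by
    rw [← map_mul]; exact (Group.isUnit _).map σ
  exact hU.mul_eq_right.1 h.symm

end Cfsg.Agent.Lib.BenderOne.NodeA.Stab
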